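import Mathlib
import Cfsg.Agent.H326.CGU.Irr
import Mathlib.LinearAlgebra.Projection
import Cfsg.Agent.H155.Root
import Cfsg.Agent.H364.UTorus
import Cfsg.Agent.H277.CS.PslTop
import Cfsg.Agent.ClassicalGeometry.GUBasic
import Cfsg.Agent.S0279
import Cfsg.Agent.S0280
import Cfsg.Agent.H431.CS.Defs
import Cfsg.Agent.H948.UMain
import Cfsg.Agent.H446.CS.Lin
import Cfsg.Agent.Lib.Zsigmondy
import Mathlib.GroupTheory.Sylow
import Mathlib.GroupTheory.PGroup
import Mathlib.GroupTheory.Index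
import Mathlib.GroupTheory.IndexNormal
import Cfsg.Agent.S0033
import Cfsg.Agent.S1264
import Cfsg.Agent.Lib.Cores
import Cfsg.Agent.H363.Master
import Cfsg.Agent.Lib.NilpotentCoprime
import Cfsg.Agent.Lib.MinNormal
import Cfsg.Agent.H481.TBound
import Cfsg.Agent.H902.DomLU_m3
import Cfsg.Agent.H364.Slack
import Cfsg.Agent.H277.ClsPsu
import Cfsg.Agent.H363.Frat
import Cfsg.Agent.S0044
import Cfsg.Agent.S0008
import Cfsg.Agent.H364.Reduce
import Cfsg.Agent.FastGrp
import Cfsg.Agent.Prune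
set_option linter.all false

section
prune_inst 0x7ffce8fbabf895deff7f7e7fa6d0cdfc18901fffa4dff94bffe069ff0b9f030809c5618509e000fe0ec2421410a87843f97eca3fe06bd87ffffd1df41ffbee0fa5e63508119080240f300ff683f0678e7f3ffffffffcffffffffffffffffffaeffbdffffffff

-- part: H402/CS/NumSize
section
set_option linter.all false
open scoped Cfsg.Agent.FastGrp

/-!
# `q^(n [n/2]) q^(n(n-1)/2) < |PSL_n(q)|`, `n ≥ 4` (helper402, S3677)
-/

set_option autoImplicit false

namespace Cfsg.Agent.H402.CS.NumSize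

open Finset

theorem tri (k : ℕ) : (k + 1) * (k + 1 + 3) / 2 = k * (k + 3) / 2 + (k + 2) := by
  have : (k + 1) * (k + 1 + 3) = k * (k + 3) + (k + 2) * 2 := by ring
  rw [this, Nat.add_mul_div_right _ _ (by norm_num)]

theorem prod_ge {q : ℕ} (hq : 2 ≤ q) (k : ℕ) (hk : 1 ≤ k) :
    (q ^ (k + 1) + 2) * q ^ (k * (k + 3) / 2) ≤ 2 * q ^ (k + 1) * ∏ i ∈ range k, (q ^ (i + 2) - 1) := by
  induction k, hk using Nat.le_induction with
  | base =>
    simp only [range_one, prod_singleton]
    obtain ⟨x, rfl⟩ : ∃ x, q = x + 2 := ⟨q - 2, by omega⟩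
    have h1 : (x + 2) ^ (0 + 2) - 1 = x ^ 2 + 4 * x + 3 := by
      have : (x + 2) ^ (0 + 2) = x ^ 2 + 4 * x + 3 + 1 := by ring
      omega
    rw [h1]
    norm_num
    nlinarith [sq_nonneg (x : ℤ), Nat.zero_le x, Nat.zero_le (x ^ 2), Nat.zero_le (x ^ 3), Nat.zero_le (x ^ 4)]
  | succ k hk ih =>
    rw [prod_range_succ, tri]
    set N := ∏ i ∈ range k, (q ^ (i + 2) - 1) with hN
    set E := q ^ (k * (k + 3) / 2) with hE
    set A := q ^ (k + 1) with hA
    have hA4 : 4 ≤ A := by
      calc 4 = 2 ^ 2 := by norm_num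
        _ ≤ q ^ 2 := Nat.pow_le_pow_left hq 2
        _ ≤ q ^ (k + 1) := Nat.pow_le_pow_right (by omega) (by omega)
    have e1 : q ^ (k + 1 + 1) = q * A := by rw [hA, pow_succ]; ring
    have e2 : q ^ (k + 2) = q * A := e1
    rw [e1, pow_add q (k * (k + 3) / 2) (k + 2), e2, ← hE]
    obtain ⟨B, hB⟩ : ∃ B, q * A = B + 1 := ⟨q * A - 1, by
      have : 0 < q * A := Nat.mul_pos (by omega) (by omega)
      omega⟩
    have hB2 : 3 * A + 2 ≤ 2 * (q * A) := by nlinarith
    rw [hB, Nat.add_sub_cancel]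
    -- `(B + 3) E ≤ 2 N B`
    have key : (B + 3) * E ≤ 2 * N * B := by
      have h1 : A * ((B + 3) * E) ≤ A * (2 * N * B) := by
        calc A * ((B + 3) * E) = (A * (B + 3)) * E := by ring
          _ ≤ ((A + 2) * B) * E := by
              apply Nat.mul_le_mul_right
              rw [hB] at hB2
              nlinarith
          _ = ((A + 2) * E) * B := by ring
          _ ≤ (2 * A * N) * B := Nat.mul_le_mul_right _ ih
          _ = A * (2 * N * B) := by ring
      exact Nat.le_of_mul_le_mul_left h1 (by omega)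
    calc (B + 1 + 2) * (E * (B + 1)) = (B + 1) * ((B + 3) * E) := by ring
      _ ≤ (B + 1) * (2 * N * B) := Nat.mul_le_mul_left _ key
      _ = 2 * (B + 1) * (N * B) := by ring

theorem half_lt {q : ℕ} (hq : 2 ≤ q) (k : ℕ) (hk : 1 ≤ k) :
    q ^ (k * (k + 3) / 2) < 2 * ∏ i ∈ range k, (q ^ (i + 2) - 1) := by
  have h1 := prod_ge hq k hk
  have hA : 0 < q ^ (k + 1) := pow_pos (by omega) _
  have hE : 0 < q ^ (k * (k + 3) / 2) := pow_pos (by omega) _
  by_contra hcon
  push Not at hcon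
  have h2 : 2 * q ^ (k + 1) * ∏ i ∈ range k, (q ^ (i + 2) - 1) ≤ q ^ (k + 1) * q ^ (k * (k + 3) / 2) := by
    calc 2 * q ^ (k + 1) * ∏ i ∈ range k, (q ^ (i + 2) - 1) =
          q ^ (k + 1) * (2 * ∏ i ∈ range k, (q ^ (i + 2) - 1)) := by ring
      _ ≤ _ := Nat.mul_le_mul_left _ hcon
  have h3 := h1.trans h2
  rw [add_mul] at h3
  omega

theorem four {q : ℕ} (hq : 2 ≤ q) :
    Nat.gcd 4 (q - 1) * q ^ 8 < (q ^ 2 - 1) * (q ^ 3 - 1) * (q ^ 4 - 1) := by
  rcases (by omega : q = 2 ∨ q = 3 ∨ q = 4 ∨ 5 ≤ q) with rfl | rfl | rfl | h5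
  · decide
  · decide
  · decide
  · have h1 : Nat.gcd 4 (q - 1) ≤ 4 := Nat.gcd_le_left _ (by norm_num)
    refine lt_of_le_of_lt (Nat.mul_le_mul_right _ h1) ?_
    obtain ⟨x, rfl⟩ : ∃ x, q = x + 5 := ⟨q - 5, by omega⟩
    have e2 : (x + 5) ^ 2 - 1 = x ^ 2 + 10 * x + 24 := by
      have : (x + 5) ^ 2 = x ^ 2 + 10 * x + 24 + 1 := by ring
      omega
    have e3 : (x + 5) ^ 3 - 1 = x ^ 3 + 15 * x ^ 2 + 75 * x + 124 := by
      have : (x + 5) ^ 3 = x ^ 3 + 15 * x ^ 2 + 75 * x + 124 + 1 := by ring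
      omega
    have e4 : (x + 5) ^ 4 - 1 = x ^ 4 + 20 * x ^ 3 + 150 * x ^ 2 + 500 * x + 624 := by
      have : (x + 5) ^ 4 = x ^ 4 + 20 * x ^ 3 + 150 * x ^ 2 + 500 * x + 624 + 1 := by ring
      omega
    rw [e2, e3, e4]
    ring_nf
    have : ∀ i : ℕ, 0 ≤ x ^ i := fun i => Nat.zero_le _
    omega

/-- **The size condition.** -/
theorem size {q n M : ℕ} (hq : 2 ≤ q) (hn : 4 ≤ n)
    (hM : Nat.gcd n (q - 1) * M = q ^ (n * (n - 1) / 2) * ∏ i ∈ range (n - 1), (q ^ (i + 2) - 1)) :
    q ^ (n * (n / 2)) * q ^ (n * (n - 1) / 2) < M := by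
  set d := Nat.gcd n (q - 1) with hd
  set N := ∏ i ∈ range (n - 1), (q ^ (i + 2) - 1) with hN
  have hd0 : 0 < d := Nat.gcd_pos_of_pos_left _ (by omega)
  have hdq : d ≤ q - 1 := Nat.gcd_le_right _ (by omega)
  have hQ : 0 < q ^ (n * (n - 1) / 2) := pow_pos (by omega) _
  -- it suffices
  have key : d * q ^ (n * (n / 2)) < N := by
    rcases (by omega : n = 4 ∨ 5 ≤ n) with rfl | h5
    · have h1 := four hq
      have h2 : N = (q ^ 2 - 1) * (q ^ 3 - 1) * (q ^ 4 - 1) := by
        rw [hN]; simp [prod_range_succ]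
      rw [h2, hd]
      exact h1
    · obtain ⟨k, rfl⟩ : ∃ k, n = k + 1 := ⟨n - 1, by omega⟩
      rw [Nat.add_sub_cancel] at hN
      have h1 := half_lt hq k (by omega)
      rw [← hN] at h1
      have h2 : 2 * d ≤ q ^ 2 := by
        have h3 : 2 * d ≤ 2 * (q - 1) := by omega
        refine h3.trans ?_
        obtain ⟨x, rfl⟩ : ∃ x, q = x + 1 := ⟨q - 1, by omega⟩
        rw [Nat.add_sub_cancel]
        nlinarith [sq_nonneg ((x : ℤ) - 1), sq_nonneg (x : ℤ)]
      have h3 : (k + 1) * ((k + 1) / 2) + 2 ≤ k * (k + 3) / 2 := by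
        rw [Nat.le_div_iff_mul_le (by norm_num)]
        rcases Nat.even_or_odd (k + 1) with ⟨j, hj⟩ | ⟨j, hj⟩
        · have : (k + 1) / 2 = j := by omega
          rw [this]
          obtain rfl : k = 2 * j - 1 := by omega
          obtain ⟨i, rfl⟩ : ∃ i, j = i + 3 := ⟨j - 3, by omega⟩
          have e : 2 * (i + 3) - 1 = 2 * i + 5 := by omega
          rw [e]
          nlinarith
        · have : (k + 1) / 2 = j := by omega
          rw [this]
          obtain rfl : k = 2 * j := by omega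
          obtain ⟨i, rfl⟩ : ∃ i, j = i + 2 := ⟨j - 2, by omega⟩
          nlinarith
      have h4 : 2 * (d * q ^ ((k + 1) * ((k + 1) / 2))) ≤ q ^ (k * (k + 3) / 2) := by
        calc 2 * (d * q ^ ((k + 1) * ((k + 1) / 2))) = (2 * d) * q ^ ((k + 1) * ((k + 1) / 2)) := by ring
          _ ≤ q ^ 2 * q ^ ((k + 1) * ((k + 1) / 2)) := Nat.mul_le_mul_right _ h2
          _ = q ^ ((k + 1) * ((k + 1) / 2) + 2) := by rw [← pow_add, add_comm]
          _ ≤ _ := Nat.pow_le_pow_right (by omega) h3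
      omega
  have h1 : d * (q ^ (n * (n / 2)) * q ^ (n * (n - 1) / 2)) < d * M := by
    rw [hM]
    calc d * (q ^ (n * (n / 2)) * q ^ (n * (n - 1) / 2)) = q ^ (n * (n - 1) / 2) * (d * q ^ (n * (n / 2))) := by ring
      _ < _ := Nat.mul_lt_mul_of_pos_left key hQ
  exact Nat.lt_of_mul_lt_mul_left h1

end Cfsg.Agent.H402.CS.NumSize
end

-- part: H446/CS/Eig
section
prune_inst 0x315001007680100000000510c2001e72b2000000004b0000a0200b020f892c0080028e60aa2005120880008400380048135c00a00200000000000000011e05811800040040810008800000000000000000000000300000000000000000010000200000000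
set_option linter.all false
open scoped Cfsg.Agent.FastGrp

-- part: H326/CGU/Lin
section
/-!
# The centraliser of an isometry of linear type (helper326)

`F` a finite field, `τ : F →+* F` the identity or an involution, `B : V →ₛₗ[τ] V →ₗ[F] F` nondegenerate with
`B v u = ε τ (B u v)`; `w` an isometry of `B`, `p` irreducible, `p'` coprime to `p`, `(p p')(w) = 0`, the kernels of
`p(w)` and `p'(w)` totally isotropic.

* `isotropic_of_coprime`, `isotropic_of_coprime'` : the kernels are totally isotropic if `p' = reverse (p ^ τ)`;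
* `card_cent_linear` : the group of isometries which commute with `w` has order `|GL_m(|F| ^ k)|`, `k = deg p`,
  `dim V = 2 k m`.
-/

set_option autoImplicit false

namespace Cfsg.Agent.H326.CGU

open Module Polynomial

universe u v

section Iso

variable {F : Type u} {V : Type v} [Field F] [AddCommGroup V] [Module F V] {τ : F →+* F}
  {B : V →ₛₗ[τ] V →ₗ[F] F}

theorem aeval_reflect {W W' : Module.End F V} (h : W' * W = 1) (N : ℕ) (a : F[X]) (ha : a.natDegree ≤ N) :
    aeval W (reflect N a) = aeval W' a * W ^ N := by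
  have hpow : ∀ n : ℕ, W' ^ n * W ^ n = 1 := by
    intro n
    induction n with
    | zero => simp
    | succ n ih =>
      rw [pow_succ, pow_succ', mul_assoc, ← mul_assoc W' W, h, one_mul, ih]
  refine Polynomial.induction_with_natDegree_le
    (fun a => aeval W (reflect N a) = aeval W' a * W ^ N) N ?_ ?_ ?_ a ha
  · simp
  · intro n r _ hn
    show aeval W (reflect N (C r * X ^ n)) = aeval W' (C r * X ^ n) * W ^ N
    rw [reflect_C_mul_X_pow, revAt_le hn, map_mul, map_mul, aeval_C, aeval_C, map_pow, map_pow, aeval_X, aeval_X,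
      mul_assoc]
    congr 1
    have h1 : W ^ N = W ^ n * W ^ (N - n) := by rw [← pow_add, Nat.add_sub_cancel' hn]
    rw [h1, ← mul_assoc, hpow, one_mul]
  · intro f g _ _ hf hg
    show aeval W (reflect N (f + g)) = aeval W' (f + g) * W ^ N
    rw [reflect_add, map_add, map_add, add_mul, hf, hg]

/-- the dual polynomial -/
theorem aeval_dual {w : V ≃ₗ[F] V} (hw : ∀ u v, B (w u) (w v) = B u v) (p : F[X]) (u v : V) :
    B (aeval (w : V →ₗ[F] V) p u) (((w : V →ₗ[F] V) ^ (p.map τ).natDegree) v) =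
      B u (aeval (w : V →ₗ[F] V) (p.map τ).reverse v) := by
  have hW'W : ((w.symm : V →ₗ[F] V) : Module.End F V) * (w : V →ₗ[F] V) = 1 := by ext v; simp
  have hadj0 : ∀ u v, B ((w : V →ₗ[F] V) u) v = B u ((w.symm : V →ₗ[F] V) v) := by
    intro u v
    have h1 := hw u (w.symm v)
    rw [w.apply_symm_apply] at h1
    exact h1
  have h1 := aeval_reflect hW'W (p.map τ).natDegree (p.map τ) le_rfl
  have h2 : aeval (w.symm : V →ₗ[F] V) (p.map τ) =
      p.eval₂ ((algebraMap F (Module.End F V)).comp τ) (w.symm : V →ₗ[F] V) := by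
    rw [aeval_def, eval₂_map]
  rw [aeval_adj hadj0, reverse, h1, h2]
  rfl

theorem isotropic_of_coprime {w : V ≃ₗ[F] V} (hw : ∀ u v, B (w u) (w v) = B u v) {p : F[X]}
    (hc : IsCoprime p (p.map τ).reverse) (u v : V) (hu : aeval (w : V →ₗ[F] V) p u = 0)
    (hv : aeval (w : V →ₗ[F] V) p v = 0) : B u v = 0 := by
  obtain ⟨a, b, hab⟩ := hc
  have h1 : v = aeval (w : V →ₗ[F] V) (p.map τ).reverse (aeval (w : V →ₗ[F] V) b v) := by
    have h2 := congrArg (fun f => aeval (w : V →ₗ[F] V) f v) hab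
    simp only [map_add, map_one, LinearMap.add_apply, Module.End.one_apply] at h2
    rw [map_mul, Module.End.mul_apply, hv, map_zero, zero_add, mul_comm b, map_mul, Module.End.mul_apply] at h2
    exact h2.symm
  rw [h1, ← aeval_dual hw, hu, map_zero, LinearMap.zero_apply]

theorem isotropic_of_coprime' {w : V ≃ₗ[F] V} (hw : ∀ u v, B (w u) (w v) = B u v) {p : F[X]}
    (hc : IsCoprime p (p.map τ).reverse) (u v : V) (hu : aeval (w : V →ₗ[F] V) (p.map τ).reverse u = 0)
    (hv : aeval (w : V →ₗ[F] V) (p.map τ).reverse v = 0) : B u v = 0 := by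
  obtain ⟨a, b, hab⟩ := hc
  have h1 : u = aeval (w : V →ₗ[F] V) p (aeval (w : V →ₗ[F] V) a u) := by
    have h2 := congrArg (fun f => aeval (w : V →ₗ[F] V) f u) hab
    simp only [map_add, map_one, LinearMap.add_apply, Module.End.one_apply] at h2
    rw [mul_comm a, map_mul, Module.End.mul_apply, map_mul, Module.End.mul_apply, hu, map_zero, add_zero] at h2
    exact h2.symm
  -- `v = w ^ N v'`
  obtain ⟨v', hv'⟩ : ∃ v', ((w : V →ₗ[F] V) ^ (p.map τ).natDegree) v' = v := by
    have h3 : Function.Surjective ⇑(w : V →ₗ[F] V) := w.surjective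
    have h4 := (h3.iterate (p.map τ).natDegree) v
    rwa [← Module.End.coe_pow] at h4
  have h5 : aeval (w : V →ₗ[F] V) (p.map τ).reverse v' = 0 := by
    have h6 : Function.Injective ⇑(w : V →ₗ[F] V) := w.injective
    have h7 := h6.iterate (p.map τ).natDegree
    rw [← Module.End.coe_pow] at h7
    apply h7
    rw [map_zero, ← hv, ← hv']
    have h8 : Commute ((w : V →ₗ[F] V) ^ (p.map τ).natDegree) (aeval (w : V →ₗ[F] V) (p.map τ).reverse) := by
      have h9 : aeval (w : V →ₗ[F] V) (X ^ (p.map τ).natDegree : F[X]) =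
          (w : V →ₗ[F] V) ^ (p.map τ).natDegree := by rw [map_pow, aeval_X]
      rw [← h9]
      exact (Commute.all _ _).map (aeval (w : V →ₗ[F] V))
    exact LinearMap.congr_fun h8.eq v'
  rw [h1, ← hv', aeval_dual hw, h5, map_zero]

end Iso

section Restrict

variable {F : Type u} {V : Type v} [Field F] [AddCommGroup V] [Module F V]

theorem aeval_restrict {W : Module.End F V} {U : Submodule F V} (hU : ∀ v ∈ U, W v ∈ U) (a : F[X]) (v : U) :
    ((aeval (W.restrict hU) a v : U) : V) = aeval W a (v : V) := by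
  have hpow : ∀ (n : ℕ) (v : U), (((W.restrict hU) ^ n) v : V) = (W ^ n) (v : V) := by
    intro n
    induction n with
    | zero => intro v; simp only [_root_.pow_zero, _root_.Module.End.one_apply]
    | succ n ih =>
      intro v
      rw [pow_succ, Module.End.mul_apply, ih, pow_succ, Module.End.mul_apply]
      rfl
  induction a using Polynomial.induction_on' with
  | add p q hp hq => rw [map_add, map_add, LinearMap.add_apply, LinearMap.add_apply, Submodule.coe_add, hp, hq]
  | monomial n a =>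
    rw [aeval_monomial, aeval_monomial, Module.End.mul_apply, Module.End.mul_apply, Module.algebraMap_end_apply,
      Module.algebraMap_end_apply, Submodule.coe_smul, hpow]

end Restrict

section Main

variable {F : Type u} {V : Type v} [Field F] [Fintype F] [AddCommGroup V] [Module F V] [FiniteDimensional F V]
  {τ : F →+* F}

/-- **the centraliser of an isometry**, linear type, abstract form: `V = V₁ ⊕ V₂`, totally isotropic and invariant -/
theorem card_cent_pair (B : V →ₛₗ[τ] V →ₗ[F] F) {ε : F}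
    (hs : ∀ u v, B v u = ε * τ (B u v)) (hnd : ∀ u, (∀ v, B u v = 0) → u = 0) (w : V ≃ₗ[F] V)
    (hw : ∀ u v, B (w u) (w v) = B u v) {V₁ V₂ : Submodule F V} (hc : IsCompl V₁ V₂)
    (h1 : ∀ u ∈ V₁, ∀ v ∈ V₁, B u v = 0) (h2 : ∀ u ∈ V₂, ∀ v ∈ V₂, B u v = 0)
    (hw1 : ∀ v ∈ V₁, w v ∈ V₁) (hw2 : ∀ v ∈ V₂, w v ∈ V₂)
    (hg1 : ∀ g : V ≃ₗ[F] V, (∀ v, g (w v) = w (g v)) → ∀ v ∈ V₁, g v ∈ V₁)
    (hg2 : ∀ g : V ≃ₗ[F] V, (∀ v, g (w v) = w (g v)) → ∀ v ∈ V₂, g v ∈ V₂) :
    finrank F V = 2 * finrank F V₁ ∧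
      Nat.card {g : V ≃ₗ[F] V // (∀ u v, B (g u) (g v) = B u v) ∧ ∀ v, g (w v) = w (g v)} =
        Nat.card {A : V₁ ≃ₗ[F] V₁ // ∀ v, A ((w : V →ₗ[F] V).restrict hw1 v) = (w : V →ₗ[F] V).restrict hw1 (A v)} := by
  have : Finite V := Module.finite_of_finite F
  have hdec : ∀ x : V, ∃ y ∈ V₁, ∃ z ∈ V₂, x = y + z := by
    intro x
    have hx : x ∈ V₁ ⊔ V₂ := by rw [hc.sup_eq_top]; trivial
    obtain ⟨y, hy, z, hz, h⟩ := Submodule.mem_sup.1 hx
    exact ⟨y, hy, z, hz, h.symm⟩
  have nd1 : ∀ u ∈ V₁, (∀ v ∈ V₂, B u v = 0) → u = 0 := by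
    intro u hu h
    apply hnd
    intro x
    obtain ⟨y, hy, z, hz, rfl⟩ := hdec x
    rw [map_add, h1 u hu y hy, h z hz, add_zero]
  have nd2 : ∀ u ∈ V₂, (∀ v ∈ V₁, B u v = 0) → u = 0 := by
    intro u hu h
    apply hnd
    intro x
    obtain ⟨y, hy, z, hz, rfl⟩ := hdec x
    rw [map_add, h y hy, h2 u hu z hz, add_zero]
  let Ψ₁ : V₁ → (V₂ →ₗ[F] F) := fun u => (B u).comp V₂.subtype
  let Ψ₂ : V₂ → (V₁ →ₗ[F] F) := fun u => (B u).comp V₁.subtype
  have hΨ₁ : Function.Injective Ψ₁ := by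
    intro u u' h
    apply Subtype.ext
    rw [← sub_eq_zero]
    refine nd1 _ (V₁.sub_mem u.2 u'.2) fun v hv => ?_
    rw [map_sub, LinearMap.sub_apply, sub_eq_zero]
    exact LinearMap.congr_fun h ⟨v, hv⟩
  have hΨ₂ : Function.Injective Ψ₂ := by
    intro u u' h
    apply Subtype.ext
    rw [← sub_eq_zero]
    refine nd2 _ (V₂.sub_mem u.2 u'.2) fun v hv => ?_
    rw [map_sub, LinearMap.sub_apply, sub_eq_zero]
    exact LinearMap.congr_fun h ⟨v, hv⟩
  have hdual : ∀ U : Submodule F V, Finite (U →ₗ[F] F) ∧ Nat.card (U →ₗ[F] F) = Nat.card U := by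
    intro U
    have hf : Finite (U →ₗ[F] F) := Module.finite_of_finite F
    refine ⟨hf, ?_⟩
    rw [Module.natCard_eq_pow_finrank (K := F) (V := U →ₗ[F] F), Module.natCard_eq_pow_finrank (K := F) (V := U)]
    congr 1
    exact Subspace.dual_finrank_eq (K := F) (V := U)
  have hf1 := (hdual V₁).1
  have hf2 := (hdual V₂).1
  have hcard : Nat.card V₁ = Nat.card V₂ := by
    apply le_antisymm
    · rw [← (hdual V₂).2]; exact Nat.card_le_card_of_injective Ψ₁ hΨ₁
    · rw [← (hdual V₁).2]; exact Nat.card_le_card_of_injective Ψ₂ hΨ₂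
  have hsurj : Function.Surjective Ψ₂ :=
    (hΨ₂.bijective_of_nat_card_le (by rw [(hdual V₁).2, hcard])).2
  have hfr : finrank F V₁ = finrank F V₂ := by
    have h3 := hcard
    rw [Module.natCard_eq_pow_finrank (K := F) (V := V₁), Module.natCard_eq_pow_finrank (K := F) (V := V₂)] at h3
    refine Nat.pow_right_injective ?_ h3
    rw [Nat.card_eq_fintype_card]
    exact Fintype.one_lt_card
  refine ⟨?_, ?_⟩
  · rw [← Submodule.finrank_add_eq_of_isCompl hc, ← hfr]
    ring
  -- restriction to `V₁`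
  let R : (g : V ≃ₗ[F] V) → (∀ v, g (w v) = w (g v)) → (V₁ ≃ₗ[F] V₁) := fun g hg =>
    LinearEquiv.ofInjectiveEndo ((g : V →ₗ[F] V).restrict (hg1 g hg)) (by
      intro a b hab
      apply Subtype.ext
      exact g.injective (congrArg Subtype.val hab))
  have hR : ∀ g hg (v : V₁), ((R g hg v : V₁) : V) = g (v : V) := fun g hg v => rfl
  refine Nat.card_congr (Equiv.ofBijective (fun g => ⟨R g.1 g.2.2, fun v => Subtype.ext ?_⟩) ⟨?_, ?_⟩)
  · show g.1 (w (v : V)) = w (g.1 (v : V))
    exact g.2.2 v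
  · -- injectivity
    rintro ⟨g, hg, hgw⟩ ⟨g', hg', hgw'⟩ h
    apply Subtype.ext
    have h3 : ∀ u ∈ V₁, g u = g' u := by
      intro u hu
      have h4 := congrArg (fun A => ((A.1 ⟨u, hu⟩ : V₁) : V)) h
      exact h4
    have h5 : ∀ u ∈ V₂, g u = g' u := by
      intro u hu
      rw [← sub_eq_zero]
      refine nd2 _ (V₂.sub_mem (hg2 g hgw u hu) (hg2 g' hgw' u hu)) fun v hv => ?_
      obtain ⟨v', hv'⟩ := (R g hgw).surjective ⟨v, hv⟩
      have h6 : g (v' : V) = v := congrArg Subtype.val hv'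
      rw [map_sub, LinearMap.sub_apply, sub_eq_zero, ← h6, hg, h3 _ v'.2, hg']
    ext x
    obtain ⟨y, hy, z, hz, rfl⟩ := hdec x
    show g (y + z) = g' (y + z)
    rw [map_add, map_add, h3 y hy, h5 z hz]
  · -- surjectivity
    rintro ⟨A, hA⟩
    have hA' : ∀ v : V₁, ((A ((w : V →ₗ[F] V).restrict hw1 v) : V₁) : V) = w (A v : V₁) := fun v =>
      congrArg Subtype.val (hA v)
    have hex : ∀ v : V₂, ∃ v' : V₂, ∀ u : V₁, B (v' : V) (A u : V₁) = B (v : V) (u : V) := by
      intro v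
      obtain ⟨v', hv'⟩ := hsurj ((Ψ₂ v).comp (A.symm : V₁ →ₗ[F] V₁))
      refine ⟨v', fun u => ?_⟩
      have h3 := LinearMap.congr_fun hv' (A u)
      have h4 : ((Ψ₂ v).comp (A.symm : V₁ →ₗ[F] V₁)) (A u) = Ψ₂ v u := by
        show Ψ₂ v (A.symm (A u)) = Ψ₂ v u
        rw [A.symm_apply_apply]
      rw [h4] at h3
      exact h3
    choose A₂ hA₂ using hex
    have huniq : ∀ x y : V₂, (∀ u : V₁, B (x : V) (A u : V₁) = B (y : V) (A u : V₁)) → x = y := by
      intro x y h
      apply Subtype.ext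
      rw [← sub_eq_zero]
      refine nd2 _ (V₂.sub_mem x.2 y.2) fun v hv => ?_
      obtain ⟨u, hu⟩ := A.surjective ⟨v, hv⟩
      have h6 : ((A u : V₁) : V) = v := congrArg Subtype.val hu
      rw [map_sub, LinearMap.sub_apply, sub_eq_zero, ← h6, h]
    let A₂l : V₂ →ₗ[F] V₂ :=
      { toFun := A₂
        map_add' := fun x y => huniq _ _ fun u => by
          rw [hA₂, Submodule.coe_add, Submodule.coe_add, map_add, map_add, LinearMap.add_apply, LinearMap.add_apply,
            hA₂, hA₂]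
        map_smul' := fun c x => huniq _ _ fun u => by
          rw [hA₂, RingHom.id_apply, Submodule.coe_smul, Submodule.coe_smul, LinearMap.map_smulₛₗ₂,
            LinearMap.map_smulₛₗ₂, hA₂] }
    have hA₂i : Function.Injective A₂l := by
      rw [injective_iff_map_eq_zero]
      intro x hx
      apply Subtype.ext
      refine nd2 _ x.2 fun v hv => ?_
      have h3 := hA₂ x ⟨v, hv⟩
      have h4 : A₂ x = 0 := hx
      rw [h4] at h3
      rw [← h3, Submodule.coe_zero, map_zero, LinearMap.zero_apply]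
    let A₂e : V₂ ≃ₗ[F] V₂ := LinearEquiv.ofInjectiveEndo A₂l hA₂i
    have hA₂e : ∀ v, A₂e v = A₂ v := fun v => rfl
    let e := Submodule.prodEquivOfIsCompl V₁ V₂ hc
    let g : V ≃ₗ[F] V := (e.symm.trans (A.prodCongr A₂e)).trans e
    have hgx : ∀ (y : V₁) (z : V₂), g ((y : V) + z) = (A y : V₁) + (A₂ z : V₂) := by
      intro y z
      have h3 : e.symm ((y : V) + z) = (y, z) := by
        rw [LinearEquiv.symm_apply_eq]
        rfl
      show e ((A.prodCongr A₂e) (e.symm ((y : V) + z))) = _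
      rw [h3]
      rfl
    have hdec' : ∀ x : V, ∃ (y : V₁) (z : V₂), x = (y : V) + z := by
      intro x
      obtain ⟨y, hy, z, hz, rfl⟩ := hdec x
      exact ⟨⟨y, hy⟩, ⟨z, hz⟩, rfl⟩
    have hBB : ∀ (y : V₁) (z : V₂), B ((A y : V₁) : V) ((A₂ z : V₂) : V) = B (y : V) (z : V) := by
      intro y z
      rw [hs ((A₂ z : V₂) : V), hA₂, ← hs]
    have hgi : ∀ u v, B (g u) (g v) = B u v := by
      intro u v
      obtain ⟨y, z, rfl⟩ := hdec' u
      obtain ⟨y', z', rfl⟩ := hdec' v
      rw [hgx, hgx]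
      simp only [map_add, LinearMap.add_apply]
      rw [h1 _ (A y).2 _ (A y').2, h2 _ (A₂ z).2 _ (A₂ z').2, h1 _ y.2 _ y'.2, h2 _ z.2 _ z'.2, hBB, hA₂]
    have hA₂w : ∀ z : V₂, ((A₂ ⟨w z, hw2 _ z.2⟩ : V₂) : V) = w (A₂ z : V₂) := by
      intro z
      have h3 : A₂ ⟨w z, hw2 _ z.2⟩ = ⟨w (A₂ z : V₂), hw2 _ (A₂ z).2⟩ := by
        refine huniq _ _ fun u => ?_
        rw [hA₂]
        -- `u = w u'`
        obtain ⟨u', hu'⟩ := (LinearEquiv.ofInjectiveEndo ((w : V →ₗ[F] V).restrict hw1) (by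
          intro a b hab
          apply Subtype.ext
          exact w.injective (congrArg Subtype.val hab))).surjective u
        have hu'' : (w : V →ₗ[F] V).restrict hw1 u' = u := hu'
        rw [← hu'']
        show B (w (z : V)) (w (u' : V)) = B (w (A₂ z : V₂)) ((A ((w : V →ₗ[F] V).restrict hw1 u') : V₁) : V)
        rw [hA', hw, hw, hA₂]
      rw [h3]
    have hgw : ∀ v, g (w v) = w (g v) := by
      intro v
      obtain ⟨y, z, rfl⟩ := hdec' v
      have h3 : w ((y : V) + z) = (((w : V →ₗ[F] V).restrict hw1 y : V₁) : V) + ((⟨w z, hw2 _ z.2⟩ : V₂) : V) := by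
        rw [map_add]; rfl
      rw [h3, hgx, hgx, map_add, hA', hA₂w]
    refine ⟨⟨g, hgi, hgw⟩, Subtype.ext ?_⟩
    ext v
    show g (v : V) = (A v : V₁)
    have h3 := hgx v 0
    rw [Submodule.coe_zero, add_zero] at h3
    have h4 : A₂ 0 = 0 := A₂l.map_zero
    rw [h3, h4, Submodule.coe_zero, add_zero]

/-- **the centraliser of an isometry**, linear type -/
theorem card_cent_linear (B : V →ₛₗ[τ] V →ₗ[F] F) {ε : F}
    (hs : ∀ u v, B v u = ε * τ (B u v)) (hnd : ∀ u, (∀ v, B u v = 0) → u = 0) (w : V ≃ₗ[F] V)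
    (hw : ∀ u v, B (w u) (w v) = B u v) {p p' : F[X]} (hp : Irreducible p) (hc : IsCoprime p p')
    (hmin : aeval (w : V →ₗ[F] V) (p * p') = 0)
    (h1 : ∀ u v, aeval (w : V →ₗ[F] V) p u = 0 → aeval (w : V →ₗ[F] V) p v = 0 → B u v = 0)
    (h2 : ∀ u v, aeval (w : V →ₗ[F] V) p' u = 0 → aeval (w : V →ₗ[F] V) p' v = 0 → B u v = 0) :
    ∃ m : ℕ, finrank F V = 2 * p.natDegree * m ∧
      Nat.card {g : V ≃ₗ[F] V // (∀ u v, B (g u) (g v) = B u v) ∧ ∀ v, g (w v) = w (g v)} =
        glCard m (Fintype.card F ^ p.natDegree) := by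
  have hw1 : ∀ v ∈ LinearMap.ker (aeval (w : V →ₗ[F] V) p), w v ∈ LinearMap.ker (aeval (w : V →ₗ[F] V) p) := by
    intro v hv
    rw [LinearMap.mem_ker] at hv ⊢
    have h3 := comm_aeval (W := (w : V →ₗ[F] V)) (g := (w : V →ₗ[F] V)) (fun v => rfl) p v
    rw [hv, map_zero] at h3
    exact h3.symm
  have hw2 : ∀ v ∈ LinearMap.ker (aeval (w : V →ₗ[F] V) p'), w v ∈ LinearMap.ker (aeval (w : V →ₗ[F] V) p') := by
    intro v hv
    rw [LinearMap.mem_ker] at hv ⊢
    have h3 := comm_aeval (W := (w : V →ₗ[F] V)) (g := (w : V →ₗ[F] V)) (fun v => rfl) p' v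
    rw [hv, map_zero] at h3
    exact h3.symm
  have hcompl : IsCompl (LinearMap.ker (aeval (w : V →ₗ[F] V) p)) (LinearMap.ker (aeval (w : V →ₗ[F] V) p')) := by
    refine ⟨Polynomial.disjoint_ker_aeval_of_isCoprime _ hc, ?_⟩
    rw [codisjoint_iff, Polynomial.sup_ker_aeval_eq_ker_aeval_mul_of_coprime _ hc, hmin, LinearMap.ker_zero]
  obtain ⟨h3, h4⟩ := card_cent_pair B hs hnd w hw hcompl
    (fun u hu v hv => h1 u v (LinearMap.mem_ker.1 hu) (LinearMap.mem_ker.1 hv))
    (fun u hu v hv => h2 u v (LinearMap.mem_ker.1 hu) (LinearMap.mem_ker.1 hv)) hw1 hw2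
    (fun g hg v hv => by
      rw [LinearMap.mem_ker] at hv ⊢
      have h5 := comm_aeval (W := (w : V →ₗ[F] V)) (g := (g : V →ₗ[F] V)) hg p v
      rw [hv, map_zero] at h5
      exact h5.symm)
    (fun g hg v hv => by
      rw [LinearMap.mem_ker] at hv ⊢
      have h5 := comm_aeval (W := (w : V →ₗ[F] V)) (g := (g : V →ₗ[F] V)) hg p' v
      rw [hv, map_zero] at h5
      exact h5.symm)
  have hW : aeval ((w : V →ₗ[F] V).restrict hw1) p = 0 := by
    ext v
    rw [aeval_restrict hw1 p v, LinearMap.zero_apply, Submodule.coe_zero]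
    exact LinearMap.mem_ker.1 v.2
  obtain ⟨m, h5, h6⟩ := card_cent_irr hp hW
  refine ⟨m, ?_, ?_⟩
  · rw [h3, h5, mul_assoc]
  · rw [h4, h6]

/-- linear type with the dual polynomial -/
theorem card_cent_linear' (B : V →ₛₗ[τ] V →ₗ[F] F) {ε : F}
    (hs : ∀ u v, B v u = ε * τ (B u v)) (hnd : ∀ u, (∀ v, B u v = 0) → u = 0) (w : V ≃ₗ[F] V)
    (hw : ∀ u v, B (w u) (w v) = B u v) {p : F[X]} (hp : Irreducible p) (hc : IsCoprime p (p.map τ).reverse)
    (hmin : aeval (w : V →ₗ[F] V) (p * (p.map τ).reverse) = 0) :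
    ∃ m : ℕ, finrank F V = 2 * p.natDegree * m ∧
      Nat.card {g : V ≃ₗ[F] V // (∀ u v, B (g u) (g v) = B u v) ∧ ∀ v, g (w v) = w (g v)} =
        glCard m (Fintype.card F ^ p.natDegree) :=
  card_cent_linear B hs hnd w hw hp hc hmin (fun u v => isotropic_of_coprime hw hc u v)
    (fun u v => isotropic_of_coprime' hw hc u v)

end Main

end Cfsg.Agent.H326.CGU
end

-- part: H446/CS/Cls
section
/-!
# Centralizers in unitary groups of the elements of an irreducible torus (helper446)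

`w` an isometry of a hermitian space over `F`, `|F| = q²`, such that `P(w) = 0` for all polynomials `P` with the roots
`a`, `a ^ (-q)`: the centralizer is `GU_m(q^k)` (`k` odd) or `GL_m(q^k)` (`k` even), `k m` the dimension.
-/

set_option autoImplicit false

namespace Cfsg.Agent.H446.CS

open Module Polynomial Cfsg.Agent.H326.CGU

universe u v w

/-- the order of `GU_m(q^k)` (`k` odd), `GL_m(q^k)` (`k` even) -/
def cc (q m k : ℕ) : ℕ := (q ^ k) ^ (m * (m - 1) / 2) *
  ∏ i ∈ Finset.range m, (if Odd k then (if Even i then (q ^ k) ^ (i + 1) + 1 else (q ^ k) ^ (i + 1) - 1)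
    else (q ^ k) ^ (i + 1) - 1)

theorem cc_odd {q m k : ℕ} (hk : Odd k) : cc q m k = guCard m (q ^ k) := by
  simp only [cc, guCard, if_pos hk]

theorem cc_even {q m k : ℕ} (hk : ¬ Odd k) :
    cc q m k = ∏ i ∈ Finset.range m, ((q ^ k) ^ m - (q ^ k) ^ i) := by
  have h := glCard_eq m (q ^ k)
  rw [glCard, ← Finset.prod_range (fun i => (q ^ k) ^ m - (q ^ k) ^ i)] at h
  rw [h]
  simp only [cc, if_neg hk]

section parity

variable {F : Type u} [Field F] [Fintype F] {q : ℕ}

theorem pow_eq_self_iff {L : Type v} [Field L] [Algebra F L] {l : L} (hl : IsIntegral F l) (m : ℕ) :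
    l ^ (Nat.card F ^ m) = l ↔ (minpoly F l).natDegree ∣ m := by
  rw [(minpoly.irreducible hl).natDegree_dvd_iff_dvd_X_pow_card_pow_sub_X]
  rw [minpoly.dvd_iff, map_sub, map_pow, aeval_X, sub_eq_zero]

theorem pow_card_injective {L : Type v} [Field L] [Algebra F L] :
    Function.Injective (fun l : L => l ^ Nat.card F) := by
  have h1 : Function.Injective (FiniteField.frobeniusAlgHom F L) := RingHom.injective _
  rw [FiniteField.coe_frobeniusAlgHom, ← Nat.card_eq_fintype_card] at h1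
  exact h1

/-- If `a` and `a ^ (-q)` are conjugate over `F`, `|F| = q²`, then `a` has odd degree. -/
theorem odd_of_fin (hF : Fintype.card F = q ^ 2) {L : Type v} [Field L] [Finite L] [Algebra F L] {a : L}
    (h : minpoly F ((a ^ q)⁻¹) = minpoly F a) : Odd (minpoly F a).natDegree := by
  obtain ⟨i, hi⟩ := Cfsg.Agent.H155.Root.exists_frob h.symm
  have hFc : Nat.card F = q ^ 2 := by rw [Nat.card_eq_fintype_card, hF]
  have hint : IsIntegral F a := IsIntegral.of_finite F a
  have h1 : a ^ (Nat.card F) = a ^ (Nat.card F ^ (2 * i)) := by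
    have h2 : ((a ^ q)⁻¹ ^ q)⁻¹ = a ^ (Nat.card F) := by
      rw [inv_pow, inv_inv, ← pow_mul, ← sq, hFc]
    have h3 : ((a ^ q)⁻¹ ^ q)⁻¹ = ((a ^ q)⁻¹) ^ (Nat.card F ^ i) := by
      rw [hi, ← pow_mul, mul_comm, pow_mul, ← inv_pow, hi]
    rw [← h2, h3, hi, ← pow_mul, ← pow_add, two_mul]
  rcases Nat.eq_zero_or_pos i with rfl | hi0
  · rw [mul_zero, pow_zero, pow_one] at h1
    have h2 := (pow_eq_self_iff hint 1).1 (by rw [pow_one]; exact h1)
    rw [Nat.dvd_one.1 h2]
    exact odd_one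
  · have h2 : a = a ^ (Nat.card F ^ (2 * i - 1)) := by
      apply pow_card_injective (F := F)
      show a ^ Nat.card F = (a ^ (Nat.card F ^ (2 * i - 1))) ^ Nat.card F
      rw [h1, ← pow_mul, ← pow_succ, Nat.sub_add_cancel (by omega)]
    have h3 := (pow_eq_self_iff hint _).1 h2.symm
    exact Odd.of_dvd_nat ⟨i - 1, by omega⟩ h3

/-- The same for an element of any extension. -/
theorem odd_of (hF : Fintype.card F = q ^ 2) {L : Type v} [Field L] [Algebra F L] {a : L} (hint : IsIntegral F a)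
    (h : aeval ((a ^ q)⁻¹) (minpoly F a) = 0) : Odd (minpoly F a).natDegree := by
  have hfd : FiniteDimensional F (IntermediateField.adjoin F {a}) := IntermediateField.adjoin.finiteDimensional hint
  have hfin : Finite (IntermediateField.adjoin F {a}) := Module.finite_of_finite F
  let a' : IntermediateField.adjoin F {a} := ⟨a, IntermediateField.mem_adjoin_simple_self F a⟩
  have h1 : minpoly F a' = minpoly F a := IntermediateField.minpoly_eq a'
  rw [← h1]
  apply odd_of_fin hF
  have h2 : aeval ((a' ^ q)⁻¹) (minpoly F a') = 0 := by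
    rw [h1]
    apply (algebraMap (IntermediateField.adjoin F {a}) L).injective
    rw [map_zero, ← aeval_algebraMap_apply]
    exact h
  rw [h1] at h2 ⊢
  exact (minpoly.eq_of_irreducible_of_monic (minpoly.irreducible hint) h2 (minpoly.monic hint)).symm

end parity

section classify

variable {F : Type u} [Field F] [Fintype F] {q : ℕ} {σ : F →+* F}

/-- `P(x) ^ q = P^σ(x ^ q)` -/
theorem frob_aeval (hF : Fintype.card F = q ^ 2) (hσ : ∀ c, σ c = c ^ q) {K : Type v} [Field K] [Algebra F K] (x : K)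
    (P : F[X]) : (aeval x P) ^ q = aeval (x ^ q) (P.map σ) := by
  obtain ⟨φ, hφ⟩ := Cfsg.Agent.H364.Unitary.exists_frob (F := F) K hF
  rw [← hφ, aeval_def, hom_eval₂, hφ, aeval_def, eval₂_map]
  congr 1
  ext c
  rw [RingHom.comp_apply, RingHom.comp_apply, hφ, hσ, map_pow]

omit [Fintype F] in
theorem aeval_reverse_iff {K : Type v} [Field K] [Algebra F K] {x : K} (hx : x ≠ 0) (P : F[X]) :
    aeval x⁻¹ P.reverse = 0 ↔ aeval x P = 0 := by
  have := invertibleOfNonzero hx
  have h1 := eval₂_reverse_eq_zero_iff (algebraMap F K) x P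
  rw [invOf_eq_inv] at h1
  exact h1

theorem map_map_eq (hF : Fintype.card F = q ^ 2) (hσ : ∀ c, σ c = c ^ q) (P : F[X]) : (P.map σ).map σ = P := by
  rw [Polynomial.map_map]
  have h1 : σ.comp σ = RingHom.id F := by
    ext c
    rw [RingHom.comp_apply, hσ, hσ, ← pow_mul, ← sq, ← hF, FiniteField.pow_card]
    rfl
  rw [h1, Polynomial.map_id]

/-- **The centralizer of an isometry of a hermitian space** which is killed by the polynomials with the roots `a`,
`a ^ (-q)`. -/
theorem classify (hF : Fintype.card F = q ^ 2) (hσ : ∀ c, σ c = c ^ q) {W : Type w} [AddCommGroup W] [Module F W]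
    [FiniteDimensional F W] [Nontrivial W] (B : W →ₛₗ[σ] W →ₗ[F] F) (hs : ∀ u v, B v u = σ (B u v))
    (hnd : ∀ u, (∀ v, B u v = 0) → u = 0) (t : W ≃ₗ[F] W) (ht : ∀ u v, B (t u) (t v) = B u v)
    {K : Type v} [Field K] [Algebra F K] {a : K} (hint : IsIntegral F a) (ha : a ≠ 0)
    (h : ∀ P : F[X], aeval a P = 0 → aeval ((a ^ q)⁻¹) P = 0 → aeval (t : W →ₗ[F] W) P = 0) :
    ∃ m k : ℕ, 0 < k ∧ k * m = finrank F W ∧
      Nat.card {g : W ≃ₗ[F] W // (∀ u v, B (g u) (g v) = B u v) ∧ ∀ v, g (t v) = t (g v)} = cc q m k ∧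
      ∃ P : F[X], P ≠ 0 ∧ P.natDegree ≤ k ∧ aeval a P = 0 ∧ aeval ((a ^ q)⁻¹) P = 0 := by
  have hq2 : 2 ≤ q := Cfsg.Agent.LieClassical.HermBasic.two_le hF
  set p := minpoly F a with hp
  have hirr : Irreducible p := minpoly.irreducible hint
  have hpa : aeval a p = 0 := minpoly.aeval F a
  have hp0 : p ≠ 0 := hirr.ne_zero
  have haq : (a ^ q) ≠ 0 := pow_ne_zero _ ha
  by_cases hpb : aeval ((a ^ q)⁻¹) p = 0
  · -- unitary type
    have hpt := h p hpa hpb
    have hmin : minpoly F (t : W →ₗ[F] W) = p :=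
      (minpoly.eq_of_irreducible_of_monic hirr hpt (minpoly.monic hint)).symm
    have hσne : σ ≠ RingHom.id F := by
      intro h0
      obtain ⟨x, hx⟩ := Cfsg.Agent.LieClassical.HermBasic.exists_not_fixed hF
      apply hx
      rw [← hσ, h0]
      rfl
    obtain ⟨s, m, hsd, hfr, -, hcard⟩ := card_cent_unitary
      (fun c => by rw [hσ, hσ, ← pow_mul, ← sq, ← hF, FiniteField.pow_card]) B (ε := 1) (Or.inl rfl)
      (fun u v => by rw [one_mul]; exact hs u v) hnd t ht (by rw [hmin]; exact hirr) (Or.inl hσne)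
    rw [hmin] at hsd hfr
    refine ⟨m, p.natDegree, hirr.natDegree_pos, hfr.symm, ?_, p, hp0, le_rfl, hpa, hpb⟩
    have hsq : s = q ^ p.natDegree := by
      have h1 : s ^ 2 = (q ^ p.natDegree) ^ 2 := by rw [hsd, hF, ← pow_mul, ← pow_mul, mul_comm]
      exact Nat.pow_left_injective (n := 2) (by norm_num) h1
    rw [hcard, cc_odd (odd_of hF hint hpb), hsq]
  · -- linear type
    have hpb' : aeval ((a ^ q)⁻¹) (p.map σ).reverse = 0 := by
      rw [aeval_reverse_iff haq, ← frob_aeval hF hσ, hpa, zero_pow (by omega)]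
    have hcop : IsCoprime p (p.map σ).reverse := by
      rw [hirr.coprime_iff_not_dvd]
      intro hd
      apply hpb
      have h1 : aeval a (p.map σ).reverse = 0 := by
        obtain ⟨c, hc⟩ := hd
        rw [hc, map_mul, hpa, zero_mul]
      have h2 : aeval a⁻¹ (p.map σ) = 0 := by
        rw [← inv_inv a, aeval_reverse_iff (inv_ne_zero ha)] at h1
        exact h1
      have h3 := frob_aeval hF hσ a⁻¹ (p.map σ)
      rw [h2, zero_pow (by omega), map_map_eq hF hσ, inv_pow] at h3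
      exact h3.symm
    have hmin : aeval (t : W →ₗ[F] W) (p * (p.map σ).reverse) = 0 := by
      apply h
      · rw [map_mul, hpa, zero_mul]
      · rw [map_mul, hpb', mul_zero]
    obtain ⟨m, hfr, hcard⟩ := card_cent_linear' B (ε := 1) (fun u v => by rw [one_mul]; exact hs u v) hnd t ht hirr
      hcop hmin
    refine ⟨m, 2 * p.natDegree, Nat.mul_pos (by norm_num) hirr.natDegree_pos, hfr.symm, ?_, p * (p.map σ).reverse,
      ?_, ?_, ?_, ?_⟩
    · have hne : ¬ Odd (2 * p.natDegree) := by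
        rw [Nat.not_odd_iff_even]
        exact even_two_mul _
      have hQ : (q ^ 2) ^ p.natDegree = q ^ (2 * p.natDegree) := (pow_mul q 2 p.natDegree).symm
      rw [hcard, cc_even hne, glCard, hF, hQ]
      exact Finset.prod_range (fun i => (q ^ (2 * p.natDegree)) ^ m - (q ^ (2 * p.natDegree)) ^ i) |>.symm
    · refine mul_ne_zero hp0 ?_
      rw [Ne, reverse_eq_zero, Polynomial.map_eq_zero]
      exact hp0
    · refine natDegree_mul_le.trans ?_
      have h1 : (p.map σ).reverse.natDegree ≤ p.natDegree :=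
        (reverse_natDegree_le _).trans (natDegree_map_le)
      omega
    · rw [map_mul, hpa, zero_mul]
    · rw [map_mul, hpb', mul_zero]

end classify

end Cfsg.Agent.H446.CS
end

-- part: H446/CS/Eig
section
/-!
# Elements of `SU_{N+1}(q)` commuting with an element of prime order `r`, `ord_r(-q) = N` (helper446)
-/

set_option autoImplicit false

namespace Cfsg.Agent.H446.CS

open Matrix Polynomial Cfsg Cfsg.Agent.H364.Regular Cfsg.Agent.H364.Unitary Cfsg.Agent.LieClassical.HermBasic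

universe u

variable {F : Type u} [Field F] [Fintype F] {n N q : ℕ}

section

variable (K : Type u) [Field K] [Algebra F K]

/-- The vector dual to an eigenvector. -/
theorem dual_eig (hF : Fintype.card F = q ^ 2) (X : SU n F q) {lam : Fin n → K} {v : Fin n → Fin n → K}
    (hX : Eig (mK K X) lam v) {i j : Fin n} (hij : lam j = (lam i ^ q)⁻¹) :
    (∀ k, k ≠ j → (fun l => v i l ^ q) ⬝ᵥ v k = 0) ∧ (fun l => v i l ^ q) ⬝ᵥ v j ≠ 0 := by
  have hq : 0 < q := Cfsg.Agent.LieClassical.HermBasic.q_pos hF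
  obtain ⟨-, h1⟩ := transpose_eigen K hF X (hX.ne i) (hX.eq i)
  set w : Fin n → K := fun k => v i k ^ q with hw
  have hw0 : w ≠ 0 := by
    intro h3
    apply hX.ne i
    funext k
    exact pow_eq_zero_iff hq.ne' |>.1 (congrFun h3 k)
  have h3 : ∀ k, k ≠ j → w ⬝ᵥ v k = 0 := by
    intro k hk
    have h4 : ((mK K X)ᵀ *ᵥ w) ⬝ᵥ v k = w ⬝ᵥ (mK K X *ᵥ v k) := by
      rw [Matrix.mulVec_transpose, ← Matrix.dotProduct_mulVec]
    rw [h1, hX.eq, smul_dotProduct, dotProduct_smul, ← hij] at h4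
    have h5 : (lam j - lam k) • (w ⬝ᵥ v k) = 0 := by rw [sub_smul, h4, sub_self]
    rcases smul_eq_zero.1 h5 with h6 | h6
    · exact absurd (hX.inj (sub_eq_zero.1 h6)).symm hk
    · exact h6
  refine ⟨h3, fun h5 => ?_⟩
  apply hw0
  have h6 : ∀ u : Fin n → K, w ⬝ᵥ u = 0 := by
    intro u
    rw [← hX.basis.sum_repr u, dotProduct_sum]
    apply Finset.sum_eq_zero
    intro k _
    rw [dotProduct_smul, hX.basis_apply]
    by_cases hk : k = j
    · subst hk; rw [h5, smul_zero]
    · rw [h3 k hk, smul_zero]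
  funext k
  have := h6 (Pi.single k 1)
  rwa [dotProduct_single_one] at this

/-- the eigenvalues of the elements of order `r` -/
noncomputable def lam (q N : ℕ) (z : K) (i : Fin (N + 1)) : K :=
  if (i : ℕ) < N then z ^ ((-(q : ℤ)) ^ (i : ℕ)) else 1

theorem dvd_sg_of {r : ℕ} (hr : r.Prime) (hN : 2 ≤ N) (ho : orderOf (-(q : ZMod r)) = N) : (r : ℤ) ∣ sg q N := by
  have := Fact.mk hr
  have h1 := congrArg (Int.cast : ℤ → ZMod r) (sg_mul q N)
  push_cast at h1
  have h2 : (-(q : ZMod r)) ^ N = 1 := by rw [← ho]; exact pow_orderOf_eq_one _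
  rw [h2, sub_self] at h1
  rw [← ZMod.intCast_zmod_eq_zero_iff_dvd]
  refine (mul_eq_zero.1 h1).resolve_right fun h3 => ?_
  have h4 : -(q : ZMod r) = 1 := by rw [← sub_eq_zero]; exact h3
  rw [h4, orderOf_one] at ho
  omega

/-- An element of prime order `r` with `ord_r (-q) = N` has the eigenvalues `z ^ ((-q) ^ i)` and `1`. -/
theorem exists_eig_sub [IsAlgClosed K] (hF : Fintype.card F = q ^ 2) {r : ℕ} (hr : r.Prime) (hrF : (r : F) ≠ 0)
    (g : SU (N + 1) F q) (hg : orderOf g = r) (hN : 2 ≤ N) (ho : orderOf (-(q : ZMod r)) = N) :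
    ∃ (z : K) (v : Fin (N + 1) → Fin (N + 1) → K), IsPrimitiveRoot z r ∧ Eig (mK K g) (lam K q N z) v := by
  have hrK : (r : K) ≠ 0 := by
    intro h
    apply hrF
    apply (algebraMap F K).injective
    rw [map_natCast, h, map_zero]
  have hX : mK K g ^ r = 1 := by rw [← mK_pow, ← hg, pow_orderOf_eq_one, mK_one]
  have hX1 : mK K g ≠ 1 := by
    intro h
    rw [← mK_one (F := F) (n := N + 1) (q := q) K] at h
    have := mK_injective K h
    rw [this, orderOf_one] at hg
    exact hr.one_lt.ne hg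
  obtain ⟨z, v, hz, hv, hzv⟩ := exists_primitive_eigenvalue hr hrK hX hX1
  have hz0 : z ≠ 0 := hz.ne_zero hr.ne_zero
  choose w hw hw2 using exists_iter K hF g hv hzv
  have hinj : Set.InjOn (fun i : ℕ => z ^ ((-(q : ℤ)) ^ i)) (Finset.range N : Set ℕ) := by
    intro i hi j hj hij
    have h1 := (zpow_eq_iff K hz hr _ _).1 hij
    push_cast at h1
    rw [Finset.coe_range, Set.mem_Iio] at hi hj
    exact pow_injOn_Iio_orderOf (Set.mem_Iio.2 (lt_of_lt_of_le hi ho.ge)) (Set.mem_Iio.2 (lt_of_lt_of_le hj ho.ge)) h1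
  have hne1 : ∀ i : ℕ, z ^ ((-(q : ℤ)) ^ i) ≠ 1 := by
    intro i h1
    have h2 : z ^ ((-(q : ℤ)) ^ i) = z ^ (0 : ℤ) := by rw [h1, _root_.zpow_zero]
    rw [zpow_eq_iff K hz hr] at h2
    push_cast at h2
    have := Fact.mk hr
    have h3 : (-(q : ZMod r)) = 0 := by
      by_contra h
      exact pow_ne_zero _ h h2
    rw [h3, orderOf_eq_zero_iff'.2 (fun k hk => by rw [zero_pow (by omega)]; exact zero_ne_one)] at ho
    omega
  classical
  set S : Finset K := (Finset.range N).image (fun i : ℕ => z ^ ((-(q : ℤ)) ^ i)) with hS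
  have hScard : S.card = N := by
    rw [hS, Finset.card_image_of_injOn hinj, Finset.card_range]
  have hroot : ∀ (c : K) (x : Fin (N + 1) → K), x ≠ 0 → mK K g *ᵥ x = c • x → c ∈ (mK K g).charpoly.roots := by
    intro c x hx hcx
    rw [mem_roots (Matrix.charpoly_monic _).ne_zero, IsRoot.def, Matrix.eval_charpoly]
    apply Matrix.exists_mulVec_eq_zero_iff.1
    refine ⟨x, hx, ?_⟩
    rw [Matrix.sub_mulVec, hcx]
    simp
  have hSle : S.val ≤ (mK K g).charpoly.roots := by
    rw [Multiset.le_iff_subset S.nodup]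
    intro c hc
    rw [Finset.mem_val, hS, Finset.mem_image] at hc
    obtain ⟨i, -, rfl⟩ := hc
    exact hroot _ _ (hw i) (hw2 i)
  obtain ⟨t, ht⟩ := Multiset.le_iff_exists_add.1 hSle
  have hcard : Multiset.card (mK K g).charpoly.roots = N + 1 := by
    rw [IsAlgClosed.card_roots_eq_natDegree, Matrix.charpoly_natDegree_eq_dim, Fintype.card_fin]
  have ht1 : Multiset.card t = 1 := by
    rw [ht, Multiset.card_add, Finset.card_val, hScard] at hcard
    omega
  obtain ⟨c, rfl⟩ := Multiset.card_eq_one.1 ht1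
  have hdet := Matrix.det_eq_prod_roots_charpoly (mK K g)
  have hprod : S.val.prod = 1 := by
    have h1 : S.val.prod = ∏ x ∈ S, x := by rw [Finset.prod_val]; rfl
    rw [h1, hS, Finset.prod_image hinj]
    have h2 : ∀ s : Finset ℕ, ∏ i ∈ s, z ^ ((-(q : ℤ)) ^ i) = z ^ (∑ i ∈ s, (-(q : ℤ)) ^ i) := by
      intro s
      induction s using Finset.induction_on with
      | empty => simp only [_root_.Finset.prod_empty, _root_.Finset.sum_empty, _root_.zpow_ofNat, _root_.pow_zero]
      | insert a s ha ih => rw [Finset.prod_insert ha, Finset.sum_insert ha, zpow_add₀ hz0, ih]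
    rw [h2]
    exact (hz.zpow_eq_one_iff_dvd _).2 (dvd_sg_of hr hN ho)
  rw [mK_det, ht, Multiset.prod_add, hprod, one_mul, Multiset.prod_singleton] at hdet
  subst hdet
  have h1 : (1 : K) ∈ (mK K g).charpoly.roots := by
    rw [ht]
    exact Multiset.mem_add.2 (Or.inr (Multiset.mem_singleton_self _))
  rw [mem_roots (Matrix.charpoly_monic _).ne_zero, IsRoot.def, Matrix.eval_charpoly] at h1
  obtain ⟨x, hx, hx0⟩ := Matrix.exists_mulVec_eq_zero_iff.2 h1
  have hx1 : mK K g *ᵥ x = x := by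
    rw [Matrix.sub_mulVec, sub_eq_zero] at hx0
    rw [← hx0]
    simp
  refine ⟨z, fun i => if (i : ℕ) < N then w i else x, hz, ⟨?_, ?_, ?_⟩⟩
  · intro i j hij
    simp only [lam] at hij
    by_cases hi : (i : ℕ) < N
    · by_cases hj : (j : ℕ) < N
      · rw [if_pos hi, if_pos hj] at hij
        exact Fin.ext (hinj (by simpa using hi) (by simpa using hj) hij)
      · rw [if_pos hi, if_neg hj] at hij
        exact absurd hij (hne1 _)
    · by_cases hj : (j : ℕ) < N
      · rw [if_neg hi, if_pos hj] at hij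
        exact absurd hij.symm (hne1 _)
      · apply Fin.ext
        (clear * - hi hj; omega)
  · intro i
    by_cases hi : (i : ℕ) < N
    · simp only [if_pos hi]
      exact hw i
    · simp only [if_neg hi]
      exact hx
  · intro i
    by_cases hi : (i : ℕ) < N
    · simp only [lam, if_pos hi]
      exact hw2 i
    · simp only [lam, if_neg hi, one_smul]
      exact hx1

/-! ### The eigenvalues of a commuting element -/

/-- the coordinates over `K` -/
def up (w : Fin n → F) : Fin n → K := fun i => algebraMap F K (w i)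

omit [Fintype F] in
theorem up_add (w w' : Fin n → F) : up K (w + w') = up K w + up K w' := by
  funext i; simp [up]

omit [Fintype F] in
theorem up_smul (c : F) (w : Fin n → F) : up K (c • w) = algebraMap F K c • up K w := by
  funext i; simp [up]

omit [Fintype F] in
theorem up_injective : Function.Injective (up K : (Fin n → F) → _) := fun w w' h => by
  funext i
  exact (algebraMap F K).injective (congrFun h i)

omit [Fintype F] in
theorem up_mulVec (Y : SU n F q) (w : Fin n → F) : up K (mat Y *ᵥ w) = mK K Y *ᵥ up K w := by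
  funext i
  simp only [up, mK, Matrix.mulVec, dotProduct, map_sum, map_mul, Matrix.map_apply]

omit [Fintype F] in
theorem up_aeval (Y : SU n F q) {v : Fin n → Fin n → K} {mu : Fin n → K} (hY : ∀ i, mK K Y *ᵥ v i = mu i • v i)
    (P : F[X]) {w : Fin n → F} {c : Fin n → K} (hw : up K w = ∑ i, c i • v i) :
    up K (aeval (Matrix.toLin' (mat Y)) P w) = ∑ i, (aeval (mu i) P * c i) • v i := by
  induction P using Polynomial.induction_on' with
  | add p p' hp hp' =>
    rw [map_add, LinearMap.add_apply, up_add, hp, hp', ← Finset.sum_add_distrib]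
    refine Finset.sum_congr rfl fun i _ => ?_
    rw [map_add, ← add_smul, add_mul]
  | monomial k a =>
    have h1 : ∀ k : ℕ, up K ((Matrix.toLin' (mat Y) ^ k) w) = ∑ i, (mu i ^ k * c i) • v i := by
      intro k
      induction k with
      | zero => simpa only [_root_.pow_zero, _root_.Module.End.one_apply, _root_.one_mul] using hw
      | succ k ih =>
        rw [pow_succ', Module.End.mul_apply, Matrix.toLin'_apply, up_mulVec, ih, Matrix.mulVec_sum]
        refine Finset.sum_congr rfl fun i _ => ?_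
        rw [Matrix.mulVec_smul, hY, smul_smul, pow_succ]
        congr 1
        ring
    rw [aeval_monomial, Module.End.mul_apply, Module.algebraMap_end_apply, up_smul, h1, Finset.smul_sum]
    refine Finset.sum_congr rfl fun i _ => ?_
    rw [smul_smul, aeval_monomial, mul_assoc]

/-- The polynomials with the roots `a`, `a ^ (-q)` have all roots `a ^ ((-q) ^ i)`. -/
theorem aeval_iter (hF : Fintype.card F = q ^ 2) {a : K} {P : F[X]} (h0 : aeval a P = 0)
    (h1 : aeval ((a ^ q)⁻¹) P = 0) (i : ℕ) : aeval (a ^ ((-(q : ℤ)) ^ i)) P = 0 := by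
  have hcard : ∀ x : K, aeval x P = 0 → aeval (x ^ (q ^ 2)) P = 0 := by
    intro x hx
    obtain ⟨φ, hφ⟩ := Cfsg.Agent.H364.Unitary.exists_frob (F := F) K hF
    have h2 : (φ.comp φ).comp (algebraMap F K) = algebraMap F K := by
      ext c
      rw [RingHom.comp_apply, RingHom.comp_apply, hφ, hφ, ← map_pow, ← map_pow, ← pow_mul, ← sq, ← hF,
        FiniteField.pow_card]
    have h3 := hom_eval₂ P (algebraMap F K) (φ.comp φ) x
    rw [h2, ← aeval_def, hx, map_zero, RingHom.comp_apply, hφ, hφ, ← pow_mul, ← sq] at h3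
    rw [aeval_def]
    exact h3.symm
  induction i using Nat.twoStepInduction with
  | zero => simpa only [_root_.pow_zero, _root_.zpow_ofNat, _root_.pow_one] using h0
  | one =>
    rw [pow_one, _root_.zpow_neg, zpow_natCast]
    exact h1
  | more i ih _ =>
    have h2 := hcard _ ih
    have h3 : (a ^ ((-(q : ℤ)) ^ i)) ^ (q ^ 2) = a ^ ((-(q : ℤ)) ^ (i + 2)) := by
      rw [← zpow_natCast, ← _root_.zpow_mul, pow_add]
      congr 1
      push_cast
      ring
    rwa [h3] at h2

end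

/-- **The structure of the elements of `SU_{N+1}(q)` which commute with an element of order `r`.** -/
theorem exists_data (hF : Fintype.card F = q ^ 2) {r : ℕ} (hr : r.Prime) (hrF : (r : F) ≠ 0) (hN : 2 ≤ N)
    (ho : orderOf (-(q : ZMod r)) = N) {X Y : SU (N + 1) F q} (hX : orderOf X = r) (hXY : Commute X Y) :
    ∃ u : Fin (N + 1) → F, hermForm (N + 1) F q u u ≠ 0 ∧ ∃ l : F, l ^ (q + 1) = 1 ∧ mat Y *ᵥ u = l • u ∧
      ∃ a : AlgebraicClosure F, a ≠ 0 ∧
        (∀ P : F[X], aeval a P = 0 → aeval ((a ^ q)⁻¹) P = 0 → ∀ w : Fin (N + 1) → F,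
          hermForm (N + 1) F q w u = 0 → aeval (Matrix.toLin' (mat Y)) P w = 0) ∧
        (∀ c : F, c ^ (q + 1) = 1 → ∀ w : Fin (N + 1) → F, w ≠ 0 → hermForm (N + 1) F q w u = 0 →
          mat Y *ᵥ w = c • w → ∀ w' : Fin (N + 1) → F, hermForm (N + 1) F q w' u = 0 → mat Y *ᵥ w' = c • w') ∧
        ((∃ k : ℕ, X = Y ^ k) → ∀ P : F[X], P ≠ 0 → aeval a P = 0 → aeval ((a ^ q)⁻¹) P = 0 → N ≤ P.natDegree) := by
  set K := AlgebraicClosure F with hK
  have hq : 0 < q := Cfsg.Agent.LieClassical.HermBasic.q_pos hF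
  obtain ⟨z, v, hz, hE⟩ := exists_eig_sub K hF hr hrF X hX hN ho
  obtain ⟨mu, hmu⟩ := hE.exists_mu (mK_comm K hXY)
  have hz0 : z ≠ 0 := hz.ne_zero hr.ne_zero
  have hlam : ∀ i (hi : i < N), lam K q N z ⟨i, by omega⟩ = z ^ ((-(q : ℤ)) ^ i) := fun i hi => by
    simp only [lam, if_pos hi]
  have hlamL : lam K q N z (Fin.last N) = 1 := by simp [lam]
  set a : K := mu ⟨0, by omega⟩ with ha
  have ha0 : a ≠ 0 := (transpose_eigen K hF Y (hE.ne _) (hmu _)).1
  have hstep : ∀ (x : K) (i : ℕ), ((x ^ ((-(q : ℤ)) ^ i)) ^ q)⁻¹ = x ^ ((-(q : ℤ)) ^ (i + 1)) := by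
    intro x i
    rw [← zpow_natCast, ← _root_.zpow_mul, ← _root_.zpow_neg, pow_succ]
    congr 1
    ring
  have hmui : ∀ i (hi : i < N), mu ⟨i, by omega⟩ = a ^ ((-(q : ℤ)) ^ i) := by
    intro i
    induction i with
    | zero => intro hi; simp [ha]
    | succ i ih =>
      intro hi
      have h3 := mu_next K hF X Y hE hmu (i := ⟨i, by omega⟩) (j := ⟨i + 1, by omega⟩) (by
        rw [hlam _ hi, hlam _ (by omega), hstep])
      rw [h3, ih (by omega), hstep]
  have hcyc : a ^ ((-(q : ℤ)) ^ N) = a := by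
    obtain ⟨M, rfl⟩ : ∃ M, N = M + 1 := ⟨N - 1, by omega⟩
    have h3 := mu_next K hF X Y hE hmu (i := ⟨M, by omega⟩) (j := ⟨0, by omega⟩) (by
      rw [hlam _ (by omega), hlam _ (by omega), hstep, zpow_eq_iff K hz hr]
      push_cast
      rw [← ho, pow_orderOf_eq_one, pow_zero])
    rw [hmui 0 (by omega), hmui M (by omega), hstep, pow_zero, _root_.zpow_one] at h3
    exact h3.symm
  -- the fixed vector
  obtain ⟨u, hu0, hu⟩ : ∃ u : Fin (N + 1) → F, u ≠ 0 ∧ mat X *ᵥ u = u := by
    have h1 : (mat X - 1).det = 0 := by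
      apply (algebraMap F K).injective
      rw [map_zero, RingHom.map_det]
      apply Matrix.exists_mulVec_eq_zero_iff.1
      refine ⟨v (Fin.last N), hE.ne _, ?_⟩
      have h2 : (algebraMap F K).mapMatrix (mat X - 1) = mK K X - 1 := by
        rw [map_sub, map_one]
        rfl
      rw [h2, Matrix.sub_mulVec, hE.eq, hlamL, one_smul, Matrix.one_mulVec, sub_self]
    obtain ⟨u, hu0, hu⟩ := Matrix.exists_mulVec_eq_zero_iff.2 h1
    refine ⟨u, hu0, ?_⟩
    rw [Matrix.sub_mulVec, Matrix.one_mulVec, sub_eq_zero] at hu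
    exact hu
  obtain ⟨e, he⟩ := hE.exists_smul (w := up K u) (i := Fin.last N) (by
    rw [← up_mulVec, hu, hlamL, one_smul])
  have he0 : e ≠ 0 := by
    rintro rfl
    apply hu0
    apply up_injective K
    rw [he]
    funext i
    simp [up]
  obtain ⟨hd1, hd2⟩ := dual_eig K hF X hE (i := Fin.last N) (j := Fin.last N) (by
    rw [hlamL, one_pow, inv_one])
  set om : Fin (N + 1) → K := fun l => v (Fin.last N) l ^ q with hom
  have hherm : ∀ w : Fin (N + 1) → F, algebraMap F K (hermForm (N + 1) F q w u) = e ^ q * (om ⬝ᵥ up K w) := by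
    intro w
    rw [herm_def, map_sum, dotProduct, Finset.mul_sum]
    refine Finset.sum_congr rfl fun i _ => ?_
    have h1 : algebraMap F K (u i) = e * v (Fin.last N) i := congrFun he i
    rw [map_mul, map_pow, h1, mul_pow, hom]
    show algebraMap F K (w i) * _ = _ * (v (Fin.last N) i ^ q * algebraMap F K (w i))
    ring
  have hcoord : ∀ w : Fin (N + 1) → F, hermForm (N + 1) F q w u = 0 → hE.basis.repr (up K w) (Fin.last N) = 0 := by
    intro w hw
    have h1 := hherm w
    rw [hw, map_zero, ← hE.basis.sum_repr (up K w), dotProduct_sum, Finset.sum_eq_single (Fin.last N)] at h1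
    · rw [dotProduct_smul, hE.basis_apply, smul_eq_mul] at h1
      rcases mul_eq_zero.1 h1.symm with h2 | h2
      · exact absurd h2 (pow_ne_zero _ he0)
      · exact (mul_eq_zero.1 h2).resolve_right hd2
    · intro k _ hk
      rw [dotProduct_smul, hE.basis_apply, hd1 k hk, smul_zero]
    · intro h; exact absurd (Finset.mem_univ _) h
  have hexp : ∀ w : Fin (N + 1) → F, up K w = ∑ i, hE.basis.repr (up K w) i • v i := by
    intro w
    conv_lhs => rw [← hE.basis.sum_repr (up K w)]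
    refine Finset.sum_congr rfl fun i _ => ?_
    rw [hE.basis_apply]
  have huu : hermForm (N + 1) F q u u ≠ 0 := by
    intro h0
    have h1 := hcoord u h0
    rw [he, map_smul, ← hE.basis_apply, Module.Basis.repr_self, Finsupp.smul_apply, Finsupp.single_eq_same,
      smul_eq_mul, mul_one] at h1
    exact he0 h1
  -- the eigenvalue on `u`
  obtain ⟨l, hl⟩ : ∃ l : F, mat Y *ᵥ u = l • u := by
    obtain ⟨i, hi⟩ : ∃ i, u i ≠ 0 := by
      by_contra hcon
      push Not at hcon
      exact hu0 (_root_.funext hcon)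
    have h1 : up K (mat Y *ᵥ u) = mu (Fin.last N) • up K u := by
      rw [up_mulVec, he, Matrix.mulVec_smul, hmu, smul_smul, smul_smul, mul_comm]
    have h2 : mu (Fin.last N) = algebraMap F K ((mat Y *ᵥ u) i / u i) := by
      have h3 : algebraMap F K ((mat Y *ᵥ u) i) = mu (Fin.last N) * algebraMap F K (u i) := congrFun h1 i
      rw [map_div₀, h3, mul_div_cancel_right₀]
      rw [Ne, map_eq_zero]
      exact hi
    refine ⟨(mat Y *ᵥ u) i / u i, up_injective K ?_⟩
    rw [h1, up_smul, h2]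
  have hl1 : l ^ (q + 1) = 1 := by
    have h1 := (Cfsg.Agent.LieClassical.HermBasic.mem_SU_iff (Y : Matrix.SpecialLinearGroup (Fin (N + 1)) F)).1 Y.2 u u
    change hermForm (N + 1) F q (mat Y *ᵥ u) (mat Y *ᵥ u) = _ at h1
    rw [hl, herm_smul_left, herm_smul_right, ← mul_assoc, ← pow_succ'] at h1
    exact mul_right_cancel₀ huu (by rw [h1, one_mul])
  have hA1 : ∀ P : F[X], aeval a P = 0 → aeval ((a ^ q)⁻¹) P = 0 → ∀ w : Fin (N + 1) → F,
      hermForm (N + 1) F q w u = 0 → aeval (Matrix.toLin' (mat Y)) P w = 0 := by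
    intro P h1 h2 w hw
    apply up_injective K
    rw [up_aeval K Y hmu P (hexp w)]
    have h0 : up K (0 : Fin (N + 1) → F) = 0 := by funext i; simp [up]
    rw [h0]
    apply Finset.sum_eq_zero
    intro i _
    by_cases hi : (i : ℕ) < N
    · have h3 := hmui i hi
      have h4 := aeval_iter K hF h1 h2 (i : ℕ)
      have h5 : aeval (mu i) P = 0 := by rw [← h4, ← h3]
      rw [h5, zero_mul, zero_smul]
    · have h3 : i = Fin.last N := by
        apply Fin.ext
        rw [Fin.val_last]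
        omega
      rw [h3, hcoord w hw, mul_zero, zero_smul]
  refine ⟨u, huu, l, hl1, hl, a, ha0, hA1, ?_, ?_⟩
  · intro c hc w hw0 hw hwc w' hw'
    have hcc : ∀ k : ℕ, (algebraMap F K c) ^ ((-(q : ℤ)) ^ k) = algebraMap F K c := by
      have hc0 : c ≠ 0 := by
        rintro rfl
        rw [zero_pow (by omega)] at hc
        exact zero_ne_one hc
      intro k
      induction k with
      | zero => simp
      | succ k ih =>
        rw [← hstep, ih, ← map_pow, ← map_inv₀]
        congr 1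
        apply inv_eq_of_mul_eq_one_right
        rw [← pow_succ]
        exact hc
    -- a coordinate
    have h1 : ∀ i, mu i * hE.basis.repr (up K w) i = algebraMap F K c * hE.basis.repr (up K w) i := by
      intro i
      have h2 : up K (mat Y *ᵥ w) = ∑ i, (mu i * hE.basis.repr (up K w) i) • v i := by
        have h3 := up_aeval K Y hmu (Polynomial.X : F[X]) (hexp w)
        simp only [aeval_X] at h3
        exact h3
      have h4 : up K (mat Y *ᵥ w) = ∑ i, (algebraMap F K c * hE.basis.repr (up K w) i) • v i := by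
        rw [hwc, up_smul]
        conv_lhs => rw [hexp w]
        rw [Finset.smul_sum]
        exact Finset.sum_congr rfl fun i _ => smul_smul _ _ _
      rw [h2] at h4
      have h5 := hE.linearIndependent
      rw [Fintype.linearIndependent_iff] at h5
      have h6 := h5 (fun i => mu i * hE.basis.repr (up K w) i - algebraMap F K c * hE.basis.repr (up K w) i) (by
        simp only [sub_smul, Finset.sum_sub_distrib]
        rw [h4, sub_self]) i
      exact sub_eq_zero.1 h6
    obtain ⟨i, hi⟩ : ∃ i, hE.basis.repr (up K w) i ≠ 0 := by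
      by_contra hcon
      push Not at hcon
      apply hw0
      apply up_injective K
      rw [hexp w]
      have h0 : up K (0 : Fin (N + 1) → F) = 0 := by funext i; simp [up]
      rw [h0]
      exact Finset.sum_eq_zero fun i _ => by rw [hcon i, zero_smul]
    have hiN : (i : ℕ) < N := by
      by_contra hcon
      have h3 : i = Fin.last N := by
        apply Fin.ext
        rw [Fin.val_last]
        omega
      rw [h3] at hi
      exact hi (hcoord w hw)
    have hmi : a ^ ((-(q : ℤ)) ^ (i : ℕ)) = algebraMap F K c := by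
      rw [← hmui i hiN]
      exact mul_right_cancel₀ hi (h1 i)
    have hac : a = algebraMap F K c := by
      rw [← hcyc, ← Nat.add_sub_cancel' hiN.le, pow_add, _root_.zpow_mul, hmi, hcc]
    have hac' : (a ^ q)⁻¹ = algebraMap F K c := by
      have h3 := hstep a 0
      rw [pow_zero, _root_.zpow_one] at h3
      rw [h3, hac, hcc]
    have h7 := hA1 (Polynomial.X - C c) (by rw [map_sub, aeval_X, aeval_C, hac, sub_self])
      (by rw [map_sub, aeval_X, aeval_C, hac', sub_self]) w' hw'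
    rw [map_sub, aeval_X, aeval_C, LinearMap.sub_apply, Matrix.toLin'_apply, Module.algebraMap_end_apply,
      sub_eq_zero] at h7
    exact h7
  · rintro ⟨k, hk⟩ P hP h1 h2
    have h3 : ∀ i, mu i ^ k = lam K q N z i := by
      intro i
      have h4 := Eig.pow_mulVec (hmu i) k
      rw [← mK_pow, ← hk, hE.eq] at h4
      have h5 : (lam K q N z i - mu i ^ k) • v i = 0 := by rw [sub_smul, h4, sub_self]
      exact (sub_eq_zero.1 ((smul_eq_zero.1 h5).resolve_right (hE.ne i))).symm
    have hinj : Set.InjOn (fun i : ℕ => a ^ ((-(q : ℤ)) ^ i)) (Finset.range N : Set ℕ) := by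
      intro i hi j hj hij
      rw [Finset.coe_range, Set.mem_Iio] at hi hj
      simp only at hij
      rw [← hmui i hi, ← hmui j hj] at hij
      have h6 : mu ⟨i, by omega⟩ ^ k = mu ⟨j, by omega⟩ ^ k := by rw [hij]
      rw [h3, h3] at h6
      exact Fin.mk.inj_iff.1 (hE.inj h6)
    classical
    have h4 : ((Finset.range N).image (fun i : ℕ => a ^ ((-(q : ℤ)) ^ i))).card = N := by
      rw [Finset.card_image_of_injOn hinj, Finset.card_range]
    have h5 : (Finset.range N).image (fun i : ℕ => a ^ ((-(q : ℤ)) ^ i)) ⊆ (P.map (algebraMap F K)).roots.toFinset := by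
      intro x hx
      rw [Finset.mem_image] at hx
      obtain ⟨i, -, rfl⟩ := hx
      rw [Multiset.mem_toFinset, mem_roots ((Polynomial.map_ne_zero_iff (algebraMap F K).injective).2 hP), IsRoot.def,
        eval_map_algebraMap]
      exact aeval_iter K hF h1 h2 i
    calc N = _ := h4.symm
      _ ≤ _ := Finset.card_le_card h5
      _ ≤ _ := Multiset.toFinset_card_le _
      _ ≤ _ := card_roots' _
      _ ≤ _ := natDegree_map_le

end Cfsg.Agent.H446.CS
end

private theorem dce_6d28f9e61553 : _root_.True := by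
  try have : _root_.True := by simp only [_root_.Cfsg.Agent.H446.CS.up.eq_1]
  try have : _root_.True := by simp only [_root_.Cfsg.Agent.H446.CS.cc.eq_1]
  try have : _root_.True := by simp only [_root_.Cfsg.Agent.H446.CS.lam.eq_1]
  try have : _root_.True := by simp only [_root_.Cfsg.Agent.H326.CGU.glCard.eq_1]
  exact _root_.True.intro
end

-- part: H446/CS/PsuSub_mg
section
prune_inst 0x11040004000100800000080812000200000000000000000000000040108000009200001010000014000000000000008134c00000240000004200000000504011000000020400000400000000100000000000000300000000000000000000000200000000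
set_option linter.all false
open scoped Cfsg.Agent.FastGrp

-- part: H446/CS/Cent
section
/-!
# Centralizers in `SU_{N+1}(q)` of elements commuting with an element of prime order `r`, `ord_r(-q) = N` (helper446)
-/

set_option autoImplicit false

namespace Cfsg.Agent.H446.CS

open Matrix Polynomial Module Cfsg Cfsg.Agent.H364.Regular Cfsg.Agent.H364.Unitary Cfsg.Agent.LieClassical.HermBasic
  Cfsg.Agent.H277.CS

universe u

variable {F : Type u} [Field F] [Fintype F] {n N q : ℕ}

/-- `c ↦ c ^ q` -/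
def sig (hF : Fintype.card F = q ^ 2) : F →+* F := ((conj hF : F ≃+* F) : F →+* F)

theorem sig_apply (hF : Fintype.card F = q ^ 2) (c : F) : sig hF c = c ^ q := rfl

/-- the hermitian form, semilinear in the first variable -/
def hB (hF : Fintype.card F = q ^ 2) (n : ℕ) : (Fin n → F) →ₛₗ[sig hF] (Fin n → F) →ₗ[F] F :=
  LinearMap.mk₂'ₛₗ (sig hF) (RingHom.id F) (fun u v => hermForm n F q v u)
    (fun u u' v => herm_add_right hF v u u')
    (fun c u v => by rw [herm_smul_right, sig_apply, smul_eq_mul])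
    (fun u v v' => herm_add_left v v' u)
    (fun c u v => by rw [herm_smul_left, RingHom.id_apply, smul_eq_mul])

theorem hB_apply (hF : Fintype.card F = q ^ 2) (u v : Fin n → F) : hB hF n u v = hermForm n F q v u := rfl

/-- the orthogonal space of `u` -/
def perp (hF : Fintype.card F = q ^ 2) (u : Fin n → F) : Submodule F (Fin n → F) := LinearMap.ker (hB hF n u)

theorem mem_perp (hF : Fintype.card F = q ^ 2) {u w : Fin n → F} : w ∈ perp hF u ↔ hermForm n F q w u = 0 := by
  rw [perp, LinearMap.mem_ker, hB_apply]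

/-- the form on the orthogonal space -/
def hBW (hF : Fintype.card F = q ^ 2) (u : Fin n → F) : perp hF u →ₛₗ[sig hF] perp hF u →ₗ[F] F :=
  LinearMap.mk₂'ₛₗ (sig hF) (RingHom.id F) (fun x y => (hermForm n F q (y : Fin n → F) (x : Fin n → F) :))
    (fun x x' y => herm_add_right hF _ _ _)
    (fun c x y => by rw [Submodule.coe_smul, herm_smul_right, sig_apply, smul_eq_mul])
    (fun x y y' => herm_add_left _ _ _)
    (fun c x y => by rw [Submodule.coe_smul, herm_smul_left, RingHom.id_apply, smul_eq_mul])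

theorem hBW_apply (hF : Fintype.card F = q ^ 2) (u : Fin n → F) (x y : perp hF u) :
    hBW hF u x y = hermForm n F q (y : Fin n → F) (x : Fin n → F) := rfl

theorem hBW_symm (hF : Fintype.card F = q ^ 2) (u : Fin n → F) (x y : perp hF u) :
    hBW hF u y x = sig hF (hBW hF u x y) := by
  rw [hBW_apply, hBW_apply, sig_apply, herm_swap hF]

theorem exists_dec (hF : Fintype.card F = q ^ 2) {u : Fin n → F} (hu : hermForm n F q u u ≠ 0) (x : Fin n → F) :
    ∃ w ∈ perp hF u, ∃ c : F, x = w + c • u := by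
  refine ⟨x - (hermForm n F q x u / hermForm n F q u u) • u, ?_, hermForm n F q x u / hermForm n F q u u, by abel⟩
  rw [mem_perp, herm_sub_left, herm_smul_left, div_mul_cancel₀ _ hu, sub_self]

theorem hBW_nd (hF : Fintype.card F = q ^ 2) {u : Fin n → F} (hu : hermForm n F q u u ≠ 0) (x : perp hF u)
    (h : ∀ y, hBW hF u x y = 0) : x = 0 := by
  apply Subtype.ext
  apply herm_nondeg hF
  intro y
  obtain ⟨w, hw, c, rfl⟩ := exists_dec hF hu y
  have h1 := h ⟨w, hw⟩
  rw [hBW_apply] at h1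
  rw [herm_add_right hF, herm_eq_zero_swap hF h1, herm_smul_right, (mem_perp hF).1 x.2, mul_zero, add_zero]

theorem isCompl_perp (hF : Fintype.card F = q ^ 2) {u : Fin n → F} (hu : hermForm n F q u u ≠ 0) :
    IsCompl (perp hF u) (Submodule.span F {u}) := by
  constructor
  · rw [Submodule.disjoint_def]
    intro x hx hx'
    obtain ⟨c, rfl⟩ := Submodule.mem_span_singleton.1 hx'
    rw [mem_perp, herm_smul_left] at hx
    rw [(mul_eq_zero.1 hx).resolve_right hu, zero_smul]
  · rw [codisjoint_iff, eq_top_iff]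
    intro x _
    obtain ⟨w, hw, c, rfl⟩ := exists_dec hF hu x
    exact Submodule.add_mem_sup hw (Submodule.smul_mem _ _ (Submodule.mem_span_singleton_self u))

theorem ne_zero_of_herm (_hF : Fintype.card F = q ^ 2) {u : Fin n → F} (hu : hermForm n F q u u ≠ 0) : u ≠ 0 := by
  rintro rfl
  exact hu (herm_zero_left _)

theorem finrank_perp (hF : Fintype.card F = q ^ 2) {u : Fin (N + 1) → F} (hu : hermForm (N + 1) F q u u ≠ 0) :
    finrank F (perp hF u) = N := by
  have h1 := Submodule.finrank_add_eq_of_isCompl (isCompl_perp hF hu)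
  rw [finrank_span_singleton (ne_zero_of_herm hF hu), finrank_fin_fun] at h1
  omega

/-- the isometries `B ⊕ c` -/
theorem glue_isom (hF : Fintype.card F = q ^ 2) {u : Fin n → F} (hu : hermForm n F q u u ≠ 0)
    {B : Module.End F (perp hF u)}
    (hB : ∀ x y : perp hF u, hermForm n F q (B x : Fin n → F) (B y : Fin n → F) = hermForm n F q (x : Fin n → F) y)
    {c : F} (hc : c ^ (q + 1) = 1) (x y : Fin n → F) :
    hermForm n F q (glue (isCompl_perp hF hu) B c x) (glue (isCompl_perp hF hu) B c y) = hermForm n F q x y := by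
  obtain ⟨w, hw, e, rfl⟩ := exists_dec hF hu x
  obtain ⟨w', hw', e', rfl⟩ := exists_dec hF hu y
  have h1 : ∀ (w : Fin n → F) (hw : w ∈ perp hF u) (e : F), glue (isCompl_perp hF hu) B c (w + e • u) =
      (B ⟨w, hw⟩ : Fin n → F) + (e * c) • u := by
    intro w hw e
    rw [map_add, map_smul]
    have h2 := glue_left (isCompl_perp hF hu) B c ⟨w, hw⟩
    have h3 := glue_right (isCompl_perp hF hu) B c ⟨u, Submodule.mem_span_singleton_self u⟩
    simp only at h2 h3
    rw [h2, h3, smul_smul]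
  have h4 : ∀ (w : perp hF u) (e : F), hermForm n F q (e • u) (w : Fin n → F) = 0 := by
    intro w e
    rw [herm_smul_left, herm_eq_zero_swap hF ((mem_perp hF).1 w.2), mul_zero]
  have h5 : ∀ (w : perp hF u) (e : F), hermForm n F q (w : Fin n → F) (e • u) = 0 := by
    intro w e
    rw [herm_smul_right, (mem_perp hF).1 w.2, mul_zero]
  rw [h1 w hw, h1 w' hw', herm_add_left, herm_add_right hF, herm_add_right hF, h4, h5, hB, herm_add_left,
    herm_add_right hF, herm_add_right hF, h4 ⟨w', hw'⟩, h5 ⟨w, hw⟩, herm_smul_left, herm_smul_right, herm_smul_left,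
    herm_smul_right]
  have h6 : e * c * ((e' * c) ^ q * hermForm n F q u u) = c ^ (q + 1) * (e * (e' ^ q * hermForm n F q u u)) := by ring
  rw [h6, hc, one_mul]

/-- `Y u = l u`, `h(u, u) ≠ 0` and `Y` has no eigenvector with eigenvalue `l` orthogonal to `u` -/
structure Dat (hF : Fintype.card F = q ^ 2) (Y : SU n F q) (u : Fin n → F) (l : F) : Prop where
  huu : hermForm n F q u u ≠ 0
  hl1 : l ^ (q + 1) = 1
  hl : mat Y *ᵥ u = l • u
  hw : ∀ w ∈ perp hF u, mat Y *ᵥ w = l • w → w = 0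

omit [Fintype F] in
theorem herm_mat (g : SU n F q) (x y : Fin n → F) : hermForm n F q (mat g *ᵥ x) (mat g *ᵥ y) = hermForm n F q x y :=
  (Cfsg.Agent.LieClassical.HermBasic.mem_SU_iff (g : Matrix.SpecialLinearGroup (Fin n) F)).1 g.2 x y

theorem mat_perp (hF : Fintype.card F = q ^ 2) {g : SU n F q} {u : Fin n → F} {c : F} (hc : c ≠ 0)
    (h : mat g *ᵥ u = c • u) (w : Fin n → F) (hw : w ∈ perp hF u) : toLin' (mat g) w ∈ perp hF u := by
  rw [mem_perp, toLin'_apply]
  have h1 := herm_mat g w u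
  rw [h, herm_smul_right, (mem_perp hF).1 hw] at h1
  exact (mul_eq_zero.1 h1).resolve_left (pow_ne_zero _ hc)

omit [Fintype F] in
theorem mat_inj (g : SU n F q) : Function.Injective (toLin' (mat g)) := by
  intro x y hxy
  rw [toLin'_apply, toLin'_apply] at hxy
  have h1 := congrArg (fun z => mat g⁻¹ *ᵥ z) hxy
  simp only [Matrix.mulVec_mulVec] at h1
  rwa [← mat_mul, inv_mul_cancel, mat_one, Matrix.one_mulVec, Matrix.one_mulVec] at h1

/-- the restriction to the orthogonal space -/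
noncomputable def res (hF : Fintype.card F = q ^ 2) (g : SU n F q) (u : Fin n → F)
    (h : ∀ w ∈ perp hF u, toLin' (mat g) w ∈ perp hF u) : perp hF u ≃ₗ[F] perp hF u :=
  LinearEquiv.ofInjectiveEndo ((toLin' (mat g)).restrict h) (by
    intro x y hxy
    exact Subtype.ext (mat_inj g (congrArg Subtype.val hxy)))

theorem res_apply (hF : Fintype.card F = q ^ 2) (g : SU n F q) (u : Fin n → F)
    (h : ∀ w ∈ perp hF u, toLin' (mat g) w ∈ perp hF u) (x : perp hF u) :
    ((res hF g u h x : perp hF u) : Fin n → F) = mat g *ᵥ (x : Fin n → F) := rfl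

theorem res_isom (hF : Fintype.card F = q ^ 2) (g : SU n F q) (u : Fin n → F)
    (h : ∀ w ∈ perp hF u, toLin' (mat g) w ∈ perp hF u) (x y : perp hF u) :
    hBW hF u (res hF g u h x) (res hF g u h y) = hBW hF u x y := by
  rw [hBW_apply, hBW_apply, res_apply, res_apply, herm_mat]

namespace Dat

variable {hF : Fintype.card F = q ^ 2} {Y : SU n F q} {u : Fin n → F} {l : F} (D : Dat hF Y u l)

include D

theorem l0 : l ≠ 0 := by
  rintro rfl
  have := D.hl1
  rw [zero_pow (by omega)] at this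
  exact zero_ne_one this

theorem hY : ∀ w ∈ perp hF u, toLin' (mat Y) w ∈ perp hF u := mat_perp hF D.l0 D.hl

/-- The eigenvectors for `l`. -/
theorem exists_smul {x : Fin n → F} (hx : mat Y *ᵥ x = l • x) : ∃ c : F, x = c • u := by
  obtain ⟨w, hw, c, rfl⟩ := exists_dec hF D.huu x
  refine ⟨c, ?_⟩
  rw [Matrix.mulVec_add, Matrix.mulVec_smul, D.hl, smul_add, smul_comm c l] at hx
  rw [D.hw w hw (add_right_cancel hx), zero_add]

theorem exists_nu {g : SU n F q} (hg : Commute g Y) : ∃ c : F, c ≠ 0 ∧ mat g *ᵥ u = c • u := by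
  obtain ⟨c, hc⟩ := D.exists_smul (x := mat g *ᵥ u) (by
    rw [Matrix.mulVec_mulVec, ← mat_mul, ← hg.eq, mat_mul, ← Matrix.mulVec_mulVec, D.hl, Matrix.mulVec_smul])
  refine ⟨c, ?_, hc⟩
  rintro rfl
  apply ne_zero_of_herm hF D.huu
  apply mat_inj g
  rw [toLin'_apply, hc, zero_smul, map_zero]

theorem hg {g : SU n F q} (hg : Commute g Y) : ∀ w ∈ perp hF u, toLin' (mat g) w ∈ perp hF u := by
  obtain ⟨c, hc0, hc⟩ := D.exists_nu hg
  exact mat_perp hF hc0 hc

/-- **The centralizer of `Y` in `SU` is the group of the isometries of the orthogonal space of `u` commuting with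
`Y`.** -/
theorem card_cent : Nat.card (Subgroup.centralizer ({Y} : Set (SU n F q))) =
    Nat.card {g : perp hF u ≃ₗ[F] perp hF u // (∀ x y, hBW hF u (g x) (g y) = hBW hF u x y) ∧
      ∀ x, g (res hF Y u D.hY x) = res hF Y u D.hY (g x)} := by
  have hu0 := ne_zero_of_herm hF D.huu
  have hcm : ∀ g : Subgroup.centralizer ({Y} : Set (SU n F q)), Commute (g : SU n F q) Y := fun g =>
    Subgroup.mem_centralizer_singleton_iff.1 g.2
  have h1 : finrank F (Submodule.span F {u}) = 1 := finrank_span_singleton hu0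
  have hglue : ∀ (g : SU n F q) (h : ∀ w ∈ perp hF u, toLin' (mat g) w ∈ perp hF u) (c : F),
      mat g *ᵥ u = c • u → toLin' (mat g) = glue (isCompl_perp hF D.huu) ((toLin' (mat g)).restrict h) c := by
    intro g h c hc
    apply ext_of (isCompl_perp hF D.huu)
    · intro w
      rw [glue_left]
      rfl
    · rintro ⟨x, hx⟩
      obtain ⟨e, rfl⟩ := Submodule.mem_span_singleton.1 hx
      rw [glue_right]
      show toLin' (mat g) (e • u) = c • (e • u)
      rw [toLin'_apply, Matrix.mulVec_smul, hc, smul_comm]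
  refine Nat.card_congr (Equiv.ofBijective (fun g => ⟨res hF g u ((by exact D.hg (hcm g))), res_isom hF _ _ _, fun x => ?_⟩)
    ⟨?_, ?_⟩)
  · apply Subtype.ext
    rw [res_apply, res_apply, res_apply, res_apply, Matrix.mulVec_mulVec, Matrix.mulVec_mulVec, ← mat_mul, ← mat_mul,
      (hcm g).eq]
  · intro g g' hgg
    have h2 := congrArg Subtype.val hgg
    simp only at h2
    obtain ⟨c, hc0, hc⟩ := D.exists_nu (hcm g)
    obtain ⟨c', hc0', hc'⟩ := D.exists_nu (hcm g')
    have e1 := hglue g (D.hg (hcm g)) c hc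
    have e2 := hglue g' (D.hg (hcm g')) c' hc'
    have e3 : (toLin' (mat (g : SU n F q))).restrict (D.hg (hcm g)) =
        (toLin' (mat (g' : SU n F q))).restrict (D.hg (hcm g')) := by
      apply LinearMap.ext
      intro x
      exact LinearEquiv.congr_fun h2 x
    have hd : ∀ (g : SU n F q), LinearMap.det (toLin' (mat g)) = 1 := fun g => by
      rw [LinearMap.det_toLin', mat_det]
    have e4 : c = c' := by
      have d1 := hd g
      have d2 := hd g'
      rw [e1, det_glue _ h1] at d1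
      rw [e2, det_glue _ h1, ← e3] at d2
      have hne : LinearMap.det ((toLin' (mat (g : SU n F q))).restrict (D.hg (hcm g))) ≠ 0 := by
        intro h0
        rw [h0, zero_mul] at d1
        exact zero_ne_one d1
      exact mul_left_cancel₀ hne (d1.trans d2.symm)
    apply Subtype.ext
    apply mat_injective
    apply Matrix.toLin'.injective
    rw [e1, e2, e3, e4]
  · rintro ⟨s, hs1, hs2⟩
    have hs1' : ∀ x y : perp hF u, hermForm n F q ((s : Module.End F (perp hF u)) x : Fin n → F)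
        ((s : Module.End F (perp hF u)) y : Fin n → F) = hermForm n F q (x : Fin n → F) y := by
      intro x y
      exact hs1 y x
    -- the determinant
    have hdet : (LinearMap.det (s : Module.End F (perp hF u))) ^ (q + 1) = 1 := by
      have h2 := Cfsg.Agent.ClassicalGeometry.GUBasic.det_pow hF
        (A := LinearMap.toMatrix' (glue (isCompl_perp hF D.huu) (s : Module.End F (perp hF u)) 1)) (by
          intro x y
          rw [← toLin'_apply, ← toLin'_apply, toLin'_toMatrix']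
          exact glue_isom hF D.huu hs1' (one_pow _) x y)
      rw [LinearMap.det_toMatrix', det_glue _ h1, mul_one] at h2
      exact h2
    set c : F := (LinearMap.det (s : Module.End F (perp hF u)))⁻¹ with hc
    have hc1 : c ^ (q + 1) = 1 := by rw [hc, inv_pow, hdet, inv_one]
    set b := glue (isCompl_perp hF D.huu) (s : Module.End F (perp hF u)) c with hb
    have hbd : (LinearMap.toMatrix' b).det = 1 := by
      rw [LinearMap.det_toMatrix', hb, det_glue _ h1, hc, mul_inv_cancel₀]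
      intro h0
      rw [h0, zero_pow (by omega)] at hdet
      exact zero_ne_one hdet
    let g0 : Matrix.SpecialLinearGroup (Fin n) F := ⟨LinearMap.toMatrix' b, hbd⟩
    let g : SU n F q := ⟨g0, (Cfsg.Agent.LieClassical.HermBasic.mem_SU_iff g0).2 <| by
      intro x y
      change hermForm n F q (LinearMap.toMatrix' b *ᵥ x) (LinearMap.toMatrix' b *ᵥ y) = _
      rw [← toLin'_apply, ← toLin'_apply, toLin'_toMatrix']
      exact glue_isom hF D.huu hs1' hc1 x y⟩
    have hgb : toLin' (mat g) = b := toLin'_toMatrix' b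
    have hgY : Commute g Y := by
      apply mat_injective
      apply Matrix.toLin'.injective
      rw [mat_mul, mat_mul, Matrix.toLin'_mul, Matrix.toLin'_mul, hgb]
      apply ext_of (isCompl_perp hF D.huu)
      · intro x
        have h3 := hs2 x
        have h4 : toLin' (mat Y) (x : Fin n → F) = (res hF Y u D.hY x : perp hF u) := rfl
        rw [LinearMap.comp_apply, LinearMap.comp_apply, h4, hb, glue_left, glue_left]
        have h5 := congrArg Subtype.val h3
        exact h5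
      · rintro ⟨x, hx⟩
        obtain ⟨e, rfl⟩ := Submodule.mem_span_singleton.1 hx
        have h4 : ∀ e : F, b (e • u) = c • (e • u) := fun e =>
          glue_right (isCompl_perp hF D.huu) (s : Module.End F (perp hF u)) c
            ⟨e • u, Submodule.smul_mem _ _ (Submodule.mem_span_singleton_self u)⟩
        have h5 : ∀ e : F, toLin' (mat Y) (e • u) = l • (e • u) := fun e => by
          rw [toLin'_apply, Matrix.mulVec_smul, D.hl, smul_comm]
        calc b (toLin' (mat Y) (e • u)) = b (l • (e • u)) := by rw [h5]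
          _ = l • b (e • u) := map_smul b l (e • u)
          _ = l • c • (e • u) := by rw [h4]
          _ = c • l • (e • u) := smul_comm _ _ _
          _ = c • toLin' (mat Y) (e • u) := by rw [h5]
          _ = toLin' (mat Y) (c • (e • u)) := (map_smul _ _ _).symm
          _ = toLin' (mat Y) (b (e • u)) := by rw [h4]
    refine ⟨⟨g, Subgroup.mem_centralizer_singleton_iff.2 hgY⟩, Subtype.ext ?_⟩
    apply LinearEquiv.ext
    intro x
    apply Subtype.ext
    rw [res_apply]
    show mat g *ᵥ (x : Fin n → F) = _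
    rw [← toLin'_apply, hgb, hb, glue_left]
    rfl

end Dat

end Cfsg.Agent.H446.CS
end

-- part: H446/CS/Psu
section
/-!
# Centralizers in `PSU_n(q)` of elements commuting with an element of prime order `r`, `ord_r(-q) = n - 1` (helper446)
-/

set_option autoImplicit false

namespace Cfsg.Agent.H446.CS

open Matrix Polynomial Module Cfsg Cfsg.Agent.H364.Regular Cfsg.Agent.H364.Unitary Cfsg.Agent.LieClassical.HermBasic
  Cfsg.Agent.H277.CS

universe u

variable {F : Type u} [Field F] [Fintype F] {n N q : ℕ}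

/-- `Y` commutes with a conjugate `c Y c⁻¹ = z Y` only if `z = 1`. -/
theorem scalar_eq_one {hF : Fintype.card F = q ^ 2} {Y : SU (N + 1) F q} {u : Fin (N + 1) → F} {l : F}
    (D : Dat hF Y u l) (hN : 2 ≤ N)
    (hA : ∀ c : F, c ^ (q + 1) = 1 → ∀ w : Fin (N + 1) → F, w ≠ 0 → hermForm (N + 1) F q w u = 0 →
          mat Y *ᵥ w = c • w → ∀ w' : Fin (N + 1) → F, hermForm (N + 1) F q w' u = 0 → mat Y *ᵥ w' = c • w')
    {c : SU (N + 1) F q} {ζ : F} (hζ : ζ ^ (q + 1) = 1) (h : ∀ v, mat Y *ᵥ (mat c *ᵥ v) = ζ • (mat c *ᵥ (mat Y *ᵥ v))) :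
    ζ = 1 := by
  by_contra hz1
  have hu0 := ne_zero_of_herm hF D.huu
  have hζ0 : ζ ≠ 0 := by
    rintro rfl
    rw [zero_pow (by omega)] at hζ
    exact zero_ne_one hζ
  -- eigenvectors
  have heig : ∀ (v : Fin (N + 1) → F) (m : F), mat Y *ᵥ v = m • v → ∃ w ∈ perp hF u, ∃ e : F, v = w + e • u ∧
      mat Y *ᵥ w = m • w ∧ (e = 0 ∨ m = l) := by
    intro v m hv
    obtain ⟨w, hw, e, rfl⟩ := exists_dec hF D.huu v
    have h1 : mat Y *ᵥ w - m • w = (e * (m - l)) • u := by
      rw [Matrix.mulVec_add, Matrix.mulVec_smul, D.hl, smul_add] at hv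
      have h2 : mat Y *ᵥ w = m • w + m • e • u - e • l • u := by
        rw [← hv, add_sub_cancel_right]
      rw [h2, smul_smul, smul_smul, mul_sub, sub_smul, mul_comm m e]
      abel
    have h2 : mat Y *ᵥ w - m • w ∈ perp hF u := by
      have h3 := D.hY w hw
      rw [toLin'_apply] at h3
      exact Submodule.sub_mem _ h3 (Submodule.smul_mem _ _ hw)
    rw [h1, mem_perp, herm_smul_left] at h2
    have h3 := (mul_eq_zero.1 h2).resolve_right D.huu
    rw [h3, zero_smul, sub_eq_zero] at h1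
    refine ⟨w, hw, e, rfl, h1, ?_⟩
    rcases mul_eq_zero.1 h3 with h4 | h4
    · exact Or.inl h4
    · exact Or.inr (sub_eq_zero.1 h4)
  have hκ : (ζ * l) ^ (q + 1) = 1 := by rw [mul_pow, hζ, D.hl1, one_mul]
  have hl' : ζ * l ≠ l := by
    intro h2
    apply hz1
    exact mul_right_cancel₀ D.l0 (by rw [h2, one_mul])
  obtain ⟨w, hw, e, hwe, hYw, he⟩ := heig (mat c *ᵥ u) (ζ * l) (by
    rw [h, D.hl, Matrix.mulVec_smul, smul_smul])
  have he0 := he.resolve_right hl'
  have hw0 : w ≠ 0 := by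
    rintro rfl
    rw [he0, zero_smul, add_zero] at hwe
    apply hu0
    apply mat_inj c
    rw [toLin'_apply, hwe, map_zero]
  have hall := hA (ζ * l) hκ w hw0 ((mem_perp hF).1 hw) hYw
  have hbR : ∀ x ∈ perp hF u, toLin' (mat c) x ∈ Submodule.span F {u} := by
    intro x hx
    obtain ⟨w1, hw1, e1, hwe1, hYw1, -⟩ := heig (mat c *ᵥ x) (ζ * (ζ * l)) (by
      rw [h, hall x ((mem_perp hF).1 hx), Matrix.mulVec_smul, smul_smul])
    have hw10 : w1 = 0 := by
      by_contra hne
      rw [hall w1 ((mem_perp hF).1 hw1)] at hYw1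
      have h2 := smul_left_injective F hne hYw1
      apply hl'
      exact (mul_left_cancel₀ hζ0 h2).symm
    rw [toLin'_apply, hwe1, hw10, zero_add]
    exact Submodule.smul_mem _ _ (Submodule.mem_span_singleton_self u)
  have h2 : finrank F (perp hF u) ≤ finrank F (Submodule.span F {u}) := by
    apply LinearMap.finrank_le_finrank_of_injective (f := ((toLin' (mat c)).restrict hbR))
    intro x y hxy
    apply Subtype.ext
    apply mat_inj c
    exact congrArg Subtype.val hxy
  rw [finrank_perp hF D.huu, finrank_span_singleton hu0] at h2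
  omega

theorem center_pow (hF : Fintype.card F = q ^ 2) (hn : 3 ≤ n) {z : SU n F q} (hz : z ∈ Subgroup.center (SU n F q)) :
    z ^ (q + 1) = 1 := by
  obtain ⟨c, hcn, hcq, hc⟩ := (Cfsg.Agent.LieClassical.SUBasic.mem_center_SU_iff hF hn _).1 hz
  rw [hc]
  apply mat_injective
  rw [mat_pow, mat_one]
  change (Matrix.diagonal fun _ => c) ^ (q + 1) = 1
  rw [Matrix.diagonal_pow]
  have : (fun _ : Fin n => c) ^ (q + 1) = 1 := by funext i; exact hcq
  rw [this]
  exact Matrix.diagonal_one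

theorem center_smul (hF : Fintype.card F = q ^ 2) (hn : 3 ≤ n) {z : SU n F q} (hz : z ∈ Subgroup.center (SU n F q)) :
    ∃ ζ : F, ζ ^ (q + 1) = 1 ∧ ∀ v, mat z *ᵥ v = ζ • v := by
  obtain ⟨c, hcn, hcq, hc⟩ := (Cfsg.Agent.LieClassical.SUBasic.mem_center_SU_iff hF hn _).1 hz
  refine ⟨c, hcq, fun v => ?_⟩
  rw [hc]
  change (Matrix.diagonal fun _ => c) *ᵥ v = _
  funext i
  rw [Matrix.mulVec_diagonal]
  rfl

theorem mem_center_of (z : SU n F q) {ζ : F} (h : ∀ v, mat z *ᵥ v = ζ • v) : z ∈ Subgroup.center (SU n F q) := by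
  rw [Subgroup.mem_center_iff]
  intro g
  apply mat_injective
  apply Matrix.toLin'.injective
  apply LinearMap.ext
  intro v
  rw [toLin'_apply, toLin'_apply, mat_mul, mat_mul, ← Matrix.mulVec_mulVec, ← Matrix.mulVec_mulVec, h, h,
    Matrix.mulVec_smul]

/-- **The list of centralizer orders.** -/
theorem exists_card (hF : Fintype.card F = q ^ 2) {r : ℕ} (hr : r.Prime) (hrF : (r : F) ≠ 0) (hN : 2 ≤ N)
    (ho : orderOf (-(q : ZMod r)) = N) {x : PSU (N + 1) F q} (hx : x ≠ 1)
    (hdx : r ∣ Nat.card (Subgroup.centralizer ({x} : Set (PSU (N + 1) F q)))) :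
    ∃ k m : ℕ, k * m = N ∧ 0 < k ∧ (orderOf x = r → m = 1) ∧
      Nat.card (Subgroup.centralizer ({x} : Set (PSU (N + 1) F q))) * Nat.gcd (N + 1) (q + 1) = cc q m k := by
  have hq2 : 2 ≤ q := Cfsg.Agent.LieClassical.HermBasic.two_le hF
  have hfin : Finite (SU (N + 1) F q) := inferInstance
  have hfin' : Finite (PSU (N + 1) F q) := Quotient.finite _
  have := Fact.mk hr
  have hrq : ¬ r ∣ q + 1 := by
    intro h
    have h3 : ((q + 1 : ℕ) : ZMod r) = 0 := (ZMod.natCast_eq_zero_iff _ _).2 h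
    push_cast at h3
    have h4 : (-(q : ZMod r)) = 1 := by
      rw [neg_eq_iff_add_eq_zero, ← h3]
    rw [h4, orderOf_one] at ho
    omega
  obtain ⟨g, rfl⟩ := QuotientGroup.mk_surjective x
  obtain ⟨⟨y0, hy0⟩, hy0s⟩ := exists_prime_orderOf_dvd_card' r hdx
  rw [Subgroup.orderOf_mk] at hy0s
  obtain ⟨y1, rfl⟩ := QuotientGroup.mk_surjective y0
  -- if `x` has order `r`, take `y0 = x`
  obtain ⟨y1, hy0, hy0s, hyx⟩ : ∃ y1 : SU (N + 1) F q, (QuotientGroup.mk y1 : PSU (N + 1) F q) ∈
      Subgroup.centralizer ({(QuotientGroup.mk g : PSU (N + 1) F q)} : Set (PSU (N + 1) F q)) ∧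
      orderOf (QuotientGroup.mk y1 : PSU (N + 1) F q) = r ∧
      (orderOf (QuotientGroup.mk g : PSU (N + 1) F q) = r → y1 = g) := by
    by_cases h : orderOf (QuotientGroup.mk g : PSU (N + 1) F q) = r
    · exact ⟨g, Subgroup.mem_centralizer_singleton_iff.2 rfl, h, fun _ => rfl⟩
    · exact ⟨y1, hy0, hy0s, fun h' => absurd h' h⟩
  have hz1 : y1 ^ r ∈ Subgroup.center (SU (N + 1) F q) := by
    rw [← QuotientGroup.eq_one_iff, QuotientGroup.mk_pow, ← hy0s, pow_orderOf_eq_one]
  set y := y1 ^ (q + 1) with hy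
  have hk1 : y ^ r = 1 := by
    rw [hy, ← pow_mul, mul_comm, pow_mul]
    exact center_pow hF (by omega) hz1
  have hk2 : y ≠ 1 := by
    intro h
    apply hrq
    rw [← hy0s]
    apply orderOf_dvd_of_pow_eq_one
    rw [← QuotientGroup.mk_pow, ← hy, h]
    rfl
  have hyo : orderOf y = r := orderOf_eq_prime hk1 hk2
  have hcm : Commute g y := by
    have hcy : Commute (QuotientGroup.mk g : PSU (N + 1) F q) (QuotientGroup.mk y) := by
      rw [hy, QuotientGroup.mk_pow]
      exact (show Commute (QuotientGroup.mk g : PSU (N + 1) F q) (QuotientGroup.mk y1) from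
        (Subgroup.mem_centralizer_singleton_iff.1 hy0).symm).pow_right _
    have hz : g * y * g⁻¹ * y⁻¹ ∈ Subgroup.center (SU (N + 1) F q) := by
      rw [← QuotientGroup.eq_one_iff]
      show (QuotientGroup.mk g : PSU (N + 1) F q) * QuotientGroup.mk y * (QuotientGroup.mk g)⁻¹ * (QuotientGroup.mk y)⁻¹ = 1
      rw [hcy.eq, mul_inv_cancel_right, mul_inv_cancel]
    set z := g * y * g⁻¹ * y⁻¹ with hzd
    have h1 : g * y * g⁻¹ = z * y := by rw [hzd]; group
    have h2 : (g * y * g⁻¹) ^ r = 1 := by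
      rw [conj_pow, hk1, mul_one, mul_inv_cancel]
    rw [h1, (show Commute z y from (Subgroup.mem_center_iff.1 hz y).symm).mul_pow, hk1, mul_one] at h2
    have h3 := center_pow hF (by omega) hz
    have h4 : orderOf z ∣ Nat.gcd r (q + 1) :=
      Nat.dvd_gcd (orderOf_dvd_of_pow_eq_one h2) (orderOf_dvd_of_pow_eq_one h3)
    rw [(Nat.Prime.coprime_iff_not_dvd hr).2 hrq, Nat.dvd_one, orderOf_eq_one_iff] at h4
    rw [h4, one_mul, mul_inv_eq_iff_eq_mul] at h1
    exact h1
  obtain ⟨u, huu, l, hl1, hl, a, ha0, hA1, hA2, hA3⟩ := exists_data hF hr hrF hN ho hyo hcm.symm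
  have D : Dat hF g u l := by
    refine ⟨huu, hl1, hl, fun w hw hgw => ?_⟩
    by_contra hw0
    have hall := hA2 l hl1 w hw0 ((mem_perp hF).1 hw) hgw
    apply hx
    rw [QuotientGroup.eq_one_iff]
    apply mem_center_of g (ζ := l)
    intro v
    obtain ⟨w, hw, e, rfl⟩ := exists_dec hF huu v
    rw [Matrix.mulVec_add, Matrix.mulVec_smul, hl, hall w ((mem_perp hF).1 hw), smul_add, smul_comm]
  -- the classification
  have hnt : Nontrivial (perp hF u) :=
    Module.nontrivial_of_finrank_pos (R := F) (by rw [finrank_perp hF huu]; omega)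
  obtain ⟨m, k, hk0, hkm, hcard, P, hP0, hPk, hP1, hP2⟩ := classify hF (sig_apply hF) (hBW hF u) (hBW_symm hF u)
    (hBW_nd hF huu) (res hF g u D.hY) (res_isom hF g u D.hY) (Algebra.IsIntegral.isIntegral (R := F) a) ha0 (by
      intro P h1 h2
      apply LinearMap.ext
      intro w
      apply Subtype.ext
      have h3 := Cfsg.Agent.H326.CGU.aeval_restrict (W := toLin' (mat g)) D.hY P w
      have h4 : ((res hF g u D.hY : perp hF u ≃ₗ[F] perp hF u) : perp hF u →ₗ[F] perp hF u) =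
        (toLin' (mat g)).restrict D.hY := rfl
      rw [h4, h3, hA1 P h1 h2 w ((mem_perp hF).1 w.2)]
      rfl)
  rw [finrank_perp hF huu] at hkm
  refine ⟨k, m, hkm, hk0, ?_, ?_⟩
  · intro hxr
    have hyg := hyx hxr
    have h1 := hA3 ⟨q + 1, by rw [hy, hyg]⟩ P hP0 hP1 hP2
    have hk' : k ∣ N := ⟨m, hkm.symm⟩
    have hkn : k = N := le_antisymm (Nat.le_of_dvd (by omega) hk') (h1.trans hPk)
    rw [hkn] at hkm
    exact Nat.eq_of_mul_eq_mul_left (by omega : 0 < N) (by rw [hkm, mul_one])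
  · rw [← hcard, ← D.card_cent]
    -- indices
    have hcomap : (Subgroup.centralizer ({(QuotientGroup.mk g : PSU (N + 1) F q)} : Set (PSU (N + 1) F q))).comap
        (QuotientGroup.mk' (Subgroup.center (SU (N + 1) F q))) =
        Subgroup.centralizer ({g} : Set (SU (N + 1) F q)) := by
      ext c
      rw [Subgroup.mem_comap, Subgroup.mem_centralizer_singleton_iff, Subgroup.mem_centralizer_singleton_iff,
        QuotientGroup.mk'_apply]
      constructor
      · intro hcg
        have hz : g * c * (c * g)⁻¹ ∈ Subgroup.center (SU (N + 1) F q) := by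
          rw [← QuotientGroup.eq_one_iff]
          show (QuotientGroup.mk g : PSU (N + 1) F q) * QuotientGroup.mk c * (QuotientGroup.mk c * QuotientGroup.mk g)⁻¹ = 1
          rw [hcg, mul_inv_cancel]
        obtain ⟨ζ, hζ, hζz⟩ := center_smul hF (by omega) hz
        have e1 : ∀ v, mat g *ᵥ (mat c *ᵥ v) = ζ • (mat c *ᵥ (mat g *ᵥ v)) := by
          intro v
          rw [Matrix.mulVec_mulVec, Matrix.mulVec_mulVec, ← mat_mul, ← mat_mul, ← hζz, Matrix.mulVec_mulVec, ← mat_mul,
            inv_mul_cancel_right]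
        have e3 := scalar_eq_one D hN hA2 hζ e1
        apply mat_injective
        apply Matrix.toLin'.injective
        apply LinearMap.ext
        intro v
        rw [toLin'_apply, toLin'_apply, mat_mul, mat_mul, ← Matrix.mulVec_mulVec, ← Matrix.mulVec_mulVec, e1, e3,
          one_smul]
      · intro hcg
        show (QuotientGroup.mk (c * g) : PSU (N + 1) F q) = QuotientGroup.mk (g * c)
        rw [hcg]
    have hidx := Subgroup.index_comap_of_surjective
      (Subgroup.centralizer ({(QuotientGroup.mk g : PSU (N + 1) F q)} : Set (PSU (N + 1) F q)))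
      (QuotientGroup.mk'_surjective (Subgroup.center (SU (N + 1) F q)))
    rw [hcomap] at hidx
    have e1 := (Subgroup.centralizer ({g} : Set (SU (N + 1) F q))).card_mul_index
    have e2 := (Subgroup.centralizer ({(QuotientGroup.mk g : PSU (N + 1) F q)} : Set (PSU (N + 1) F q))).card_mul_index
    have e3 := Subgroup.card_eq_card_quotient_mul_card_subgroup (Subgroup.center (SU (N + 1) F q))
    have e4 : Nat.card (SU (N + 1) F q ⧸ Subgroup.center (SU (N + 1) F q)) = Nat.card (PSU (N + 1) F q) := rfl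
    rw [Cfsg.Agent.S0279.result hF (N + 1) (by omega), e4, ← e1, ← e2, ← hidx] at e3
    have h0 : 0 < (Subgroup.centralizer ({g} : Set (SU (N + 1) F q))).index :=
      Nat.pos_of_ne_zero Subgroup.index_ne_zero_of_finite
    apply Nat.eq_of_mul_eq_mul_right h0
    rw [e3]
    ring

end Cfsg.Agent.H446.CS
end

-- part: H446/CS/PsuSub
section
/-!
# S3677: the lattice of `PSU_n(q)` for a prime `r` with `ord_r(-q) = n - 1` (helper446)
-/

set_option autoImplicit false

namespace Cfsg.Agent.H446.CS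

open Matrix Module Cfsg Cfsg.Agent.H431.CS Cfsg.Agent.H364 Cfsg.Agent.H370.AAM

universe v

/-- `|q ^ i - (-1) ^ i|` -/
def au (q i : ℕ) : ℕ := if Odd i then q ^ i + 1 else q ^ i - 1

theorem natAbs_au {q : ℕ} (hq : 1 ≤ q) (i : ℕ) : ((q : ℤ) ^ i - (-1) ^ i).natAbs = au q i := by
  have h1 : (1 : ℤ) ≤ (q : ℤ) ^ i := one_le_pow₀ (by exact_mod_cast hq)
  have h2 : 1 ≤ q ^ i := Nat.one_le_pow _ _ hq
  unfold au
  split_ifs with h
  · rw [h.neg_one_pow]
    zify
    rw [abs_of_nonneg (by linarith only [h1])]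
    ring
  · rw [(Nat.not_odd_iff_even.1 h).neg_one_pow]
    zify [h2]
    rw [abs_of_nonneg (by linarith only [h1])]

theorem dvd_au_iff {q r : ℕ} (hq : 1 ≤ q) (hr : r.Prime) (i : ℕ) : r ∣ au q i ↔ orderOf (-(q : ZMod r)) ∣ i := by
  have := Fact.mk hr
  rw [← natAbs_au hq, ← Int.natCast_dvd, orderOf_dvd_iff_pow_eq_one, ← ZMod.intCast_zmod_eq_zero_iff_dvd]
  push_cast
  rw [sub_eq_zero, neg_pow (q : ZMod r) i]
  have h1 : ((-1 : ZMod r) ^ i) * (-1) ^ i = 1 := by rw [← mul_pow]; simp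
  constructor
  · intro h
    rw [h, h1]
  · intro h
    calc (q : ZMod r) ^ i = ((-1) ^ i * (-1) ^ i) * (q : ZMod r) ^ i := by rw [h1, one_mul]
      _ = (-1) ^ i * ((-1) ^ i * (q : ZMod r) ^ i) := by ring
      _ = (-1) ^ i := by rw [h, mul_one]

theorem dvd_au {q : ℕ} (hq : 1 ≤ q) (i : ℕ) : q + 1 ∣ au q i := by
  rw [← natAbs_au hq, ← Int.natCast_dvd]
  have h := sub_dvd_pow_sub_pow (q : ℤ) (-1) i
  push_cast
  simpa only [_root_.Int.reduceNeg, _root_.sub_neg_eq_add] using h

theorem not_dvd_pow_add_one {p q j : ℕ} (hp : p.Prime) (hpq : p ∣ q) (hj : 0 < j) : ¬ p ∣ q ^ j + 1 := by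
  intro h
  have h1 : p ∣ q ^ j := dvd_pow hpq (by omega)
  exact hp.one_lt.ne' (Nat.dvd_one.1 ((Nat.dvd_add_right h1).1 h))

theorem not_dvd_pow_sub_one' {p q j : ℕ} (hp : p.Prime) (hq : 1 ≤ q) (hpq : p ∣ q) (hj : 0 < j) : ¬ p ∣ q ^ j - 1 := by
  intro h
  have h1 : p ∣ q ^ j := dvd_pow hpq (by omega)
  have h2 : 1 ≤ q ^ j := Nat.one_le_pow _ _ (by omega)
  have h3 : p ∣ 1 := by
    have := (Nat.dvd_sub h1 h)
    rwa [Nat.sub_sub_self h2] at this
  exact hp.one_lt.ne' (Nat.dvd_one.1 h3)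

theorem not_dvd_au {p q j : ℕ} (hp : p.Prime) (hq : 1 ≤ q) (hpq : p ∣ q) (hj : 0 < j) : ¬ p ∣ au q j := by
  unfold au
  split_ifs
  · exact not_dvd_pow_add_one hp hpq hj
  · exact not_dvd_pow_sub_one' hp hq hpq hj

theorem fact_of' {p c d e X : ℕ} (hp : p.Prime) (hd : ¬ p ∣ d) (hX : ¬ p ∣ X) (h : c * d = p ^ e * X) :
    c.factorization p = e := by
  have hX0 : X ≠ 0 := by rintro rfl; exact hX (dvd_zero p)
  have hd0 : d ≠ 0 := by rintro rfl; exact hd (dvd_zero p)
  have hc0 : c ≠ 0 := by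
    rintro rfl
    rw [zero_mul] at h
    have := (mul_eq_zero.1 h.symm).resolve_left (pow_ne_zero _ hp.ne_zero)
    exact hX0 this
  have h1 : (c * d).factorization p = (p ^ e * X).factorization p := by rw [h]
  rw [Nat.factorization_mul hc0 hd0, Nat.factorization_mul (pow_ne_zero _ hp.ne_zero) hX0, hp.factorization_pow] at h1
  simp only [Finsupp.add_apply, Finsupp.single_eq_same] at h1
  rw [Nat.factorization_eq_zero_of_not_dvd hd, Nat.factorization_eq_zero_of_not_dvd hX] at h1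
  simpa using h1

/-- the order of `PSU_n(q)` -/
theorem card_psu' {F : Type v} [Field F] [Fintype F] {q : ℕ} (hF : Fintype.card F = q ^ 2) {n : ℕ} (hn : 3 ≤ n) :
    Nat.gcd n (q + 1) * Nat.card (PSU n F q) =
      q ^ (n * (n - 1) / 2) * ∏ i ∈ Finset.range (n - 1), au q (i + 2) := by
  have h := S0280.result hF n (by omega)
  obtain ⟨m, rfl⟩ := Nat.exists_eq_add_of_le' hn
  rw [Finset.prod_range_succ', if_pos (by decide), zero_add, pow_one, mul_left_comm, ← mul_assoc (q ^ _),
    mul_comm _ (q + 1)] at h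
  have h' := Nat.eq_of_mul_eq_mul_left (show 0 < q + 1 by omega) h
  rw [h']
  congr 1
  refine Finset.prod_congr rfl fun i _ => ?_
  unfold au
  rcases Nat.even_or_odd i with hi | hi
  · rw [if_neg (by rw [Nat.even_add_one, not_not]; exact hi), if_neg (by
      rw [Nat.not_odd_iff_even]; exact hi.add even_two)]
  · rw [if_pos hi.add_one, if_pos (hi.add_even even_two)]

/-- the factor of `cc` prime to `p` -/
def ccp (q m k : ℕ) : ℕ :=
  ∏ i ∈ Finset.range m, (if Odd k then (if Even i then (q ^ k) ^ (i + 1) + 1 else (q ^ k) ^ (i + 1) - 1)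
    else (q ^ k) ^ (i + 1) - 1)

theorem not_dvd_ccp {p q m k : ℕ} (hp : p.Prime) (hq : 1 ≤ q) (hpq : p ∣ q) (hk : 0 < k) : ¬ p ∣ ccp q m k := by
  unfold ccp
  rw [Prime.dvd_finsetProd_iff hp.prime]
  rintro ⟨i, -, hi⟩
  have h1 : p ∣ q ^ k := dvd_pow hpq (by omega)
  have h2 : 1 ≤ q ^ k := Nat.one_le_pow _ _ hq
  revert hi
  split_ifs
  · exact not_dvd_pow_add_one hp h1 (by omega)
  · exact not_dvd_pow_sub_one' hp h2 h1 (by omega)
  · exact not_dvd_pow_sub_one' hp h2 h1 (by omega)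

variable {F : Type v} [Field F] [Fintype F] {p f n r : ℕ}

/-- **L-PSU-sub.** -/
theorem lat_psu_sub (hp : p.Prime) (hf : 1 ≤ f) (hF : Fintype.card F = (p ^ f) ^ 2) (hn : 4 ≤ n) (hr : r.Prime)
    (ho : orderOf (-((p ^ f : ℕ) : ZMod r)) = n - 1) :
    Lat (PSU n F (p ^ f)) p r ((((p ^ f : ℕ) : ℤ) ^ (n - 1) - (-1) ^ (n - 1)).natAbs / Nat.gcd n (p ^ f + 1)) := by
  have := Fact.mk hr
  have := Fact.mk hp
  set S := PSU n F (p ^ f) with hS
  have hfin : Finite S := Quotient.finite _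
  set q := p ^ f with hq
  have hq1 : 1 < q := Nat.one_lt_pow (by omega) hp.one_lt
  have hpq : p ∣ q := dvd_pow_self p (by omega)
  rw [natAbs_au hq1.le]
  -- divisibility
  have hmem : ∀ d, r ∣ au q d ↔ n - 1 ∣ d := by
    intro d
    rw [dvd_au_iff hq1.le hr, ho]
  have hrq : ¬ r ∣ q := by
    intro h
    have h0 : ((q : ℕ) : ZMod r) = 0 := (ZMod.natCast_eq_zero_iff _ _).2 h
    rw [h0, neg_zero, orderOf_eq_zero_iff'.2 (fun k hk => by rw [zero_pow (by omega)]; exact zero_ne_one)] at ho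
    omega
  have hrF : (r : F) ≠ 0 := by
    intro h0
    obtain ⟨p', hchar⟩ := CharP.exists F
    have hp' : p'.Prime := (CharP.char_is_prime_or_zero F p').resolve_right (by
      rintro rfl
      have := CharP.charP_to_charZero F
      have := Nat.cast_eq_zero (R := F).1 h0
      exact hr.ne_zero this)
    have h1 : p' ∣ r := (CharP.cast_eq_zero_iff F p' r).1 h0
    have h2 : p' = r := (Nat.prime_dvd_prime_iff_eq hp' hr).1 h1
    subst h2
    obtain ⟨e, -, he⟩ := FiniteField.card F p'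
    apply hrq
    have h3 : p' ∣ q ^ 2 := by rw [← hF, he]; exact dvd_pow_self p' e.ne_zero
    exact hr.dvd_of_dvd_pow h3
  set d := Nat.gcd n (q + 1) with hd
  have hd0 : 0 < d := Nat.gcd_pos_of_pos_right _ (by omega)
  have hdq : d ∣ q + 1 := Nat.gcd_dvd_right _ _
  have hpd : ¬ p ∣ d := by
    intro h
    have := not_dvd_pow_add_one (j := 1) hp hpq one_pos
    rw [pow_one] at this
    exact this (h.trans hdq)
  have hrd : ¬ r ∣ d := by
    intro h
    have h1 : r ∣ au q 1 := by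
      have : au q 1 = q + 1 := by simp [au]
      rw [this]; exact h.trans hdq
    rw [hmem] at h1
    have := Nat.le_of_dvd one_pos h1
    omega
  have hdm : d ∣ au q (n - 1) := hdq.trans (dvd_au hq1.le _)
  set m0 := au q (n - 1) / d with hm0
  have hm0d : m0 * d = au q (n - 1) := Nat.div_mul_cancel hdm
  have hpm : ¬ p ∣ m0 := by
    intro h
    exact not_dvd_au (j := n - 1) hp hq1.le hpq (by omega) (hm0d ▸ Dvd.dvd.mul_right h d)
  have hcS := card_psu' hF (n := n) (by omega)
  rw [← hd, ← hS] at hcS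
  have hpprod : ¬ p ∣ ∏ i ∈ Finset.range (n - 1), au q (i + 2) := by
    rw [Prime.dvd_finsetProd_iff hp.prime]
    rintro ⟨i, -, hi⟩
    exact not_dvd_au hp hq1.le hpq (by omega) hi
  -- `p`-part of `|S|`
  have hpS : (Nat.card S).factorization p = f * (n * (n - 1) / 2) := by
    apply fact_of' hp hpd hpprod
    rw [mul_comm, hcS, hq, ← pow_mul]
  -- `r`-part of `|S|`
  have hrS' : d * Nat.card S = au q (n - 1) * (q ^ (n * (n - 1) / 2) *
      ∏ i ∈ (Finset.range (n - 1)).erase (n - 3), au q (i + 2)) := by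
    rw [hcS, ← Finset.mul_prod_erase (Finset.range (n - 1)) (fun i => au q (i + 2))
      (show n - 3 ∈ Finset.range (n - 1) by rw [Finset.mem_range]; omega)]
    have : n - 3 + 2 = n - 1 := by omega
    rw [this]
    ring
  have hrX : ¬ r ∣ q ^ (n * (n - 1) / 2) * ∏ i ∈ (Finset.range (n - 1)).erase (n - 3), au q (i + 2) := by
    rw [hr.dvd_mul, not_or]
    refine ⟨fun h => hrq (hr.dvd_of_dvd_pow h), ?_⟩
    rw [Prime.dvd_finsetProd_iff hr.prime]
    rintro ⟨i, hi, hri⟩
    rw [Finset.mem_erase, Finset.mem_range] at hi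
    rw [hmem] at hri
    obtain ⟨c, hc⟩ := hri
    have hc2 : c < 2 := by
      by_contra hcon
      have : (n - 1) * 2 ≤ (n - 1) * c := Nat.mul_le_mul_left _ (by omega)
      omega
    interval_cases c
    · omega
    · omega
  have hrS : r ∣ Nat.card S := by
    have h1 : r ∣ d * Nat.card S := by
      rw [hrS']
      exact Dvd.dvd.mul_right ((hmem _).2 dvd_rfl) _
    exact (hr.dvd_mul.1 h1).resolve_left hrd
  have hfull : r ^ (Nat.card S).factorization r ∣ m0 := by
    have hm00 : m0 ≠ 0 := by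
      intro h0
      rw [h0] at hpm
      exact hpm (dvd_zero p)
    rw [hr.pow_dvd_iff_le_factorization hm00]
    have hqn : au q (n - 1) ≠ 0 := by
      rw [← hm0d]
      exact mul_ne_zero hm00 hd0.ne'
    have e1 : (d * Nat.card S).factorization r = (Nat.card S).factorization r := by
      rw [Nat.factorization_mul hd0.ne' Nat.card_pos.ne']
      simp only [Nat.factorization_eq_zero_of_not_dvd hrd, _root_.Finsupp.coe_add, _root_.Pi.add_apply, _root_.zero_add]
    have hX0 : q ^ (n * (n - 1) / 2) * ∏ i ∈ (Finset.range (n - 1)).erase (n - 3), au q (i + 2) ≠ 0 := by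
      intro h0
      rw [h0] at hrX
      exact hrX (dvd_zero r)
    have e2 : (m0 * d).factorization r = m0.factorization r := by
      rw [Nat.factorization_mul hm00 hd0.ne']
      simp [Nat.factorization_eq_zero_of_not_dvd hrd]
    rw [← e1, ← e2, hrS', hm0d, Nat.factorization_mul hqn hX0]
    simp only [Nat.factorization_eq_zero_of_not_dvd hrX, _root_.Finsupp.coe_add, _root_.Pi.add_apply, _root_.add_zero, _root_.Std.le_refl]
  -- the list
  have hlist : ∀ x : S, x ≠ 1 → r ∣ Nat.card (Subgroup.centralizer ({x} : Set S)) →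
      ∃ k m : ℕ, k * m = n - 1 ∧ 0 < k ∧ 0 < m ∧ (orderOf x = r → m = 1) ∧
        Nat.card (Subgroup.centralizer ({x} : Set S)) * d =
          p ^ (f * k * (m * (m - 1) / 2)) * ccp q m k := by
    intro x hx hrx
    obtain ⟨k, m, hkm, hk, hm, hc⟩ : ∃ k m : ℕ, k * m = n - 1 ∧ 0 < k ∧ (orderOf x = r → m = 1) ∧
        Nat.card (Subgroup.centralizer ({x} : Set S)) * d = cc q m k := by
      obtain ⟨N, rfl⟩ : ∃ N, n = N + 1 := ⟨n - 1, by omega⟩
      rw [Nat.add_sub_cancel] at ho ⊢
      exact exists_card hF hr hrF (by omega) ho hx hrx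
    refine ⟨k, m, hkm, hk, ?_, hm, ?_⟩
    · rcases Nat.eq_zero_or_pos m with h | h
      · rw [h, mul_zero] at hkm; omega
      · exact h
    · rw [hc, cc, ccp, hq, ← pow_mul, ← pow_mul, mul_assoc f k]
  have hval : ∀ (c k m : ℕ), 0 < k → c * d = p ^ (f * k * (m * (m - 1) / 2)) * ccp q m k →
      c.factorization p = f * k * (m * (m - 1) / 2) := by
    intro c k m hk h
    exact fact_of' hp hpd (not_dvd_ccp hp hq1.le hpq hk) h
  have hone : ∀ (c k m : ℕ), k * m = n - 1 → m = 1 → c * d = p ^ (f * k * (m * (m - 1) / 2)) * ccp q m k →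
      c = m0 := by
    intro c k m hkm hm h
    subst hm
    rw [mul_one] at hkm
    apply Nat.eq_of_mul_eq_mul_right hd0
    rw [h, hm0d, hkm, ccp, au]
    simp only [_root_.tsub_self, _root_.MulZeroClass.mul_zero, _root_.Nat.zero_div, _root_.pow_zero, _root_.Finset.range_one, _root_.Finset.prod_ite_irrel, _root_.Finset.prod_singleton, _root_.Even.zero, ↓ _root_.reduceIte, _root_.zero_add, _root_.pow_one, _root_.mul_ite, _root_.one_mul]
  have hne1 : ∀ x : S, Nat.card (Subgroup.centralizer ({x} : Set S)) ≠ Nat.card S → x ≠ 1 := by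
    rintro x hc rfl
    apply hc
    have : Subgroup.centralizer ({1} : Set S) = ⊤ := by
      rw [eq_top_iff]
      intro y _
      rw [Subgroup.mem_centralizer_singleton_iff]
      simp
    rw [this, Subgroup.card_top]
  -- elements of order `r`
  have hordr : ∀ y : S, orderOf y = r → Nat.card (Subgroup.centralizer ({y} : Set S)) = m0 := by
    intro y hy
    have hy1 : y ≠ 1 := by
      rintro rfl
      rw [orderOf_one] at hy
      exact hr.one_lt.ne hy
    obtain ⟨k, m, hkm, hk, hm, hm1, hc⟩ := hlist y hy1 (dvd_cent (Commute.refl y) hy.symm.dvd)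
    exact hone _ k m hkm (hm1 hy) hc
  refine ⟨hrS, ?_, ?_, hfull, hpm, ?_, ?_, ?_⟩
  · -- h0
    have hpS1 : p ∣ Nat.card S := by
      have h1 : p ∣ d * Nat.card S := by
        rw [hcS]
        apply Dvd.dvd.mul_right
        apply dvd_pow hpq
        have : 2 * 3 ≤ n * (n - 1) := by
          calc 2 * 3 = 3 * 2 := by norm_num
            _ ≤ n * (n - 1) := Nat.mul_le_mul (by omega) (by omega)
        omega
      exact (hp.dvd_mul.1 h1).resolve_left hpd
    obtain ⟨x, hx⟩ := exists_prime_orderOf_dvd_card' p hpS1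
    refine ⟨_, mem_co x, ?_⟩
    intro hrx
    obtain ⟨⟨y, hy⟩, hyr⟩ := exists_prime_orderOf_dvd_card' r hrx
    rw [Subgroup.orderOf_mk] at hyr
    apply hpm
    rw [← hordr y hyr]
    exact dvd_cent (mem_cent.1 hy).symm hx.symm.dvd
  · -- mem
    obtain ⟨y, hy⟩ := exists_prime_orderOf_dvd_card' r hrS
    exact ⟨y, hordr y hy⟩
  · -- one
    rintro _ ⟨x, rfl⟩ hcx hrx hpx
    dsimp only at hcx hrx hpx ⊢
    obtain ⟨k, m, hkm, hk, hm, -, hc⟩ := hlist x (hne1 x hcx) hrx
    have hv := hval _ k m hk hc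
    rw [Nat.factorization_eq_zero_of_not_dvd hpx] at hv
    apply hone _ k m hkm _ hc
    by_contra hm1
    have h2 : 2 * 1 ≤ m * (m - 1) := Nat.mul_le_mul (by omega) (by omega)
    have h3 : 0 < m * (m - 1) / 2 := by omega
    have h4 : 0 < f * k * (m * (m - 1) / 2) := by (clear * - hf hk h3; positivity)
    omega
  · -- h3
    rintro _ ⟨x, rfl⟩ hcx hrx hpx
    dsimp only at hcx hrx hpx
    obtain ⟨k, m, hkm, hk, hm, -, hc⟩ := hlist x (hne1 x hcx) hrx
    have hv := hval _ k m hk hc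
    rw [hp.pow_dvd_iff_le_factorization Nat.card_pos.ne', hv, hpS] at hpx
    have h1 : k * (m * (m - 1) / 2) < n * (n - 1) / 2 := by
      have e1 : k * (m * (m - 1) / 2) * 2 = (n - 1) * (m - 1) := by
        rw [mul_assoc, Nat.div_mul_cancel (Nat.even_mul_pred_self m).two_dvd, ← mul_assoc, hkm]
      have e2 : n * (n - 1) / 2 * 2 = n * (n - 1) := Nat.div_mul_cancel (Nat.even_mul_pred_self n).two_dvd
      have hmn : m ≤ n - 1 := hkm ▸ Nat.le_mul_of_pos_left m hk
      have e3 : (n - 1) * (m - 1) < n * (n - 1) := by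
        rw [mul_comm n]
        exact Nat.mul_lt_mul_of_pos_left (by (clear * - hn hcx hkm hm hmn; omega)) (by omega)
      omega
    have h2 : f * k * (m * (m - 1) / 2) < f * (n * (n - 1) / 2) := by
      rw [mul_assoc]
      exact Nat.mul_lt_mul_of_pos_left h1 (by omega)
    omega
  · -- h4
    rintro _ ⟨x, rfl⟩ hcx hrx hpx
    dsimp only at hcx hrx hpx ⊢
    right
    rintro _ ⟨x', rfl⟩ hrx' hdvd hfac
    dsimp only at hrx' hdvd hfac ⊢
    have hcx' : Nat.card (Subgroup.centralizer ({x'} : Set S)) ≠ Nat.card S := by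
      intro h
      apply hcx
      exact Nat.dvd_antisymm (Subgroup.card_subgroup_dvd_card _) (h ▸ hdvd)
    obtain ⟨k, m, hkm, hk, hm, -, hc⟩ := hlist x (hne1 x hcx) hrx
    obtain ⟨k', m', hkm', hk', hm', -, hc'⟩ := hlist x' (hne1 x' hcx') hrx'
    rw [hval _ k m hk hc, hval _ k' m' hk' hc'] at hfac
    rw [mul_assoc, mul_assoc] at hfac
    have h1 := Nat.eq_of_mul_eq_mul_left (by omega : 0 < f) hfac
    have e1 : k * (m * (m - 1) / 2) * 2 = (n - 1) * (m - 1) := by
      rw [mul_assoc, Nat.div_mul_cancel (Nat.even_mul_pred_self m).two_dvd, ← mul_assoc, hkm]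
    have e2 : k' * (m' * (m' - 1) / 2) * 2 = (n - 1) * (m' - 1) := by
      rw [mul_assoc, Nat.div_mul_cancel (Nat.even_mul_pred_self m').two_dvd, ← mul_assoc, hkm']
    rw [h1, e1] at e2
    have h2 := Nat.eq_of_mul_eq_mul_left (by (clear * - hn; omega) : 0 < n - 1) e2
    have h3 : m = m' := by (clear * - hm hm' h2; omega)
    subst h3
    have h4 : k = k' := Nat.eq_of_mul_eq_mul_right hm (hkm.trans hkm'.symm)
    subst h4
    exact Nat.eq_of_mul_eq_mul_right hd0 (hc'.trans hc.symm)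

end Cfsg.Agent.H446.CS
end

-- part: H157/CS/Dich
section
/-!
# S3677, unitary groups: isometries commuting with an element of order `r`, `-q` of order `n` modulo `r` (helper157)

`V` a nondegenerate hermitian space of dimension `n` over `F`, `|F| = q²`, `x` an isometry of prime order `r`, where `-q`
has order `n ≥ 2` modulo `r`.

* `le_finrank` : nondegenerate spaces with an isometry of order `r` have dimension at least `n`;
* `eq_zero_of_fix` : `x` has no fixed vectors;
* `dvd_finrank` : the dimension of an `x`-invariant subspace is divisible by the order of `q²` modulo `r`;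
* `dich` : for `y` commuting with `x`, with squarefree minimal polynomial: the minimal polynomial is irreducible, or
  `n` is even and `V = ker P(y) ⊕ ker R(y)`, both totally isotropic of dimension `n / 2`, `P` irreducible.
-/

set_option autoImplicit false
set_option linter.unusedSectionVars false

namespace Cfsg.Agent.H157.CS

open Cfsg Cfsg.Agent.H948.UBase Cfsg.Agent.LieClassical.HermBasic Module Polynomial

section

variable {F : Type*} [Field F] [Fintype F] {q : ℕ} {hF : Fintype.card F = q ^ 2}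

/-- `r ∣ ph q i` means `(-q) ^ (i + 1) = 1` -/
theorem neg_pow_of_dvd {r i : ℕ} (hq : 1 ≤ q) (h : r ∣ H948.UProd.ph q i) : (-(q : ZMod r)) ^ (i + 1) = 1 := by
  have h1 := (ZMod.natCast_eq_zero_iff _ _).2 h
  unfold H948.UProd.ph at h1
  rcases Nat.even_or_odd i with hi | hi
  · rw [if_pos hi] at h1
    rw [hi.add_one.neg_pow]
    push_cast at h1
    linear_combination -h1
  · rw [if_neg (Nat.not_even_iff_odd.2 hi), Nat.cast_sub (Nat.one_le_pow _ _ hq)] at h1
    rw [hi.add_one.neg_pow]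
    push_cast at h1
    linear_combination h1

end

variable {F : Type*} [Field F] [Fintype F] {q : ℕ} {hF : Fintype.card F = q ^ 2} {V : Type*} [AddCommGroup V]
  [Module F V] [FiniteDimensional F V] {B : V →ₛₗ[cj hF] V →ₗ[F] F}

/-- **Isometries of order `r`.** -/
theorem le_finrank (hB : IsHerm hF B) {r n : ℕ} (hr : r.Prime) (hrq : ¬ r ∣ q) (ho : orderOf (-(q : ZMod r)) = n)
    (hn : 2 ≤ n) {T : Module.End F V} (hT : Iso B T) (hTr : T ^ r = 1) (hT1 : T ≠ 1) : n ≤ finrank F V := by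
  have hq : 1 ≤ q := by have := two_le hF; omega
  have hrq1 : ¬ r ∣ q + 1 := by
    intro h
    have h3 : ((q + 1 : ℕ) : ZMod r) = 0 := (ZMod.natCast_eq_zero_iff _ _).2 h
    push_cast at h3
    have h4 : (-(q : ZMod r)) = 1 := by rw [neg_eq_iff_add_eq_zero, ← h3]
    rw [h4, orderOf_one] at ho
    omega
  have hdet : LinearMap.det T = 1 := by
    have h1 : LinearMap.det T ^ r = 1 := by rw [← map_pow, hTr, map_one]
    have h2 := det_norm hB hT
    have h3 : orderOf (LinearMap.det T) ∣ 1 := by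
      have h4 : Nat.Coprime r (q + 1) := (Nat.Prime.coprime_iff_not_dvd hr).2 hrq1
      rw [← h4]
      exact Nat.dvd_gcd (orderOf_dvd_of_pow_eq_one h1) (orderOf_dvd_of_pow_eq_one h2)
    exact orderOf_eq_one_iff.1 (Nat.dvd_one.1 h3)
  obtain ⟨e, he⟩ := exists_coord hB rfl
  set g := suHom e he ⟨T, hT, hdet⟩ with hg
  have hgr : g ^ r = 1 := by
    rw [hg, ← map_pow]
    have : (⟨T, hT, hdet⟩ : isoM B) ^ r = 1 := Subtype.ext (by simpa only [_root_.SubmonoidClass.coe_pow, _root_.OneMemClass.coe_one] using hTr)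
    rw [this, map_one]
  have hg1 : g ≠ 1 := by
    intro h
    apply hT1
    ext v
    have h1 := act_toSU e he T hT hdet (e v)
    have h2 : toSU e he T hT hdet = 1 := h
    rw [h2, LieClassical.HermSiegel.act_one, LinearEquiv.symm_apply_apply] at h1
    exact (e.injective h1).symm
  have hgo : orderOf g = r := by
    have := Fact.mk hr
    exact orderOf_eq_prime hgr hg1
  have hd : r ∣ Nat.card (SU (finrank F V) F q) := by
    rw [← hgo]
    exact orderOf_dvd_natCard g
  rcases Nat.eq_zero_or_pos (finrank F V) with h0 | h0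
  · exfalso
    apply hT1
    have := Module.finrank_zero_iff.1 h0
    ext v
    exact Subsingleton.elim _ _
  rw [H948.UProd.card_SU hF h0, hr.dvd_mul] at hd
  rcases hd with hd | hd
  · exact absurd (hr.dvd_of_dvd_pow hd) hrq
  · rw [Prime.dvd_finsetProd_iff hr.prime] at hd
    obtain ⟨i, hi, hd⟩ := hd
    have h1 := neg_pow_of_dvd hq hd
    have h2 : n ∣ i + 1 + 1 := ho ▸ orderOf_dvd_of_pow_eq_one h1
    have h3 := Nat.le_of_dvd (by omega) h2
    rw [Finset.mem_range] at hi
    omega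

/-- the restriction to a nondegenerate subspace -/
theorem isHerm_restrict (hB : IsHerm hF B) {W : Submodule F V}
    (hW : ∀ w ∈ W, (∀ u ∈ W, B w u = 0) → w = 0) : IsHerm hF (B.domRestrict₁₂ W W) :=
  ⟨⟨fun x y => hB.symm.eq x y⟩, fun x h => Subtype.ext (hW x x.2 fun u hu => h ⟨u, hu⟩)⟩

/-- **Isometries of order `r` of nondegenerate subspaces.** -/
theorem le_finrank_sub (hB : IsHerm hF B) {r n : ℕ} (hr : r.Prime) (hrq : ¬ r ∣ q) (ho : orderOf (-(q : ZMod r)) = n)
    (hn : 2 ≤ n) {T : Module.End F V} (hT : Iso B T) (hTr : T ^ r = 1) {W : Submodule F V}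
    (hTW : ∀ w ∈ W, T w ∈ W) (hW : ∀ w ∈ W, (∀ u ∈ W, B w u = 0) → w = 0) (h1 : ∃ w ∈ W, T w ≠ w) :
    n ≤ finrank F W := by
  refine le_finrank (isHerm_restrict hB hW) hr hrq ho hn (T := T.restrict hTW) (fun x y => hT x y) ?_ ?_
  · rw [Module.End.pow_restrict r hTW]
    ext w
    change (T ^ r) (w : V) = w
    rw [hTr]
    rfl
  · intro h
    obtain ⟨w, hw, hne⟩ := h1
    exact hne (congrArg Subtype.val (LinearMap.congr_fun h ⟨w, hw⟩))

/-- powers of `1 + N` on a vector killed by `N²` -/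
theorem pow_apply_of_sq {T : Module.End F V} {v w : V} (h1 : T v = v + w) (h2 : T w = w) (k : ℕ) :
    (T ^ k) v = v + (k : F) • w := by
  induction k with
  | zero => simp only [_root_.pow_zero, _root_.Module.End.one_apply, _root_.Nat.cast_zero, _root_.zero_smul, _root_.add_zero]
  | succ k ih =>
    have h3 : (T ^ (k + 1)) v = T ((T ^ k) v) := by rw [pow_succ']; rfl
    rw [h3, ih, map_add, map_smul, h1, h2]
    push_cast
    rw [add_smul, one_smul]
    abel

/-- `r ≠ 0` in `F` -/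
theorem cast_ne_zero (hF : Fintype.card F = q ^ 2) {r : ℕ} (hr : r.Prime) (hrq : ¬ r ∣ q) : (r : F) ≠ 0 := by
  intro h0
  apply hrq
  have h2 := (ringChar.spec F r).1 h0
  have h3 : (ringChar F).Prime := CharP.char_is_prime F _
  rcases (Nat.dvd_prime hr).1 h2 with h4 | h4
  · exact absurd h4 h3.one_lt.ne'
  · have h5 : ((q ^ 2 : ℕ) : F) = 0 := by rw [← hF]; exact FiniteField.cast_card_eq_zero F
    rw [Nat.cast_pow, pow_eq_zero_iff two_ne_zero] at h5
    rw [← h4]
    exact (ringChar.spec F q).1 h5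

/-- **No fixed vectors.** -/
theorem eq_zero_of_fix (hB : IsHerm hF B) {r n : ℕ} (hr : r.Prime) (hrq : ¬ r ∣ q) (ho : orderOf (-(q : ZMod r)) = n)
    (hn : 2 ≤ n) (hV : finrank F V = n) {T : Module.End F V} (hT : Iso B T) (hTr : T ^ r = 1) (hT1 : T ≠ 1)
    {v : V} (hv : T v = v) : v = 0 := by
  have hrF := cast_ne_zero hF hr hrq
  -- `(T - 1)² u = 0` implies `(T - 1) u = 0`
  have hsq : ∀ u : V, T (T u - u) = T u - u → T u - u = 0 := by
    intro u hu
    have h1 := pow_apply_of_sq (T := T) (v := u) (w := T u - u) (by abel) hu r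
    rw [hTr, Module.End.one_apply] at h1
    have h2 : (r : F) • (T u - u) = 0 := by
      have := h1.symm
      rwa [add_eq_left] at this
    exact (smul_eq_zero.1 h2).resolve_left hrF
  have hsurj : Function.Surjective T := by
    intro w
    refine ⟨(T ^ (r - 1)) w, ?_⟩
    have h3 : T ((T ^ (r - 1)) w) = (T ^ (r - 1 + 1)) w := by rw [pow_succ']; rfl
    rw [h3, Nat.sub_add_cancel hr.one_le, hTr]
    rfl
  set W : Submodule F V := LinearMap.range (T - 1) with hW
  have hmem : ∀ w, w ∈ W ↔ ∃ u, T u - u = w := fun w => Iff.rfl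
  have hTW : ∀ w ∈ W, T w ∈ W := by
    rintro w ⟨u, rfl⟩
    exact ⟨T u, by simp only [map_sub, _root_.LinearMap.sub_apply, _root_.Module.End.one_apply]⟩
  have hnd : ∀ w ∈ W, (∀ u ∈ W, B w u = 0) → w = 0 := by
    intro w hw h
    have h1 : ∀ u, B (w - T w) (T u) = 0 := by
      intro u
      have h2 := h (T u - u) ⟨u, rfl⟩
      rw [map_sub, sub_eq_zero] at h2
      rw [map_sub, LinearMap.sub_apply, hT, h2, sub_self]
    have h3 : w - T w = 0 := by
      refine hB.sep _ fun u => ?_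
      obtain ⟨u', rfl⟩ := hsurj u
      exact h1 u'
    obtain ⟨u, rfl⟩ := hw
    refine hsq u ?_
    exact (sub_eq_zero.1 h3).symm
  have h1 : ∃ w ∈ W, T w ≠ w := by
    by_contra hcon
    push Not at hcon
    apply hT1
    ext u
    have h2 := hsq u (hcon _ ⟨u, rfl⟩)
    exact sub_eq_zero.1 h2
  have h2 := le_finrank_sub hB hr hrq ho hn hT hTr hTW hnd h1
  have h3 : W = ⊤ := Submodule.eq_top_of_finrank_eq (le_antisymm (Submodule.finrank_le _) (hV ▸ h2))
  have h4 : Function.Surjective (T - 1 : Module.End F V) := LinearMap.range_eq_top.1 h3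
  have h5 := LinearMap.injective_iff_surjective.2 h4
  apply h5
  rw [map_zero, LinearMap.sub_apply, Module.End.one_apply, hv, sub_self]

/-- **No proper nondegenerate invariant subspaces.** -/
theorem exists_iso (hB : IsHerm hF B) {r n : ℕ} (hr : r.Prime) (hrq : ¬ r ∣ q) (ho : orderOf (-(q : ZMod r)) = n)
    (hn : 2 ≤ n) (hV : finrank F V = n) {T : Module.End F V} (hT : Iso B T) (hTr : T ^ r = 1) (hT1 : T ≠ 1)
    {W : Submodule F V} (hTW : ∀ w ∈ W, T w ∈ W) (hW0 : W ≠ ⊥) (hWt : W ≠ ⊤) :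
    ∃ w ∈ W, (∀ u ∈ W, B w u = 0) ∧ w ≠ 0 := by
  by_contra hcon
  push Not at hcon
  obtain ⟨w, hw, hw0⟩ := Submodule.exists_mem_ne_zero_of_ne_bot hW0
  have h2 := le_finrank_sub hB hr hrq ho hn hT hTr hTW hcon
    ⟨w, hw, fun h => hw0 (eq_zero_of_fix hB hr hrq ho hn hV hT hTr hT1 h)⟩
  exact hWt (Submodule.eq_top_of_finrank_eq (le_antisymm (Submodule.finrank_le _) (hV ▸ h2)))

/-- **The dimensions of the invariant subspaces.** -/
theorem dvd_finrank (hB : IsHerm hF B) {r n : ℕ} (hr : r.Prime) (hrq : ¬ r ∣ q) (ho : orderOf (-(q : ZMod r)) = n)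
    (hn : 2 ≤ n) (hV : finrank F V = n) {T : Module.End F V} (hT : Iso B T) (hTr : T ^ r = 1) (hT1 : T ≠ 1)
    {W : Submodule F V} (hTW : ∀ w ∈ W, T w ∈ W) : orderOf ((q ^ 2 : ℕ) : ZMod r) ∣ finrank F W := by
  classical
  have := Fact.mk hr
  have hfin : Finite V := Module.finite_of_finite F
  have hfW : Fintype W := Fintype.ofFinite _
  let f : Function.End W := fun w => ⟨T w, hTW w w.2⟩
  have hfp : ∀ k : ℕ, ∀ w : W, (((f ^ k) w : W) : V) = (T ^ k) w := by
    intro k
    induction k with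
    | zero => intro w; rfl
    | succ k ih =>
      intro w
      have h1 : ((f ^ (k + 1)) w : W) = f ((f ^ k) w) := by rw [pow_succ']; rfl
      rw [h1]
      change T (((f ^ k) w : W) : V) = _
      rw [ih, pow_succ']
      rfl
  have hf : f ^ r ^ 1 = 1 := by
    rw [pow_one]
    funext w
    apply Subtype.ext
    rw [hfp, hTr]
    rfl
  have h1 := Equiv.Perm.card_fixedPoints_modEq hf
  have h2 : Fintype.card (Function.fixedPoints f) = 1 := by
    rw [Fintype.card_eq_one_iff]
    refine ⟨⟨0, Subtype.ext (map_zero T)⟩, fun w => ?_⟩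
    apply Subtype.ext
    apply Subtype.ext
    exact eq_zero_of_fix hB hr hrq ho hn hV hT hTr hT1 (congrArg Subtype.val w.2)
  rw [h2, ← Nat.card_eq_fintype_card, Module.natCard_eq_pow_finrank (K := F), Nat.card_eq_fintype_card, hF] at h1
  have h3 : (((q ^ 2) ^ finrank F W : ℕ) : ZMod r) = ((1 : ℕ) : ZMod r) := (ZMod.natCast_eq_natCast_iff _ _ _).2 h1
  rw [Nat.cast_pow, Nat.cast_one] at h3
  exact orderOf_dvd_of_pow_eq_one h3

/-- the order of `q²` -/
theorem order_sq {r n : ℕ} (ho : orderOf (-(q : ZMod r)) = n) (hn : 2 ≤ n) :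
    orderOf ((q ^ 2 : ℕ) : ZMod r) = n / Nat.gcd n 2 := by
  have h1 : ((q ^ 2 : ℕ) : ZMod r) = (-(q : ZMod r)) ^ 2 := by push_cast; ring
  rw [h1, orderOf_pow' _ two_ne_zero, ho]

/-- **The dichotomy.** -/
theorem dich (hB : IsHerm hF B) {r n : ℕ} (hr : r.Prime) (hrq : ¬ r ∣ q) (ho : orderOf (-(q : ZMod r)) = n)
    (hn : 2 ≤ n) (hV : finrank F V = n) {T : Module.End F V} (hT : Iso B T) (hTr : T ^ r = 1) (hT1 : T ≠ 1)
    {y : Module.End F V} (hyT : Commute y T) (hsq : Squarefree (minpoly F y)) :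
    Irreducible (minpoly F y) ∨ (∃ P R : F[X], Irreducible P ∧ IsCoprime P R ∧ minpoly F y = P * R ∧
      2 * finrank F (LinearMap.ker (aeval y P)) = n ∧ 2 * finrank F (LinearMap.ker (aeval y R)) = n ∧
      IsCompl (LinearMap.ker (aeval y P)) (LinearMap.ker (aeval y R)) ∧
      (∀ u ∈ LinearMap.ker (aeval y P), ∀ v ∈ LinearMap.ker (aeval y P), B u v = 0) ∧
      (∀ u ∈ LinearMap.ker (aeval y R), ∀ v ∈ LinearMap.ker (aeval y R), B u v = 0)) := by
  have hint : IsIntegral F y := Algebra.IsIntegral.isIntegral y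
  have hm0 : minpoly F y ≠ 0 := minpoly.ne_zero hint
  have hnt : Nontrivial V := Module.nontrivial_of_finrank_pos (R := F) (by omega)
  have hu : ¬ IsUnit (minpoly F y) := fun h => (minpoly.natDegree_pos hint).ne' (natDegree_eq_zero_of_isUnit h)
  obtain ⟨P, hP, R, hR⟩ := WfDvdMonoid.exists_irreducible_factor hu hm0
  by_cases hRu : IsUnit R
  · left
    rw [hR]
    exact (irreducible_mul_isUnit hRu).2 hP
  right
  have hco : IsCoprime P R := by
    rw [hP.coprime_iff_not_dvd]
    rintro ⟨R', rfl⟩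
    have h1 : P * P ∣ minpoly F y := ⟨R', by rw [hR, mul_assoc]⟩
    exact hP.not_isUnit (hsq _ h1)
  have hP0 : P ≠ 0 := hP.ne_zero
  have hR0 : R ≠ 0 := by
    rintro rfl
    rw [mul_zero] at hR
    exact hm0 hR
  -- the kernels
  have hdis : Disjoint (LinearMap.ker (aeval y P)) (LinearMap.ker (aeval y R)) :=
    disjoint_ker_aeval_of_isCoprime y hco
  have hsup : LinearMap.ker (aeval y P) ⊔ LinearMap.ker (aeval y R) = ⊤ := by
    rw [sup_ker_aeval_eq_ker_aeval_mul_of_coprime y hco, ← hR, minpoly.aeval, LinearMap.ker_zero]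
  have hcompl : IsCompl (LinearMap.ker (aeval y P)) (LinearMap.ker (aeval y R)) :=
    ⟨hdis, codisjoint_iff.2 hsup⟩
  have hinv : ∀ Q : F[X], ∀ w ∈ LinearMap.ker (aeval y Q), T w ∈ LinearMap.ker (aeval y Q) := by
    intro Q w hw
    rw [LinearMap.mem_ker] at hw ⊢
    have h1 : Commute (aeval y Q) T := (Algebra.commute_of_mem_adjoin_singleton_of_commute
      (aeval_mem_adjoin_singleton F y) hyT.symm).symm
    have h2 : (aeval y Q) (T w) = T ((aeval y Q) w) := by
      have := LinearMap.congr_fun h1.eq w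
      exact this
    rw [h2, hw, map_zero]
  have hne : ∀ Q Q' : F[X], minpoly F y = Q * Q' → ¬ IsUnit Q → LinearMap.ker (aeval y Q) ≠ ⊥ := by
    intro Q Q' hQ hQu h1
    apply hQu
    have hinj : Function.Injective (aeval y Q : Module.End F V) := LinearMap.ker_eq_bot.1 h1
    have h2 : aeval y Q' = 0 := by
      ext v
      apply hinj
      have h3 : aeval y (Q * Q') = 0 := by rw [← hQ, minpoly.aeval]
      rw [map_mul] at h3
      have h4 := LinearMap.congr_fun h3 v
      rw [LinearMap.zero_apply, map_zero]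
      exact h4
    have h3 := (minpoly.dvd_iff).2 h2
    rw [hQ] at h3
    have hQ'0 : Q' ≠ 0 := by
      rintro rfl
      rw [mul_zero] at hQ
      exact hm0 hQ
    obtain ⟨c, hc⟩ := h3
    have h4 : Q * c = 1 := by
      apply mul_left_cancel₀ hQ'0
      rw [mul_one]
      calc Q' * (Q * c) = Q * Q' * c := by ring
        _ = Q' := hc.symm
    exact IsUnit.of_mul_eq_one _ h4
  have hPb := hne P R hR hP.not_isUnit
  have hRb := hne R P (by rw [hR, mul_comm]) hRu
  have hsum := Submodule.finrank_add_eq_of_isCompl hcompl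
  rw [hV] at hsum
  have hpos : ∀ W : Submodule F V, W ≠ ⊥ → 0 < finrank F W := fun W hW =>
    Nat.pos_of_ne_zero fun h => hW (Submodule.finrank_eq_zero.1 h)
  have dP := dvd_finrank hB hr hrq ho hn hV hT hTr hT1 (hinv P)
  have dR := dvd_finrank hB hr hrq ho hn hV hT hTr hT1 (hinv R)
  rw [order_sq ho hn] at dP dR
  have hPp := hpos _ hPb
  have hRp := hpos _ hRb
  have hlP := Nat.le_of_dvd hPp dP
  have hlR := Nat.le_of_dvd hRp dR
  have hg : Nat.gcd n 2 = 2 := by
    rcases (Nat.dvd_prime Nat.prime_two).1 (Nat.gcd_dvd_right n 2) with h | h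
    · rw [h, Nat.div_one] at hlP
      omega
    · exact h
  have h2n : 2 ∣ n := hg ▸ Nat.gcd_dvd_left n 2
  rw [hg] at hlP hlR dP dR
  have e1 : 2 * finrank F (LinearMap.ker (aeval y P)) = n := by omega
  have e2 : 2 * finrank F (LinearMap.ker (aeval y R)) = n := by omega
  -- totally isotropic
  have hiso : ∀ Q : F[X], LinearMap.ker (aeval y Q) ≠ ⊥ → LinearMap.ker (aeval y Q) ≠ ⊤ →
      2 * finrank F (LinearMap.ker (aeval y Q)) = n →
      ∀ u ∈ LinearMap.ker (aeval y Q), ∀ v ∈ LinearMap.ker (aeval y Q), B u v = 0 := by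
    intro Q hb ht hd
    set W := LinearMap.ker (aeval y Q) with hW
    obtain ⟨w, hw, hwo, hw0⟩ := exists_iso hB hr hrq ho hn hV hT hTr hT1 (hinv Q) hb ht
    -- the radical of `W`
    let U : Submodule F V :=
      { carrier := {u | u ∈ W ∧ ∀ v ∈ W, B u v = 0}
        add_mem' := fun {a b} ha hb' => ⟨W.add_mem ha.1 hb'.1, fun v hv => by
          rw [map_add, LinearMap.add_apply, ha.2 v hv, hb'.2 v hv, add_zero]⟩
        zero_mem' := ⟨W.zero_mem, fun v _ => by rw [map_zero, LinearMap.zero_apply]⟩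
        smul_mem' := fun c a ha => ⟨W.smul_mem c ha.1, fun v hv => by
          rw [LinearMap.map_smulₛₗ, LinearMap.smul_apply, ha.2 v hv, smul_zero]⟩ }
    have hUW : U ≤ W := fun u hu => hu.1
    have hTinv : ∀ v ∈ W, ∃ v' ∈ W, T v' = v := by
      intro v hv
      refine ⟨(T ^ (r - 1)) v, ?_, ?_⟩
      · have : ∀ k : ℕ, (T ^ k) v ∈ W := by
          intro k
          induction k with
          | zero => exact hv
          | succ k ih =>
            rw [pow_succ']
            exact hinv Q _ ih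
        exact this _
      · have h3 : T ((T ^ (r - 1)) v) = (T ^ (r - 1 + 1)) v := by rw [pow_succ']; rfl
        rw [h3, Nat.sub_add_cancel hr.one_le, hTr]
        rfl
    have hUT : ∀ u ∈ U, T u ∈ U := by
      rintro u ⟨hu, hu2⟩
      refine ⟨hinv Q u hu, fun v hv => ?_⟩
      obtain ⟨v', hv', rfl⟩ := hTinv v hv
      rw [hT]
      exact hu2 v' hv'
    have hU0 : 0 < finrank F U := hpos _ fun h => hw0 ((Submodule.mem_bot F).1 (h ▸ (⟨hw, hwo⟩ : w ∈ U)))
    have dU := dvd_finrank hB hr hrq ho hn hV hT hTr hT1 hUT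
    rw [order_sq ho hn, hg] at dU
    have hlU := Nat.le_of_dvd hU0 dU
    have hUeq : U = W := Submodule.eq_of_le_of_finrank_le hUW (by omega)
    intro u hu v hv
    rw [← hUeq] at hu
    exact hu.2 v hv
  refine ⟨P, R, hP, hco, hR, e1, e2, hcompl, hiso P hPb (fun h => ?_) e1, hiso R hRb (fun h => ?_) e2⟩
  · rw [h, finrank_top] at e1
    omega
  · rw [h, finrank_top] at e2
    omega

end Cfsg.Agent.H157.CS
end

-- part: H157/CS/Red
section
/-!
# S3677, `PSU_n(q)`: the centralizers of the elements commuting with an element of order `r`, `ord_r (-q) = n` (helper157)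

* `card_cent_mk_dvd` : centralizers in a central quotient;
* `exists_lift` : an element of order `r` commuting with `pr g` lifts to an element of order `r` commuting with `g`;
* `IG B w` : the group of isometries commuting with `w`; `card_IG` : its order;
* `struct` : `|C_{SU}(g)|` divides `|GU_m(q^d)|`, `n = d m`, `d ≥ 2`, or `|GL_m(q^{2d})|`, `n = 2 d m`.
-/

set_option autoImplicit false
set_option linter.unusedSectionVars false

namespace Cfsg.Agent.H157.CS

open Cfsg Cfsg.Agent.H948.UBase Cfsg.Agent.LieClassical.HermBasic Module Polynomial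
open Cfsg.Agent.LieClassical.HermSiegel (act act_one act_mul act_add act_smul act_inv_act act_act_inv herm_act ext_act)
open Cfsg.Agent.ClassicalGeometry.PSUAutBasic (pr pr_eq_one_iff pr_surjective exists_scalar_of_mem_center
  mem_center_of_act)
open Cfsg.Agent.H364.Unitary (sg)

/-! ### groups -/

section Grp

open Subgroup

/-- **Centralizers in the central quotient.** -/
theorem card_cent_mk_dvd {G : Type*} [Group G] [Finite G] (g : G) :
    Nat.card ↥(centralizer ({(QuotientGroup.mk g : G ⧸ center G)} : Set (G ⧸ center G))) ∣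
      Nat.card ↥(centralizer ({g} : Set G)) := by
  set N : Subgroup G := (centralizer ({(QuotientGroup.mk g : G ⧸ center G)} : Set (G ⧸ center G))).comap
    (QuotientGroup.mk' (center G)) with hN
  have hmem : ∀ h : G, h ∈ N ↔ h * g * h⁻¹ * g⁻¹ ∈ center G := by
    intro h
    rw [hN, mem_comap, mem_centralizer_singleton_iff, QuotientGroup.mk'_apply, ← QuotientGroup.mk_mul,
      ← QuotientGroup.mk_mul, QuotientGroup.eq]
    constructor
    · intro h1
      have h2 := (inferInstance : (center G).Normal).conj_mem _ ((center G).inv_mem h1) (g * h)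
      have h4 : h * g * h⁻¹ * g⁻¹ = (g * h) * ((h * g)⁻¹ * (g * h))⁻¹ * (g * h)⁻¹ := by group
      rw [h4]
      exact h2
    · intro h1
      have h2 := (inferInstance : (center G).Normal).conj_mem _ ((center G).inv_mem h1) (g * h)⁻¹
      have h4 : (h * g)⁻¹ * (g * h) = (g * h)⁻¹ * (h * g * h⁻¹ * g⁻¹)⁻¹ * ((g * h)⁻¹)⁻¹ := by group
      rw [h4]
      exact h2
  have hc := fun h : N => mem_center_iff.1 ((hmem h).1 h.2)
  let f : ↥N →* ↥(center G) :=
    { toFun := fun h => ⟨(h : G) * g * (h : G)⁻¹ * g⁻¹, (hmem h).1 h.2⟩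
      map_one' := Subtype.ext (by simp only [_root_.OneMemClass.coe_one, _root_.one_mul, _root_.inv_one, _root_.mul_one, _root_.mul_inv_cancel])
      map_mul' := fun a b => by
        apply Subtype.ext
        show (a : G) * b * g * ((a : G) * b)⁻¹ * g⁻¹ = (a * g * (a : G)⁻¹ * g⁻¹) * (b * g * (b : G)⁻¹ * g⁻¹)
        have h1 := hc b (a : G)
        calc (a : G) * b * g * ((a : G) * b)⁻¹ * g⁻¹ =
            (a : G) * ((b : G) * g * (b : G)⁻¹ * g⁻¹) * (g * (a : G)⁻¹ * g⁻¹) := by group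
          _ = ((b : G) * g * (b : G)⁻¹ * g⁻¹) * (a : G) * (g * (a : G)⁻¹ * g⁻¹) := by rw [h1]
          _ = ((b : G) * g * (b : G)⁻¹ * g⁻¹) * ((a : G) * g * (a : G)⁻¹ * g⁻¹) := by group
          _ = _ := (hc b _).symm }
  have hker : Nat.card f.ker = Nat.card ↥(centralizer ({g} : Set G)) := by
    refine Nat.card_congr
      { toFun := fun h => ⟨(h : ↥N), ?_⟩
        invFun := fun h => ⟨⟨h, ?_⟩, ?_⟩
        left_inv := fun h => rfl
        right_inv := fun h => rfl }
    · have h1 : ((h : ↥N) : G) * g * ((h : ↥N) : G)⁻¹ * g⁻¹ = 1 := congrArg Subtype.val h.2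
      rw [mem_centralizer_singleton_iff]
      rw [mul_inv_eq_one, mul_inv_eq_iff_eq_mul] at h1
      exact h1
    · rw [hmem, mem_centralizer_singleton_iff.1 h.2, mul_inv_cancel_right, mul_inv_cancel]
      exact one_mem _
    · apply Subtype.ext
      show (h : G) * g * (h : G)⁻¹ * g⁻¹ = 1
      rw [mem_centralizer_singleton_iff.1 h.2, mul_inv_cancel_right, mul_inv_cancel]
  have h1 : Nat.card N = Nat.card f.ker * Nat.card f.range := by
    rw [← index_ker f, mul_comm, index_mul_card]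
  have h2 : Nat.card N = Nat.card ↥(centralizer ({(QuotientGroup.mk g : G ⧸ center G)} : Set (G ⧸ center G))) *
      Nat.card (center G) := by
    have h3 : N.index = (centralizer ({(QuotientGroup.mk g : G ⧸ center G)} : Set (G ⧸ center G))).index :=
      index_comap_of_surjective _ (QuotientGroup.mk'_surjective _)
    have h4 := N.card_mul_index
    have h5 := (centralizer ({(QuotientGroup.mk g : G ⧸ center G)} : Set (G ⧸ center G))).card_mul_index
    have h6 := card_eq_card_quotient_mul_card_subgroup (center G)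
    rw [← h4, h3, ← h5] at h6
    have h7 : (centralizer ({(QuotientGroup.mk g : G ⧸ center G)} : Set (G ⧸ center G))).index ≠ 0 :=
      index_ne_zero_of_finite
    apply Nat.eq_of_mul_eq_mul_right (Nat.pos_of_ne_zero h7)
    rw [h6]
    ring
  obtain ⟨t, ht⟩ := card_subgroup_dvd_card f.range
  refine ⟨t, ?_⟩
  have h4 : Nat.card f.range ≠ 0 := Nat.card_pos.ne'
  rw [h1, hker, ht] at h2
  apply Nat.eq_of_mul_eq_mul_right (Nat.pos_of_ne_zero h4)
  rw [h2]
  ring

end Grp

/-! ### the lift -/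

section Lift

variable {F : Type*} [Field F] [Fintype F] {n q r : ℕ}

theorem not_dvd_q1 (ho : orderOf (-(q : ZMod r)) = n) (hn : 2 ≤ n) : ¬ r ∣ q + 1 := by
  intro h
  have h3 : ((q + 1 : ℕ) : ZMod r) = 0 := (ZMod.natCast_eq_zero_iff _ _).2 h
  push_cast at h3
  have h4 : (-(q : ZMod r)) = 1 := by rw [neg_eq_iff_add_eq_zero, ← h3]
  rw [h4, orderOf_one] at ho
  omega

theorem not_dvd_q [Fact r.Prime] (ho : orderOf (-(q : ZMod r)) = n) (hn : 2 ≤ n) : ¬ r ∣ q := by
  intro h
  rw [(ZMod.natCast_eq_zero_iff _ _).2 h, neg_zero] at ho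
  have h1 := pow_orderOf_eq_one (0 : ZMod r)
  rw [ho, zero_pow (by omega)] at h1
  exact zero_ne_one h1

/-- the exponent of the centre -/
theorem center_pow (hF : Fintype.card F = q ^ 2) (hn : 3 ≤ n) {z : SU n F q}
    (hz : z ∈ Subgroup.center (SU n F q)) : z ^ (q + 1) = 1 := by
  obtain ⟨c, hc0, hc1, hc⟩ := exists_scalar_of_mem_center hF hn hz
  have hpow : ∀ m : ℕ, ∀ v, act (z ^ m) v = c ^ m • v := by
    intro m
    induction m with
    | zero => intro v; rw [pow_zero, act_one, pow_zero, one_smul]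
    | succ m ih => intro v; rw [pow_succ, act_mul, hc, act_smul, ih, smul_smul, pow_succ, mul_comm]
  apply ext_act
  intro v
  rw [hpow, pow_succ', hc1, one_smul, act_one]

/-- **Lifting.** -/
theorem exists_lift (hF : Fintype.card F = q ^ 2) (hn : 3 ≤ n) [hr : Fact r.Prime]
    (ho : orderOf (-(q : ZMod r)) = n) {g : SU n F q} {y : PSU n F q} (hy : orderOf y = r)
    (hc : y * pr n F q g = pr n F q g * y) : ∃ X : SU n F q, orderOf X = r ∧ Commute X g := by
  obtain ⟨X0, rfl⟩ := pr_surjective (n := n) (F := F) (q := q) y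
  have hrq := not_dvd_q1 ho (by omega)
  obtain ⟨b, hb⟩ : ∃ b : ℕ, (q + 1) * b ≡ 1 [MOD r] := by
    have h1 : Nat.Coprime (q + 1) r := ((Nat.Prime.coprime_iff_not_dvd hr.out).2 hrq).symm
    exact Nat.exists_mul_mod_eq_one_of_coprime h1 hr.out.one_lt |>.imp fun b hb => by
      rw [Nat.ModEq, hb.2, Nat.mod_eq_of_lt hr.out.one_lt]
  have h0 : X0 ^ r ∈ Subgroup.center (SU n F q) := by
    rw [← pr_eq_one_iff, map_pow, ← hy, pow_orderOf_eq_one]
  set X := X0 ^ ((q + 1) * b) with hX
  have hXr : X ^ r = 1 := by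
    have h2 : X ^ r = ((X0 ^ r) ^ (q + 1)) ^ b := by rw [hX, ← pow_mul, ← pow_mul, ← pow_mul]; congr 1; ring
    rw [h2, center_pow hF hn h0, one_pow]
  have hprX : pr n F q X = pr n F q X0 := by
    rw [hX, map_pow]
    have h3 : (pr n F q X0) ^ ((q + 1) * b) = (pr n F q X0) ^ 1 := pow_eq_pow_iff_modEq.2 (by rw [hy]; exact hb)
    rw [h3, pow_one]
  have hX1 : X ≠ 1 := by
    intro h
    rw [h, map_one] at hprX
    rw [← hprX, orderOf_one] at hy
    exact hr.out.one_lt.ne hy
  refine ⟨X, orderOf_eq_prime hXr hX1, ?_⟩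
  -- the commutator
  set z := X * g * X⁻¹ * g⁻¹ with hz
  have hzc : z ∈ Subgroup.center (SU n F q) := by
    rw [← pr_eq_one_iff, hz]
    simp only [map_mul, map_inv]
    rw [hprX, hc]
    group
  have hzm := Subgroup.mem_center_iff.1 hzc
  have h1 : ∀ k : ℕ, X ^ k * g = z ^ k * g * X ^ k := by
    intro k
    induction k with
    | zero => simp only [_root_.pow_zero, _root_.one_mul, _root_.mul_one]
    | succ k ih =>
      have h2 : X * g = z * g * X := by rw [hz]; group
      have h3 : z ^ k * g * X = g * z ^ k * X := by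
        have := (Subgroup.mem_center_iff.1 ((Subgroup.center (SU n F q)).pow_mem hzc k) g)
        rw [← this]
      calc X ^ (k + 1) * g = X * (X ^ k * g) := by rw [pow_succ']; group
        _ = X * z ^ k * g * X ^ k := by rw [ih]; group
        _ = z ^ k * X * g * X ^ k := by
          rw [(Subgroup.mem_center_iff.1 ((Subgroup.center (SU n F q)).pow_mem hzc k) X)]
        _ = z ^ k * (X * g) * X ^ k := by group
        _ = z ^ (k + 1) * g * X ^ (k + 1) := by rw [h2, pow_succ z, pow_succ' X]; group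
  have h2 := h1 r
  rw [hXr, one_mul, mul_one] at h2
  have h3 : z ^ r = 1 := mul_right_cancel (b := g) (by rw [one_mul]; exact h2.symm)
  have h4 : z ^ (q + 1) = 1 := center_pow hF hn hzc
  have h5 : z = 1 := by
    have h6 : orderOf z ∣ 1 := by
      have h7 : Nat.Coprime r (q + 1) := (Nat.Prime.coprime_iff_not_dvd hr.out).2 hrq
      rw [← h7]
      exact Nat.dvd_gcd (orderOf_dvd_of_pow_eq_one h3) (orderOf_dvd_of_pow_eq_one h4)
    exact orderOf_eq_one_iff.1 (Nat.dvd_one.1 h6)
  rw [hz] at h5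
  have h6 : X * g * X⁻¹ = g := mul_inv_eq_one.1 h5
  exact mul_inv_eq_iff_eq_mul.1 h6

end Lift

/-! ### the form and the action -/

section Form

variable {F : Type*} [Field F] [Fintype F] {n q : ℕ}

/-- the standard form -/
noncomputable def B0 (hF : Fintype.card F = q ^ 2) (n : ℕ) : (Fin n → F) →ₛₗ[cj hF] (Fin n → F) →ₗ[F] F :=
  LinearMap.mk₂'ₛₗ (cj hF) (RingHom.id F) (fun u v => hermForm n F q v u)
    (fun u u' v => herm_add_right hF v u u')
    (fun c u v => by
      rw [cj_apply, smul_eq_mul]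
      exact herm_smul_right c v u)
    (fun u v v' => herm_add_left v v' u)
    (fun c u v => by
      rw [RingHom.id_apply, smul_eq_mul]
      exact herm_smul_left c v u)

theorem B0_apply (hF : Fintype.card F = q ^ 2) (u v : Fin n → F) : B0 hF n u v = hermForm n F q v u := rfl

theorem isHerm_B0 (hF : Fintype.card F = q ^ 2) : IsHerm hF (B0 hF n) :=
  ⟨⟨fun x y => by rw [B0_apply, B0_apply, cj_apply, ← herm_swap hF]⟩, fun x h => by
    refine herm_nondeg hF fun v => ?_
    have h1 := h v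
    rw [B0_apply] at h1
    exact herm_eq_zero_swap hF h1⟩

/-- the action of `SU` -/
def aE (g : SU n F q) : (Fin n → F) ≃ₗ[F] (Fin n → F) where
  toFun := act g
  invFun := act g⁻¹
  left_inv := act_inv_act g
  right_inv := act_act_inv g
  map_add' := act_add g
  map_smul' := fun c v => act_smul g c v

theorem aE_apply (g : SU n F q) (v : Fin n → F) : aE g v = act g v := rfl

theorem aE_mul (g h : SU n F q) : aE (g * h) = aE g * aE h := LinearEquiv.ext fun v => act_mul g h v

theorem aE_injective : Function.Injective (aE : SU n F q → _) := fun _ _ h => ext_act fun v => LinearEquiv.congr_fun h v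

theorem isometry_aE (hF : Fintype.card F = q ^ 2) (g : SU n F q) (u v : Fin n → F) :
    B0 hF n (aE g u) (aE g v) = B0 hF n u v := herm_act g v u

/-- the homomorphism -/
def aH (n : ℕ) (F : Type*) [Field F] [Fintype F] (q : ℕ) : SU n F q →* ((Fin n → F) ≃ₗ[F] (Fin n → F)) where
  toFun := aE
  map_one' := LinearEquiv.ext fun v => act_one v
  map_mul' := aE_mul

/-- the isometries commuting with `w` -/
def IG {V : Type*} [AddCommGroup V] [Module F V] {hF : Fintype.card F = q ^ 2} (B : V →ₛₗ[cj hF] V →ₗ[F] F)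
    (w : V ≃ₗ[F] V) : Subgroup (V ≃ₗ[F] V) where
  carrier := {g | (∀ u v, B (g u) (g v) = B u v) ∧ ∀ v, g (w v) = w (g v)}
  one_mem' := ⟨fun _ _ => rfl, fun _ => rfl⟩
  mul_mem' := fun {a b} ha hb => ⟨fun u v => by
      change B (a (b u)) (a (b v)) = _
      rw [ha.1, hb.1], fun v => by
      change a (b (w v)) = w (a (b v))
      rw [hb.2, ha.2]⟩
  inv_mem' := fun {a} ha => ⟨fun u v => by
      change B (a.symm u) (a.symm v) = _
      rw [← ha.1, LinearEquiv.apply_symm_apply, LinearEquiv.apply_symm_apply], fun v => by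
      change a.symm (w v) = w (a.symm v)
      apply a.injective
      rw [LinearEquiv.apply_symm_apply, ha.2, LinearEquiv.apply_symm_apply]⟩

theorem finite_equiv : Finite ((Fin n → F) ≃ₗ[F] (Fin n → F)) :=
  Finite.of_injective (fun g : (Fin n → F) ≃ₗ[F] (Fin n → F) => (g : (Fin n → F) → (Fin n → F)))
    DFunLike.coe_injective

theorem card_dvd_IG (hF : Fintype.card F = q ^ 2) (g : SU n F q) :
    Nat.card ↥(Subgroup.centralizer ({g} : Set (SU n F q))) ∣ Nat.card ↥(IG (B0 hF n) (aE g)) := by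
  have := finite_equiv (F := F) (n := n)
  let f : ↥(Subgroup.centralizer ({g} : Set (SU n F q))) →* ↥(IG (B0 hF n) (aE g)) :=
    ((aH n F q).comp (Subgroup.centralizer ({g} : Set (SU n F q))).subtype).codRestrict _ (fun h =>
      ⟨isometry_aE hF _, fun v => by
        have h1 := Subgroup.mem_centralizer_singleton_iff.1 h.2
        change act (h : SU n F q) (act g v) = act g (act (h : SU n F q) v)
        rw [← act_mul, h1, act_mul]⟩)
  refine Subgroup.card_dvd_of_injective f fun a b hab => Subtype.ext (aE_injective (congrArg Subtype.val hab))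

/-! ### the structure -/

variable {r : ℕ}

/-- the element as an endomorphism -/
abbrev aL (g : SU n F q) : Module.End F (Fin n → F) := ((aE g : (Fin n → F) ≃ₗ[F] (Fin n → F)) : (Fin n → F) →ₗ[F] _)

theorem aL_pow (g : SU n F q) (k : ℕ) : aL g ^ k = aL (g ^ k) := by
  induction k with
  | zero => ext v; simp only [aL, aE_apply, act_one, _root_.pow_zero, _root_.LinearMap.coe_comp, _root_.LinearMap.coe_single, _root_.Function.comp_apply, _root_.Module.End.one_apply, _root_.LinearEquiv.coe_coe]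
  | succ k ih =>
    rw [pow_succ, ih]
    apply LinearMap.ext
    intro v
    change act (g ^ k) (act g v) = act (g ^ (k + 1)) v
    rw [← act_mul, ← pow_succ]

theorem aL_one : aL (1 : SU n F q) = 1 := LinearMap.ext fun v => act_one v

theorem aL_injective {g h : SU n F q} (H : aL g = aL h) : g = h := ext_act fun v => LinearMap.congr_fun H v

theorem cast_q (hF : Fintype.card F = q ^ 2) : (q : F) = 0 := by
  have h5 : ((q ^ 2 : ℕ) : F) = 0 := by rw [← hF]; exact FiniteField.cast_card_eq_zero F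
  rwa [Nat.cast_pow, pow_eq_zero_iff two_ne_zero] at h5

theorem squarefree_of (hF : Fintype.card F = q ^ 2) (hn : 2 ≤ n) [hr : Fact r.Prime]
    (ho : orderOf (-(q : ZMod r)) = n) {x₀ g : SU n F q} (hX : orderOf x₀ = r) (hc : Commute x₀ g) :
    Squarefree (minpoly F (aL g)) := by
  have hrF := cast_ne_zero hF hr.out (not_dvd_q ho hn)
  have h1 := H364.Unitary.pow_sg_eq_one hF hr.out hrF (by omega) ho hX hc
  have hsg : ((sg q n : ℤ) : F) = 1 := by
    obtain ⟨k, rfl⟩ := Nat.exists_eq_add_of_le' (show 1 ≤ n by omega)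
    unfold sg
    push_cast
    rw [cast_q hF, neg_zero, Finset.sum_range_succ']
    simp
  have h2 : (((sg q n).natAbs : ℕ) : F) ≠ 0 := by
    intro h0
    have h3 : ((sg q n : ℤ) : F) = 0 := by
      rcases Int.natAbs_eq (sg q n) with h4 | h4
      · rw [h4, Int.cast_natCast, h0]
      · rw [h4, Int.cast_neg, Int.cast_natCast, h0, neg_zero]
    rw [hsg] at h3
    exact one_ne_zero h3
  have h3 : minpoly F (aL g) ∣ X ^ (sg q n).natAbs - C 1 := by
    rw [minpoly.dvd_iff]
    simp only [map_sub, map_pow, aeval_X, map_one, aL_pow, h1, aL_one]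
    simp
  exact (separable_X_pow_sub_C (1 : F) h2 one_ne_zero).squarefree.squarefree_of_dvd h3

open Cfsg.Agent.H326.CGU (guCard) in
/-- **The order of the group of isometries commuting with `g`.** -/
theorem struct (hF : Fintype.card F = q ^ 2) (hn : 2 ≤ n) [hr : Fact r.Prime]
    (ho : orderOf (-(q : ZMod r)) = n) {X g : SU n F q} (hX : orderOf X = r) (hc : Commute X g)
    (hg : g ∉ Subgroup.center (SU n F q)) :
    (∃ d m : ℕ, 2 ≤ d ∧ n = d * m ∧ Nat.card ↥(IG (B0 hF n) (aE g)) = guCard m (q ^ d)) ∨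
    (∃ d m : ℕ, 1 ≤ d ∧ n = 2 * (d * m) ∧ Nat.card ↥(IG (B0 hF n) (aE g)) =
      ∏ i ∈ Finset.range m, ((q ^ (2 * d)) ^ m - (q ^ (2 * d)) ^ i)) := by
  have hrq := not_dvd_q ho hn
  have hB := isHerm_B0 (n := n) hF
  have hV : finrank F (Fin n → F) = n := by rw [finrank_fintype_fun_eq_card, Fintype.card_fin]
  have hnt : Nontrivial (Fin n → F) := Module.nontrivial_of_finrank_pos (R := F) (by omega)
  have hT : Iso (B0 hF n) (aL X) := fun u v => isometry_aE hF X u v
  have hTr : aL X ^ r = 1 := by rw [aL_pow, ← hX, pow_orderOf_eq_one, aL_one]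
  have hT1 : aL X ≠ 1 := by
    intro h
    have h1 : X = 1 := aL_injective (h.trans aL_one.symm)
    rw [h1, orderOf_one] at hX
    exact hr.out.one_lt.ne hX
  have hyT : Commute (aL g) (aL X) := LinearMap.ext fun v => by
    change act g (act X v) = act X (act g v)
    rw [← act_mul, ← act_mul, hc.eq]
  have hq1 : 1 ≤ q := by have := two_le hF; omega
  have hsym : ∀ u v, B0 hF n v u = 1 * cj hF (B0 hF n u v) := fun u v => by rw [one_mul, hB.symm.eq]
  have hnd : ∀ u, (∀ v, B0 hF n u v = 0) → u = 0 := hB.sep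
  rcases dich hB hr.out hrq ho hn hV hT hTr hT1 hyT (squarefree_of hF hn ho hX hc) with hirr |
    ⟨P, R, hP, hco, hm, e1, e2, hcompl, i1, i2⟩
  · left
    obtain ⟨s, m, hs, hdim, -, hcard⟩ := Cfsg.Agent.H326.CGU.card_cent_unitary (fun c => cj_cj hF c) (B0 hF n)
      (Or.inl rfl) hsym hnd (aE g) (isometry_aE hF g) hirr (Or.inl (cj_ne_id hF))
    set d := (minpoly F ((aE g : (Fin n → F) ≃ₗ[F] (Fin n → F)) : (Fin n → F) →ₗ[F] (Fin n → F))).natDegree with hd
    have hsq : s = q ^ d := by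
      rw [hF, ← pow_mul, mul_comm, pow_mul] at hs
      exact Nat.pow_left_injective two_ne_zero hs
    refine ⟨d, m, ?_, by rw [← hV, hdim], by rw [← hsq]; exact hcard⟩
    have hint : IsIntegral F (aL g) := Algebra.IsIntegral.isIntegral _
    have h1 : 1 ≤ d := minpoly.natDegree_pos hint
    rcases Nat.lt_or_ge 1 d with h2 | h2
    · exact h2
    · exfalso
      apply hg
      have h3 : d = 1 := le_antisymm h2 h1
      obtain ⟨c, hc'⟩ := minpoly.natDegree_eq_one_iff.1 h3
      refine mem_center_of_act (c := c) fun v => ?_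
      have h4 := LinearMap.congr_fun hc' v
      rw [Module.algebraMap_end_apply] at h4
      exact h4.symm
  · right
    obtain ⟨m, hdim, hcard⟩ := Cfsg.Agent.H446.CS.card_lin_ker (B := B0 hF n) ⟨1, hsym⟩ (fun v h => by
        refine hnd v fun u => ?_
        rw [hsym, h, map_zero, mul_zero]) hnd (aE g) (isometry_aE hF g) hco
      (by
        have := minpoly.aeval F (aL g)
        rwa [hm] at this)
      (fun u v hu hv => i1 u (LinearMap.mem_ker.2 hu) v (LinearMap.mem_ker.2 hv))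
      (fun u v hu hv => i2 u (LinearMap.mem_ker.2 hu) v (LinearMap.mem_ker.2 hv)) hP
    refine ⟨P.natDegree, m, hP.natDegree_pos, by rw [← hV, hdim], ?_⟩
    rw [show q ^ (2 * P.natDegree) = Nat.card F ^ P.natDegree by rw [Nat.card_eq_fintype_card, hF, ← pow_mul]]
    exact hcard

end Form

end Cfsg.Agent.H157.CS
end

-- part: H157/CS/TopA
section
/-!
# S3677, `PSU_n(q)`, `gcd(n, q + 1) = 1`: the orders of the centralizers of the elements commuting with an element of order
`r`, `ord_r (-q) = n` (helper157)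
-/

set_option autoImplicit false
set_option linter.unusedSectionVars false

namespace Cfsg.Agent.H157.CS

open Cfsg Cfsg.Agent.H948.UBase Cfsg.Agent.LieClassical.HermBasic Module Polynomial
open Cfsg.Agent.LieClassical.HermSiegel (act act_one act_mul act_add act_smul act_inv_act act_act_inv herm_act ext_act)
open Cfsg.Agent.ClassicalGeometry.PSUAutBasic (pr pr_eq_one_iff pr_surjective exists_scalar_of_mem_center
  mem_center_of_act)
open Cfsg.Agent.H364.Unitary (sg mK mK_comm exists_eig_full mu_eq)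
open Cfsg.Agent.H446.CS (cc up up_injective up_aeval aeval_iter classify)

universe u

variable {F : Type u} [Field F] [Fintype F] {n q r : ℕ}

/-- **The order of the group of isometries commuting with `g`.** -/
theorem struct' (hF : Fintype.card F = q ^ 2) (hn : 2 ≤ n) [hr : Fact r.Prime]
    (ho : orderOf (-(q : ZMod r)) = n) {X g : SU n F q} (hX : orderOf X = r) (hc : Commute X g) :
    ∃ m k : ℕ, 0 < k ∧ k * m = n ∧ Nat.card ↥(IG (B0 hF n) (aE g)) = cc q m k ∧
      (k = 1 → g ∈ Subgroup.center (SU n F q)) := by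
  have hrF : (r : F) ≠ 0 := cast_ne_zero hF hr.out (not_dvd_q ho hn)
  obtain ⟨z, v, hz, hE⟩ := exists_eig_full (AlgebraicClosure F) hF hr.out hrF X hX ho.ge
  obtain ⟨mu, hmu⟩ := hE.exists_mu (mK_comm (AlgebraicClosure F) hc)
  obtain ⟨h1, -, -, h4⟩ := mu_eq (AlgebraicClosure F) hF hr.out (by omega : 0 < n)
    (by rw [← ho]; exact pow_orderOf_eq_one _) hz hE hmu
  set a := mu ⟨0, by omega⟩ with ha
  have haL : aL g = Matrix.toLin' (H364.Unitary.mat g) := by
    apply LinearMap.ext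
    intro w
    rw [Matrix.toLin'_apply]
    rfl
  have hk : ∀ P : F[X], aeval a P = 0 → aeval ((a ^ q)⁻¹) P = 0 → aeval (aL g) P = 0 := by
    intro P hP1 hP2
    apply LinearMap.ext
    intro w
    apply up_injective (AlgebraicClosure F)
    have h5 : up (AlgebraicClosure F) w = ∑ i, (hE.basis.repr (up (AlgebraicClosure F) w) i) • v i := by
      conv_lhs => rw [← hE.basis.sum_repr (up (AlgebraicClosure F) w)]
      simp only [hE.basis_apply]
    rw [haL, up_aeval (AlgebraicClosure F) g hmu P h5]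
    have h0 : up (AlgebraicClosure F) ((0 : (Fin n → F) →ₗ[F] (Fin n → F)) w) = 0 := by funext i; simp [up]
    rw [h0]
    apply Finset.sum_eq_zero
    intro i _
    have h6 := aeval_iter (AlgebraicClosure F) hF hP1 hP2 (i : ℕ)
    rw [h1 i, h6, zero_mul, zero_smul]
  have hB := isHerm_B0 (n := n) hF
  have hV : finrank F (Fin n → F) = n := by rw [finrank_fintype_fun_eq_card, Fintype.card_fin]
  have hnt : Nontrivial (Fin n → F) := Module.nontrivial_of_finrank_pos (R := F) (by omega)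
  obtain ⟨m, k, hk0, hkm, hcard, P, hP0, hPk, hP1, hP2⟩ := classify hF (fun c => cj_apply hF c) (B0 hF n)
    (fun u v => hB.symm.eq u v |>.symm) hB.sep (aE g) (isometry_aE hF g)
    (Algebra.IsIntegral.isIntegral (R := F) a) h4 hk
  refine ⟨m, k, hk0, hkm.trans hV, hcard, fun hk1 => ?_⟩
  subst hk1
  have h6 := hk P hP1 hP2
  have hd1 : (minpoly F (aL g)).natDegree ≤ 1 := by
    have h7 : minpoly F (aL g) ∣ P := minpoly.dvd F _ h6
    exact (natDegree_le_of_dvd h7 hP0).trans hPk
  have hint : IsIntegral F (aL g) := Algebra.IsIntegral.isIntegral _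
  have h8 : (minpoly F (aL g)).natDegree = 1 := le_antisymm hd1 (minpoly.natDegree_pos hint)
  obtain ⟨c, hc'⟩ := minpoly.natDegree_eq_one_iff.1 h8
  refine mem_center_of_act (c := c) fun v => ?_
  have h9 := LinearMap.congr_fun hc' v
  rw [Module.algebraMap_end_apply] at h9
  exact h9.symm

/-! ### isometries and elements of `SU` -/

/-- **`C_{U}(g) = C_{SU}(g) × μ_{q+1}`** if `gcd(n, q + 1) = 1`. -/
theorem card_IG (hF : Fintype.card F = q ^ 2) (hco : Nat.Coprime n (q + 1)) (g : SU n F q) :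
    Nat.card ↥(IG (B0 hF n) (aE g)) =
      Nat.card ↥(Subgroup.centralizer ({g} : Set (SU n F q))) * (q + 1) := by
  rw [← Cfsg.Agent.ClassicalGeometry.GUBasic.card_rootsOfUnity_eq hF, ← Nat.card_prod]
  symm
  have hroot : ∀ ζ : rootsOfUnity (q + 1) F, ((ζ : Fˣ) : F) ^ (q + 1) = 1 := fun ζ => by
    have := (mem_rootsOfUnity' (q + 1) (ζ : Fˣ)).1 ζ.2
    exact this
  have hmem : ∀ (h : ↥(Subgroup.centralizer ({g} : Set (SU n F q)))) (ζ : rootsOfUnity (q + 1) F),
      (LinearEquiv.smulOfUnit (ζ : Fˣ) : (Fin n → F) ≃ₗ[F] (Fin n → F)) * aE (h : SU n F q) ∈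
        IG (B0 hF n) (aE g) := by
    intro h ζ
    constructor
    · intro u v
      change B0 hF n (((ζ : Fˣ) : F) • aE (h : SU n F q) u) (((ζ : Fˣ) : F) • aE (h : SU n F q) v) = _
      rw [LinearMap.map_smulₛₗ (B0 hF n), LinearMap.smul_apply, LinearMap.map_smul, isometry_aE, cj_apply, smul_smul,
        ← pow_succ, hroot, one_smul]
    · intro v
      change ((ζ : Fˣ) : F) • act (h : SU n F q) (act g v) = act g (((ζ : Fˣ) : F) • act (h : SU n F q) v)
      rw [act_smul, ← act_mul, ← act_mul, Subgroup.mem_centralizer_singleton_iff.1 h.2]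
  have hdet : ∀ (h : SU n F q) (c : F), LinearMap.det (c • aL h) = c ^ n := by
    intro h c
    have h1 : aL h = Matrix.toLin' (H364.Unitary.mat h) := by
      apply LinearMap.ext
      intro w
      rw [Matrix.toLin'_apply]
      rfl
    rw [LinearMap.det_smul, finrank_fintype_fun_eq_card, Fintype.card_fin, h1, LinearMap.det_toLin',
      H364.Unitary.mat_det, mul_one]
  refine Nat.card_congr (Equiv.ofBijective (fun x => ⟨_, hmem x.1 x.2⟩) ⟨?_, ?_⟩)
  · rintro ⟨h, ζ⟩ ⟨h', ζ'⟩ he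
    have he1 : (LinearEquiv.smulOfUnit (ζ : Fˣ) : (Fin n → F) ≃ₗ[F] (Fin n → F)) * aE (h : SU n F q) =
        (LinearEquiv.smulOfUnit (ζ' : Fˣ) : (Fin n → F) ≃ₗ[F] (Fin n → F)) * aE (h' : SU n F q) :=
      congrArg Subtype.val he
    have he2 : ((ζ : Fˣ) : F) • aL (h : SU n F q) = ((ζ' : Fˣ) : F) • aL (h' : SU n F q) :=
      LinearMap.ext fun v => LinearEquiv.congr_fun he1 v
    have he3 := congrArg LinearMap.det he2
    rw [hdet, hdet] at he3
    have he4 : (ζ * ζ'⁻¹) ^ n = 1 := by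
      apply Subtype.ext
      apply Units.ext
      have h0 : ((ζ' : Fˣ) : F) ≠ 0 := Units.ne_zero _
      change (((ζ : Fˣ) * (ζ' : Fˣ)⁻¹ : Fˣ) : F) ^ n = 1
      rw [Units.val_mul, Units.val_inv_eq_inv_val, mul_pow, inv_pow, he3, mul_inv_cancel₀ (pow_ne_zero _ h0)]
    have he5 : (ζ * ζ'⁻¹) ^ (q + 1) = 1 := by
      apply Subtype.ext
      exact (mem_rootsOfUnity (q + 1) _).1 (ζ * ζ'⁻¹).2
    have he6 : ζ = ζ' := by
      have h7 : orderOf (ζ * ζ'⁻¹) ∣ 1 := by
        have h8 := Nat.dvd_gcd (orderOf_dvd_of_pow_eq_one he4) (orderOf_dvd_of_pow_eq_one he5)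
        rwa [hco] at h8
      exact mul_inv_eq_one.1 (orderOf_eq_one_iff.1 (Nat.dvd_one.1 h7))
    subst he6
    have he7 : aE (h : SU n F q) = aE (h' : SU n F q) := mul_left_cancel he1
    exact Prod.ext (Subtype.ext (aE_injective he7)) rfl
  · rintro ⟨T, hT⟩
    have hB := isHerm_B0 (n := n) hF
    have hn1 := det_norm hB (T := (T : (Fin n → F) →ₗ[F] _)) (fun u v => (by exact hT.1 u v))
    set δ : Fˣ := LinearEquiv.det T with hδ
    have hδv : (δ : F) = LinearMap.det (T : (Fin n → F) →ₗ[F] _) := LinearEquiv.coe_det T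
    have hδ1 : δ ^ (q + 1) = 1 := by
      apply Units.ext
      rw [Units.val_pow_eq_pow_val, hδv, hn1]
      rfl
    obtain ⟨b, hb⟩ : ∃ b : ℕ, n * b ≡ 1 [MOD (q + 1)] := by
      have h2 : 1 < q + 1 := by have := two_le hF; omega
      exact Nat.exists_mul_mod_eq_one_of_coprime hco h2 |>.imp fun b hb => by
        rw [Nat.ModEq, hb.2, Nat.mod_eq_of_lt h2]
    have hζ : δ ^ b ∈ rootsOfUnity (q + 1) F := by
      rw [mem_rootsOfUnity, ← pow_mul, mul_comm, pow_mul, hδ1, one_pow]
    have hζn : (δ ^ b) ^ n = δ := by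
      rw [← pow_mul, mul_comm]
      have h3 : δ ^ (n * b) = δ ^ 1 := pow_eq_pow_iff_modEq.2 (hb.of_dvd (orderOf_dvd_of_pow_eq_one hδ1))
      rw [h3, pow_one]
    set c : F := (((δ ^ b)⁻¹ : Fˣ) : F) with hcd
    have hc1 : c * ((δ ^ b : Fˣ) : F) = 1 := by rw [hcd, ← Units.val_mul, inv_mul_cancel]; rfl
    have hcn : c ^ (q + 1) = 1 := by
      rw [hcd, ← Units.val_pow_eq_pow_val, inv_pow, (mem_rootsOfUnity (q + 1) _).1 hζ, inv_one]
      rfl
    have hTi : Iso (B0 hF n) (c • (T : (Fin n → F) →ₗ[F] _)) := by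
      intro u v
      change B0 hF n (c • T u) (c • T v) = _
      rw [LinearMap.map_smulₛₗ (B0 hF n), LinearMap.smul_apply, LinearMap.map_smul, cj_apply, smul_smul,
        ← pow_succ, hcn, one_smul]
      exact hT.1 u v
    have hTd : LinearMap.det (c • (T : (Fin n → F) →ₗ[F] (Fin n → F))) = 1 := by
      rw [LinearMap.det_smul, finrank_fintype_fun_eq_card, Fintype.card_fin, ← hδv, hcd]
      rw [← Units.val_pow_eq_pow_val, ← Units.val_mul, inv_pow, hζn, inv_mul_cancel]
      rfl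
    have hact := act_toSU (LinearEquiv.refl F (Fin n → F)) (B := B0 hF n) (fun x y => rfl) _ hTi hTd
    set h := toSU (LinearEquiv.refl F (Fin n → F)) (B := B0 hF n) (fun x y => rfl) _ hTi hTd with hh
    have hact' : ∀ w, act h w = c • T w := fun w => hact w
    have hcen : h ∈ Subgroup.centralizer ({g} : Set (SU n F q)) := by
      rw [Subgroup.mem_centralizer_singleton_iff]
      apply ext_act
      intro v
      rw [act_mul, act_mul, hact', hact', act_smul]
      have := hT.2 v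
      rw [aE_apply, aE_apply] at this
      rw [this]
    refine ⟨(⟨h, hcen⟩, ⟨δ ^ b, hζ⟩), Subtype.ext (LinearEquiv.ext fun v => ?_)⟩
    change ((δ ^ b : Fˣ) : F) • act h v = T v
    rw [hact', smul_smul, mul_comm, hc1, one_smul]

end Cfsg.Agent.H157.CS
end

-- part: H157/CS/Num
section
/-!
# S3677, `PSU_n(q)`: numbers (helper157)

* `low` : a lower bound for `∏ (q^i - (-1)^i)`;
* `Shape p q n N` : `N = Q ^ (m (m - 1) / 2) * D`, `Q = q ^ k`, `k ≥ 2`, `k m = n`, `p ∤ D ≤ 2 ^ m Q ^ (m (m + 1) / 2)`;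
* `Shape.bound` : `N * p ^ v_p(N) ≤ q ^ (n ^ 2 - 4)`.
-/

set_option autoImplicit false

namespace Cfsg.Agent.H157.CS.Num

open Finset

/-! ### the lower bound -/

/-- the exponent -/
def ex (N : ℕ) : ℕ := ∑ i ∈ range N, (i + 2)

/-- the product -/
def PP (q N : ℕ) : ℕ := ∏ i ∈ range N, (if Even i then q ^ (i + 2) - 1 else q ^ (i + 2) + 1)

theorem ex_succ (N : ℕ) : ex (N + 1) = ex N + (N + 2) := Finset.sum_range_succ _ _

theorem PP_succ (q N : ℕ) : PP q (N + 1) = PP q N * (if Even N then q ^ (N + 2) - 1 else q ^ (N + 2) + 1) :=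
  Finset.prod_range_succ _ _

theorem low {q : ℕ} (hq : 2 ≤ q) : ∀ N : ℕ, q ^ ex (N + 1) * q ^ (N + 2) + 2 * q ^ ex (N + 1) ≤
    2 * (q ^ (N + 2) * PP q (N + 1))
  | 0 => by
    have e1 : ex (0 + 1) = 2 := rfl
    have e2 : PP q (0 + 1) = q ^ 2 - 1 := by
      rw [PP_succ]
      simp only [PP, _root_.Finset.range_zero, _root_.Finset.prod_empty, _root_.Even.zero, ↓ _root_.reduceIte, _root_.zero_add, _root_.one_mul]
    rw [e1, e2]
    obtain ⟨t, ht⟩ : ∃ t, q ^ 2 = t + 4 := Nat.exists_eq_add_of_le' (by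
      calc 4 = 2 ^ 2 := by norm_num
        _ ≤ q ^ 2 := Nat.pow_le_pow_left hq 2)
    rw [show (0 + 2) = 2 by rfl, ht, show t + 4 - 1 = t + 3 by omega]
    nlinarith only []
  | N + 1 => by
    have ih := low hq N
    have e1 : ex (N + 1 + 1) = ex (N + 1) + (N + 2) + 1 := by rw [ex_succ (N + 1)]; ring
    have e2 := PP_succ q (N + 1)
    set a := q ^ ex (N + 1) with ha
    set b := q ^ (N + 2) with hb
    set P := PP q (N + 1) with hP
    have hb4 : 4 ≤ b := by
      rw [hb]
      calc 4 = 2 ^ 2 := by norm_num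
        _ ≤ q ^ 2 := Nat.pow_le_pow_left hq 2
        _ ≤ q ^ (N + 2) := Nat.pow_le_pow_right (by omega) (by omega)
    have e3 : q ^ ex (N + 1 + 1) = a * b * q := by rw [e1, pow_succ, pow_add]
    have e4 : q ^ (N + 1 + 2) = b * q := pow_succ _ _
    rw [e2, e3, e4]
    obtain ⟨t, ht⟩ : ∃ t, b * q = t + 1 := Nat.exists_eq_add_of_le' (by nlinarith only [hq, hb4])
    have key : a * b * q * (b * q) + 2 * (a * b * q) ≤ 2 * (b * q * (P * t)) := by
      have h1 : (a * b + 2 * a) * (q * t) ≤ 2 * (b * P) * (q * t) := Nat.mul_le_mul_right _ ih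
      have h2 : b * (b * q + 2) ≤ (b + 2) * t := by
        have h3 : (b + 2) * (t + 1) = (b + 2) * (b * q) := by rw [ht]
        nlinarith only [hq, hb4, h3]
      calc a * b * q * (b * q) + 2 * (a * b * q) = a * q * (b * (b * q + 2)) := by ring
        _ ≤ a * q * ((b + 2) * t) := Nat.mul_le_mul_left _ h2
        _ = (a * b + 2 * a) * (q * t) := by ring
        _ ≤ 2 * (b * P) * (q * t) := h1
        _ = _ := by ring
    split_ifs
    · rw [ht, Nat.add_sub_cancel, ← ht]
      exact key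
    · refine key.trans ?_
      refine Nat.mul_le_mul_left _ (Nat.mul_le_mul_left _ (Nat.mul_le_mul_left _ ?_))
      omega

theorem low' {q : ℕ} (hq : 2 ≤ q) (N : ℕ) : q ^ ex (N + 1) ≤ 2 * PP q (N + 1) := by
  have h1 := low hq N
  have h2 : 0 < q ^ (N + 2) := by positivity
  refine Nat.le_of_mul_le_mul_left (?_ : q ^ (N + 2) * _ ≤ q ^ (N + 2) * _) h2
  calc q ^ (N + 2) * q ^ ex (N + 1) ≤ q ^ ex (N + 1) * q ^ (N + 2) + 2 * q ^ ex (N + 1) := by
        rw [mul_comm]; omega
    _ ≤ 2 * (q ^ (N + 2) * PP q (N + 1)) := h1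
    _ = _ := by ring

theorem ex_eq (N : ℕ) : 2 * ex N = N * (N + 3) := by
  induction N with
  | zero => rfl
  | succ N ih => rw [ex_succ, mul_add, ih]; ring

theorem tri (n : ℕ) : 2 * (n * (n - 1) / 2) = n * (n - 1) := by
  apply Nat.mul_div_cancel'
  rcases n with _ | n
  · simp
  · rw [Nat.add_sub_cancel, mul_comm]
    exact (Nat.even_mul_succ_self n).two_dvd

/-- the lower bound for the order of `PSU` -/
theorem psu_low {q n S : ℕ} (hq : 2 ≤ q) (hn : 3 ≤ n)
    (hS : Nat.gcd n (q + 1) * S = q ^ (n * (n - 1) / 2) * PP q (n - 1)) : q ^ (n ^ 2 - 4) < S := by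
  obtain ⟨k, rfl⟩ := Nat.exists_eq_add_of_le' hn
  have e1 : k + 3 - 1 = k + 1 + 1 := by omega
  rw [e1] at hS
  have h1 := low' hq (k + 1)
  have hg : Nat.gcd (k + 3) (q + 1) ≤ q + 1 := Nat.le_of_dvd (by omega) (Nat.gcd_dvd_right _ _)
  have h2 : q ^ ((k + 3) * (k + 1 + 1) / 2) * q ^ ex (k + 1 + 1) ≤ 2 * ((q + 1) * S) := by
    calc q ^ ((k + 3) * (k + 1 + 1) / 2) * q ^ ex (k + 1 + 1) ≤
        q ^ ((k + 3) * (k + 1 + 1) / 2) * (2 * PP q (k + 1 + 1)) := Nat.mul_le_mul_left _ h1
      _ = 2 * (Nat.gcd (k + 3) (q + 1) * S) := by rw [hS]; ring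
      _ ≤ 2 * ((q + 1) * S) := Nat.mul_le_mul_left _ (Nat.mul_le_mul_right _ hg)
  have h3 := tri (k + 3)
  rw [e1] at h3
  have h4 := ex_eq (k + 1 + 1)
  have h5 : (k + 3) * (k + 1 + 1) / 2 + ex (k + 1 + 1) = ((k + 3) ^ 2 - 4) + 3 := by
    have h6 : 4 ≤ (k + 3) ^ 2 := by nlinarith only [_root_.Nat.cast_nonneg (α := ℤ) (k)]
    have h7 : 2 * ((k + 3) * (k + 1 + 1) / 2 + ex (k + 1 + 1)) + 2 = 2 * (k + 3) ^ 2 := by
      rw [mul_add, h3, h4]; ring
    omega
  rw [← pow_add, h5, pow_add] at h2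
  by_contra hcon
  push Not at hcon
  have h6 : 2 * ((q + 1) * S) ≤ 2 * ((q + 1) * q ^ ((k + 3) ^ 2 - 4)) :=
    Nat.mul_le_mul_left _ (Nat.mul_le_mul_left _ hcon)
  have h7 : q ^ ((k + 3) ^ 2 - 4) * q ^ 3 ≤ q ^ ((k + 3) ^ 2 - 4) * (2 * (q + 1)) := by
    calc _ ≤ _ := h2
      _ ≤ _ := h6
      _ = _ := by ring
  have h8 : q ^ 3 ≤ 2 * (q + 1) := Nat.le_of_mul_le_mul_left h7 (by positivity)
  have h9 : q * (q * q) = q ^ 3 := by ring
  nlinarith only [hq, h8, _root_.mul_self_nonneg (↑q : ℤ), _root_.Nat.cast_nonneg (α := ℤ) (q)]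

/-! ### the shape -/

/-- the shape of the order of the group of isometries commuting with `g` -/
def Shape (p q n N : ℕ) : Prop := ∃ k m D : ℕ, 2 ≤ k ∧ n = k * m ∧ N = (q ^ k) ^ (m * (m - 1) / 2) * D ∧ ¬ p ∣ D ∧
  D ≤ 2 ^ m * (q ^ k) ^ (m * (m + 1) / 2)

theorem tri' (m : ℕ) : 2 * (m * (m + 1) / 2) = m * (m + 1) :=
  Nat.mul_div_cancel' (Nat.even_mul_succ_self m).two_dvd

theorem tri_succ (m : ℕ) : (m + 1) * (m + 1 + 1) / 2 = m * (m + 1) / 2 + (m + 1) := by
  have h1 := tri' m
  have h2 := tri' (m + 1)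
  have h3 : (m + 1) * (m + 1 + 1) = m * (m + 1) + 2 * (m + 1) := by ring
  omega

theorem Shape.bound {p f n N : ℕ} (hp : p.Prime) (hf : 1 ≤ f) (hn : 4 ≤ n) (h : Shape p (p ^ f) n N) {c : ℕ}
    (hc : c ∣ N) : c * p ^ c.factorization p ≤ (p ^ f) ^ (n ^ 2 - 4) := by
  obtain ⟨k, m, D, hk, rfl, hN, hD, hDle⟩ := h
  set q := p ^ f with hq
  have hq2 : 2 ≤ q := by
    calc 2 ≤ p := hp.two_le
      _ = p ^ 1 := (pow_one p).symm
      _ ≤ p ^ f := Nat.pow_le_pow_right hp.pos hf
  have hD0 : D ≠ 0 := fun h0 => hD (h0 ▸ dvd_zero p)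
  have hm0 : m ≠ 0 := by rintro rfl; omega
  have hN0 : N ≠ 0 := by
    rw [hN]
    exact mul_ne_zero (by positivity) hD0
  have hv : N.factorization p = f * (k * (m * (m - 1) / 2)) := by
    rw [hN, hq, ← pow_mul, ← pow_mul, Nat.factorization_mul (pow_ne_zero _ hp.ne_zero) hD0, Finsupp.add_apply,
      Nat.factorization_eq_zero_of_not_dvd hD, add_zero, hp.factorization_pow, Finsupp.single_eq_same]
  have hQ : ∀ A, (q ^ k) ^ A = q ^ (k * A) := fun A => (pow_mul q k A).symm
  have hvp : p ^ N.factorization p = (q ^ k) ^ (m * (m - 1) / 2) := by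
    rw [hv, hQ, hq, pow_mul]
  have h1 : c * p ^ c.factorization p ≤ N * p ^ N.factorization p := by
    refine Nat.mul_le_mul (Nat.le_of_dvd (Nat.pos_of_ne_zero hN0) hc) (Nat.pow_le_pow_right hp.pos ?_)
    have hc0 : c ≠ 0 := fun h0 => hN0 (by rw [h0] at hc; exact Nat.eq_zero_of_zero_dvd hc)
    exact (Nat.factorization_le_iff_dvd hc0 hN0).2 hc p
  refine h1.trans ?_
  rw [hvp, hN]
  have e1 : 2 ^ m ≤ q ^ m := Nat.pow_le_pow_left hq2 m
  calc (q ^ k) ^ (m * (m - 1) / 2) * D * (q ^ k) ^ (m * (m - 1) / 2) ≤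
      (q ^ k) ^ (m * (m - 1) / 2) * (q ^ m * (q ^ k) ^ (m * (m + 1) / 2)) * (q ^ k) ^ (m * (m - 1) / 2) :=
        Nat.mul_le_mul_right _ (Nat.mul_le_mul_left _ (hDle.trans (Nat.mul_le_mul_right _ e1)))
    _ = q ^ (k * (m * (m - 1) / 2) + (m + k * (m * (m + 1) / 2)) + k * (m * (m - 1) / 2)) := by
        rw [pow_add, pow_add, pow_add, hQ, hQ]
    _ ≤ q ^ ((k * m) ^ 2 - 4) := by
        refine Nat.pow_le_pow_right (by omega) ?_
        have t1 := tri m
        have t2 := tri' m
        set A := m * (m - 1) / 2 with hA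
        set C := m * (m + 1) / 2 with hC
        obtain ⟨j, rfl⟩ : ∃ j, m = j + 1 := ⟨m - 1, by omega⟩
        rw [Nat.add_sub_cancel] at t1
        -- everything times four
        have h4 : 4 * (k * A + (j + 1 + k * C) + k * A) ≤ 3 * (k * (j + 1)) ^ 2 := by
          have e2 : 4 * (k * A + (j + 1 + k * C) + k * A) = 2 * k * (2 * (2 * A)) + (4 * (j + 1) + 2 * k * (2 * C)) := by
            ring
          rw [e2, t1, t2]
          have e3 : 2 * (j + 1) ≤ k * (j + 1) := Nat.mul_le_mul_right _ hk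
          linarith only [e3, Nat.mul_le_mul_left (k * (j + 1)) e3]
        have h16 : 16 ≤ (k * (j + 1)) ^ 2 := by nlinarith only [hn]
        (clear * - h4 h16; omega)

theorem prod_le {s : ℕ} (hs : 1 ≤ s) (g : ℕ → ℕ) (hg : ∀ i, g i ≤ 2 * s ^ (i + 1)) (m : ℕ) :
    ∏ i ∈ range m, g i ≤ 2 ^ m * s ^ (m * (m + 1) / 2) := by
  induction m with
  | zero => simp
  | succ m ih =>
    rw [Finset.prod_range_succ, tri_succ, pow_succ 2 m, pow_add]
    calc _ ≤ (2 ^ m * s ^ (m * (m + 1) / 2)) * (2 * s ^ (m + 1)) := Nat.mul_le_mul ih (hg m)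
      _ = _ := by ring

theorem not_dvd_prod {p : ℕ} (hp : p.Prime) {g : ℕ → ℕ} {m : ℕ} (hg : ∀ i < m, ¬ p ∣ g i) : ¬ p ∣ ∏ i ∈ range m, g i := by
  rw [Prime.dvd_finsetProd_iff hp.prime]
  rintro ⟨i, hi, h⟩
  exact hg i (Finset.mem_range.1 hi) h

theorem ndvd_add {p s i : ℕ} (hp : p.Prime) (hs : p ∣ s) : ¬ p ∣ s ^ (i + 1) + 1 := fun h =>
  hp.one_lt.ne' (Nat.dvd_one.1 ((Nat.dvd_add_right (dvd_pow hs (Nat.succ_ne_zero i))).1 h))

theorem ndvd_sub {p s i : ℕ} (hp : p.Prime) (hs : p ∣ s) (h1 : 1 ≤ s) : ¬ p ∣ s ^ (i + 1) - 1 := fun h => by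
  have h2 : 1 ≤ s ^ (i + 1) := Nat.one_le_pow _ _ h1
  have h3 := (Nat.dvd_sub_iff_right h2 (dvd_pow hs (Nat.succ_ne_zero i))).1 h
  exact hp.one_lt.ne' (Nat.dvd_one.1 h3)

theorem shape_gu {p q d m : ℕ} (hp : p.Prime) (hq : p ∣ q) (hq1 : 1 ≤ q) (hd : 2 ≤ d) :
    Shape p q (d * m) (H326.CGU.guCard m (q ^ d)) := by
  have hs1 : 1 ≤ q ^ d := Nat.one_le_pow _ _ hq1
  have hps : p ∣ q ^ d := dvd_pow hq (by omega)
  refine ⟨d, m, _, hd, rfl, rfl, not_dvd_prod hp fun i _ => ?_, prod_le hs1 _ (fun i => ?_) m⟩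
  · split_ifs
    · exact ndvd_add hp hps
    · exact ndvd_sub hp hps hs1
  · have h2 : 1 ≤ (q ^ d) ^ (i + 1) := Nat.one_le_pow _ _ hs1
    split_ifs <;> omega

theorem prod_gl {Q : ℕ} (m : ℕ) : ∏ i ∈ range m, (Q ^ m - Q ^ i) =
    Q ^ (m * (m - 1) / 2) * ∏ i ∈ range m, (Q ^ (i + 1) - 1) := by
  have h1 : ∏ i ∈ range m, (Q ^ m - Q ^ i) = ∏ i ∈ range m, (Q ^ i * (Q ^ (m - 1 - i + 1) - 1)) := by
    refine Finset.prod_congr rfl fun i hi => ?_
    rw [Finset.mem_range] at hi
    rw [Nat.mul_sub, ← pow_add, mul_one]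
    congr 2
    omega
  rw [h1, Finset.prod_mul_distrib, Finset.prod_pow_eq_pow_sum, Finset.sum_range_id]
  congr 1
  exact Finset.prod_range_reflect (fun i => Q ^ (i + 1) - 1) m

theorem shape_gl {p q d m : ℕ} (hp : p.Prime) (hq : p ∣ q) (hq1 : 1 ≤ q) (hd : 1 ≤ d) :
    Shape p q (2 * (d * m)) (∏ i ∈ range m, ((q ^ (2 * d)) ^ m - (q ^ (2 * d)) ^ i)) := by
  have hs1 : 1 ≤ q ^ (2 * d) := Nat.one_le_pow _ _ hq1
  have hps : p ∣ q ^ (2 * d) := dvd_pow hq (by omega)
  refine ⟨2 * d, m, _, by omega, by ring, prod_gl m, not_dvd_prod hp fun i _ => ndvd_sub hp hps hs1,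
    prod_le hs1 _ (fun i => ?_) m⟩
  have h2 : 1 ≤ (q ^ (2 * d)) ^ (i + 1) := Nat.one_le_pow _ _ hs1
  omega

end Cfsg.Agent.H157.CS.Num
end

-- part: H157/CS/Top
section
/-!
# S3677, `PSU_n(q)`, `gcd(n, q + 1) = 1`: the lattice of the centralizers containing elements of order `r`,
`ord_r (-q) = n` (helper157)
-/

set_option autoImplicit false
set_option linter.unusedSectionVars false

namespace Cfsg.Agent.H157.CS

open Cfsg Cfsg.Agent.H948.UBase Cfsg.Agent.LieClassical.HermBasic Cfsg.Agent.H157.CS.Num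
open Cfsg.Agent.H948.UProd (ph card_SU)
open Cfsg.Agent.ClassicalGeometry.PSUAutBasic (pr pr_eq_one_iff pr_surjective)
open Cfsg.Agent.H364.Unitary (sg)
open Cfsg.Agent.H446.CS (cc)
open Cfsg.Agent.H370.AAM (Co mem_co)
open Cfsg.Agent.H431.CS (LatW co_congr)

universe u

/-! ### numbers -/

theorem cc_fac {p f m k : ℕ} (hp : p.Prime) (hf : 1 ≤ f) (hk : 0 < k) :
    cc (p ^ f) m k ≠ 0 ∧ (cc (p ^ f) m k).factorization p = f * (k * (m * (m - 1) / 2)) := by
  have hs1 : 1 ≤ (p ^ f) ^ k := Nat.one_le_pow _ _ (Nat.one_le_pow _ _ hp.pos)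
  have hps : p ∣ (p ^ f) ^ k := dvd_pow (dvd_pow_self p (by omega)) (by omega)
  set D := ∏ i ∈ Finset.range m, (if Odd k then (if Even i then ((p ^ f) ^ k) ^ (i + 1) + 1 else ((p ^ f) ^ k) ^ (i + 1) - 1)
    else ((p ^ f) ^ k) ^ (i + 1) - 1) with hD
  have hpD : ¬ p ∣ D := by
    refine not_dvd_prod hp fun i _ => ?_
    split_ifs
    · exact ndvd_add hp hps
    · exact ndvd_sub hp hps hs1
    · exact ndvd_sub hp hps hs1
  have hD0 : D ≠ 0 := fun h0 => hpD (h0 ▸ dvd_zero p)
  have hpow : ((p ^ f) ^ k) ^ (m * (m - 1) / 2) = p ^ (f * (k * (m * (m - 1) / 2))) := by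
    rw [← pow_mul, ← pow_mul]
  have hcc : cc (p ^ f) m k = p ^ (f * (k * (m * (m - 1) / 2))) * D := by
    rw [← hpow]
    rfl
  rw [hcc]
  refine ⟨mul_ne_zero (pow_ne_zero _ hp.ne_zero) hD0, ?_⟩
  rw [Nat.factorization_mul (pow_ne_zero _ hp.ne_zero) hD0, Finsupp.add_apply,
    Nat.factorization_eq_zero_of_not_dvd hpD, add_zero, hp.factorization_pow, Finsupp.single_eq_same]

theorem fac_of {p f m k c : ℕ} (hp : p.Prime) (hf : 1 ≤ f) (hk : 0 < k) (h : c * (p ^ f + 1) = cc (p ^ f) m k) :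
    c.factorization p = f * (k * (m * (m - 1) / 2)) := by
  obtain ⟨h0, h1⟩ := cc_fac (m := m) hp hf hk
  rw [← h] at h0 h1
  have hc0 := left_ne_zero_of_mul h0
  have h2 : ¬ p ∣ p ^ f + 1 := by
    have := ndvd_add (p := p) (s := p ^ f) (i := 0) hp (dvd_pow_self p (by omega))
    simpa using this
  rwa [Nat.factorization_mul hc0 (Nat.succ_ne_zero _), Finsupp.add_apply,
    Nat.factorization_eq_zero_of_not_dvd h2, add_zero] at h1

theorem cc_one {q n : ℕ} (hn : 1 ≤ n) : cc q 1 n = ph q (n - 1) := by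
  have e1 : n - 1 + 1 = n := by omega
  have e2 : Even (n - 1) ↔ Odd n := by
    rcases Nat.even_or_odd n with h | h
    · have : Odd (n - 1) := by obtain ⟨t, ht⟩ := h; exact ⟨t - 1, by omega⟩
      exact ⟨fun h' => absurd this (Nat.not_odd_iff_even.2 h'), fun h' => absurd h' (Nat.not_odd_iff_even.2 h)⟩
    · exact ⟨fun _ => h, fun _ => by obtain ⟨t, ht⟩ := h; exact ⟨t, by omega⟩⟩
  unfold cc ph
  simp only [e1, e2, Finset.prod_range_one, Nat.sub_self, mul_zero, Nat.zero_div, pow_zero, one_mul, zero_add, pow_one]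
  by_cases h : Odd n <;> simp only [h, ↓ _root_.reduceIte, _root_.Even.zero, _root_.Nat.add_left_cancel_iff]

theorem ph_natAbs {q n : ℕ} (hq : 1 ≤ q) (hn : 1 ≤ n) : ph q (n - 1) = ((q : ℤ) ^ n - (-1) ^ n).natAbs := by
  have e1 : n - 1 + 1 = n := by omega
  unfold ph
  rw [e1]
  split_ifs with h
  · have h2 : Odd n := by obtain ⟨t, ht⟩ := h; exact ⟨t, by omega⟩
    rw [h2.neg_one_pow]
    have h3 : ((q : ℤ) ^ n - -1) = ((q ^ n + 1 : ℕ) : ℤ) := by push_cast; ring
    rw [h3, Int.natAbs_natCast]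
  · have h2 : Even n := by
      obtain ⟨t, ht⟩ := Nat.not_even_iff_odd.1 h
      exact ⟨t + 1, by omega⟩
    rw [h2.neg_one_pow]
    have h4 : 1 ≤ q ^ n := Nat.one_le_pow _ _ hq
    have h3 : ((q : ℤ) ^ n - 1) = ((q ^ n - 1 : ℕ) : ℤ) := by push_cast [Nat.cast_sub h4]; ring
    rw [h3, Int.natAbs_natCast]

/-! ### the lattice -/

variable {F : Type u} [Field F] [Fintype F] {n p f r : ℕ}

/-- elements commuting with an element of order `r` do not have order `p` -/
theorem not_comm_p {q : ℕ} (hF : Fintype.card F = q ^ 2) (hn : 2 ≤ n) [hr : Fact r.Prime]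
    (ho : orderOf (-(q : ZMod r)) = n) {X g : SU n F q} (hX : orderOf X = r) (hc : Commute X g) (hp : p.Prime)
    (hpq : p ∣ q) : orderOf g ≠ p := by
  intro hg
  have hrF := cast_ne_zero hF hr.out (not_dvd_q ho hn)
  have h1 := H364.Unitary.pow_sg_eq_one hF hr.out hrF (by omega) ho hX hc
  have h2 : p ∣ (sg q n).natAbs := hg ▸ orderOf_dvd_of_pow_eq_one h1
  have h3 : (p : ℤ) ∣ sg q n := Int.natCast_dvd.2 h2
  have h4 : (p : ℤ) ∣ sg q n * (-(q : ℤ) - 1) := Dvd.dvd.mul_right h3 _
  rw [H364.Unitary.sg_mul] at h4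
  have h5 : (p : ℤ) ∣ (-(q : ℤ)) ^ n := dvd_pow ((dvd_neg (α := ℤ)).2 (Int.natCast_dvd_natCast.2 hpq)) (by omega)
  have h6 : (p : ℤ) ∣ 1 := by
    have := dvd_sub h5 h4
    simpa only [_root_.sub_sub_cancel] using this
  exact hp.one_lt.ne' (Nat.dvd_one.1 (by exact_mod_cast h6))

theorem center_bot {q : ℕ} (hF : Fintype.card F = q ^ 2) (hn : 3 ≤ n) (hco : Nat.Coprime n (q + 1)) :
    Subgroup.center (SU n F q) = ⊥ := by
  have h1 := Cfsg.Agent.S0279.result hF n hn
  rw [hco] at h1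
  exact Subgroup.card_eq_one.1 h1

/-- the list -/
theorem list_su {q : ℕ} (hF : Fintype.card F = q ^ 2) (hn : 3 ≤ n) (hco : Nat.Coprime n (q + 1)) [hr : Fact r.Prime]
    (ho : orderOf (-(q : ZMod r)) = n) {g : SU n F q} (hg : g ≠ 1)
    (hrg : r ∣ Nat.card ↥(Subgroup.centralizer ({g} : Set (SU n F q)))) :
    ∃ m k : ℕ, 2 ≤ k ∧ k * m = n ∧
      Nat.card ↥(Subgroup.centralizer ({g} : Set (SU n F q))) * (q + 1) = cc q m k := by
  obtain ⟨y, hy⟩ := exists_prime_orderOf_dvd_card' r hrg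
  have hX : orderOf (y : SU n F q) = r := by rw [← hy]; exact Subgroup.orderOf_coe y
  have hc : Commute (y : SU n F q) g := Subgroup.mem_centralizer_singleton_iff.1 y.2
  obtain ⟨m, k, hk, hkm, hcard, h1⟩ := struct' hF (by omega) ho hX hc
  refine ⟨m, k, ?_, hkm, by rw [← card_IG hF hco, hcard]⟩
  rcases Nat.lt_or_ge 1 k with h2 | h2
  · exact h2
  · exfalso
    have h3 := h1 (by omega)
    rw [center_bot hF hn hco, Subgroup.mem_bot] at h3
    exact hg h3

/-- `n (m - 1)` -/
theorem two_mul_exp {n m k : ℕ} (h : k * m = n) : 2 * (k * (m * (m - 1) / 2)) = n * (m - 1) := by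
  rw [mul_left_comm, tri, ← h, mul_assoc]

variable (hp : p.Prime) (hf : 1 ≤ f) (hF : Fintype.card F = (p ^ f) ^ 2) (hn : 3 ≤ n)
  (hco : Nat.Coprime n (p ^ f + 1)) [hr : Fact r.Prime] (ho : orderOf (-((p ^ f : ℕ) : ZMod r)) = n)

include hp hf hF hn in
theorem fac_su : (Nat.card (SU n F (p ^ f))).factorization p = f * (n * (n - 1) / 2) := by
  have h1 := card_SU (n := n) hF (by omega)
  have hD : ¬ p ∣ ∏ i ∈ Finset.range (n - 1), ph (p ^ f) (i + 1) := by
    refine not_dvd_prod hp fun i _ => ?_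
    have hps : p ∣ p ^ f := dvd_pow_self p (by omega)
    unfold ph
    split_ifs
    · exact ndvd_add hp hps
    · exact ndvd_sub hp hps (Nat.one_le_pow _ _ hp.pos)
  have hD0 : ∏ i ∈ Finset.range (n - 1), ph (p ^ f) (i + 1) ≠ 0 := fun h0 => hD (h0 ▸ dvd_zero p)
  rw [h1, ← pow_mul, Nat.factorization_mul (pow_ne_zero _ hp.ne_zero) hD0, Finsupp.add_apply,
    Nat.factorization_eq_zero_of_not_dvd hD, add_zero, hp.factorization_pow, Finsupp.single_eq_same]

include hp hf hF hn hco ho in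
/-- **The `p`-prime members.** -/
theorem one_su {g : SU n F (p ^ f)} (hg : g ≠ 1)
    (hrg : r ∣ Nat.card ↥(Subgroup.centralizer ({g} : Set (SU n F (p ^ f)))))
    (hpg : ¬ p ∣ Nat.card ↥(Subgroup.centralizer ({g} : Set (SU n F (p ^ f))))) :
    Nat.card ↥(Subgroup.centralizer ({g} : Set (SU n F (p ^ f)))) * (p ^ f + 1) = ph (p ^ f) (n - 1) := by
  obtain ⟨m, k, hk, hkm, h⟩ := list_su hF hn hco ho hg hrg
  have h1 := fac_of hp hf (by omega) h
  rw [Nat.factorization_eq_zero_of_not_dvd hpg] at h1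
  have h2 := two_mul_exp hkm
  have h3 : k * (m * (m - 1) / 2) = 0 := by
    rcases Nat.mul_eq_zero.1 h1.symm with h4 | h4
    · omega
    · exact h4
  rw [h3, mul_zero] at h2
  have h4 : m = 1 := by
    rcases Nat.mul_eq_zero.1 h2.symm with h5 | h5
    · omega
    · have : m ≠ 0 := by rintro rfl; omega
      omega
  subst h4
  rw [mul_one] at hkm
  subst hkm
  rw [h, cc_one (by omega)]

include hp hf hF hn ho in
theorem not_p_dvd {X : SU n F (p ^ f)} (hX : orderOf X = r) :
    ¬ p ∣ Nat.card ↥(Subgroup.centralizer ({X} : Set (SU n F (p ^ f)))) := by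
  intro h
  have := Fact.mk hp
  obtain ⟨y, hy⟩ := exists_prime_orderOf_dvd_card' p h
  have h1 : Commute X (y : SU n F (p ^ f)) := (Subgroup.mem_centralizer_singleton_iff.1 y.2).symm
  exact not_comm_p hF (by omega) ho hX h1 hp (dvd_pow_self p (by omega)) ((Subgroup.orderOf_coe y).trans hy)

include hp hf hF hn ho in
theorem not_r_dvd {u : SU n F (p ^ f)} (hu : orderOf u = p) :
    ¬ r ∣ Nat.card ↥(Subgroup.centralizer ({u} : Set (SU n F (p ^ f)))) := by
  intro h
  obtain ⟨y, hy⟩ := exists_prime_orderOf_dvd_card' r h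
  have h1 : Commute (y : SU n F (p ^ f)) u := Subgroup.mem_centralizer_singleton_iff.1 y.2
  exact not_comm_p hF (by omega) ho ((Subgroup.orderOf_coe y).trans hy) h1 hp (dvd_pow_self p (by omega)) hu

include hp hf hF hn hco ho in
theorem latW_su : LatW (SU n F (p ^ f)) p r := by
  have hr' := hr.out
  have hpF := Fact.mk hp
  have hq1 : 1 ≤ p ^ f := Nat.one_le_pow _ _ hp.pos
  have hpq : p ∣ p ^ f := dvd_pow_self p (by omega)
  have hcardSU := card_SU (n := n) hF (by omega)
  have hS0 : Nat.card (SU n F (p ^ f)) ≠ 0 := Nat.card_pos.ne'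
  have hle : ∀ g : SU n F (p ^ f), g ≠ 1 → r ∣ Nat.card ↥(Subgroup.centralizer ({g} : Set (SU n F (p ^ f)))) →
      ∃ m k : ℕ, 2 ≤ k ∧ k * m = n ∧
      Nat.card ↥(Subgroup.centralizer ({g} : Set (SU n F (p ^ f)))) * (p ^ f + 1) = cc (p ^ f) m k ∧
      (Nat.card ↥(Subgroup.centralizer ({g} : Set (SU n F (p ^ f))))).factorization p <
        (Nat.card (SU n F (p ^ f))).factorization p := by
    intro g hg hrg
    obtain ⟨m, k, hk, hkm, h⟩ := list_su hF hn hco ho hg hrg
    refine ⟨m, k, hk, hkm, h, ?_⟩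
    rw [fac_of hp hf (by omega) h, fac_su hp hf hF hn]
    refine Nat.mul_lt_mul_of_pos_left ?_ (by omega)
    have h1 := two_mul_exp hkm
    have h2 := tri n
    have h3 : m < n := by
      have : m ≠ 0 := by rintro rfl; omega
      nlinarith only [hn, hk, hkm]
    have h4 : n * (m - 1) < n * (n - 1) := Nat.mul_lt_mul_of_pos_left (by omega) (by omega)
    omega
  have hone : ∀ c, c ≠ Nat.card (SU n F (p ^ f)) → ∀ g : SU n F (p ^ f),
      Nat.card ↥(Subgroup.centralizer ({g} : Set (SU n F (p ^ f)))) = c → g ≠ 1 := by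
    rintro c hc g rfl rfl
    apply hc
    rw [Subgroup.centralizer_eq_top_iff_subset.2 (by simp only [_root_.Set.singleton_subset_iff, _root_.SetLike.mem_coe, _root_.OneMemClass.one_mem]), Subgroup.card_top]
  refine ⟨?_, ?_, ?_, ?_⟩
  · -- an element of order `p`
    have h1 : p ∣ Nat.card (SU n F (p ^ f)) := by
      rw [hcardSU]
      refine Dvd.dvd.mul_right (dvd_pow hpq ?_) _
      have := tri n
      have h2 : 0 < n * (n - 1) := Nat.mul_pos (by omega) (by omega)
      omega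
    obtain ⟨u, hu⟩ := exists_prime_orderOf_dvd_card' p h1
    exact ⟨_, mem_co u, not_r_dvd hp hf hF hn ho hu⟩
  · -- an element of order `r`
    have hphr : r ∣ ph (p ^ f) (n - 1) := by
      have h1 : (-((p ^ f : ℕ) : ZMod r)) ^ n = 1 := by rw [← ho]; exact pow_orderOf_eq_one _
      have h2 : ((((p ^ f : ℕ) : ℤ) ^ n - (-1) ^ n : ℤ) : ZMod r) = 0 := by
        push_cast
        have h3 : (-((p ^ f : ℕ) : ZMod r)) ^ n = (-1) ^ n * ((p ^ f : ℕ) : ZMod r) ^ n := by
          rw [← mul_pow, neg_one_mul]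
        rw [h3] at h1
        have h4 : ((-1 : ZMod r) ^ n) * (-1) ^ n = 1 := by rw [← mul_pow]; simp
        push_cast at h1
        linear_combination ((-1 : ZMod r) ^ n) * h1 - (((p : ZMod r) ^ f) ^ n) * h4
      rw [ZMod.intCast_zmod_eq_zero_iff_dvd] at h2
      rw [ph_natAbs hq1 (by omega)]
      exact Int.natCast_dvd.1 h2
    obtain ⟨N, rfl⟩ : ∃ N, n = N + 2 := Nat.exists_eq_add_of_le' (by omega)
    have e1 : N + 2 - 1 = N + 1 := by omega
    rw [e1] at hcardSU hphr
    rw [Finset.prod_range_succ] at hcardSU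
    set M := (p ^ f) ^ ((N + 2) * (N + 1) / 2) * ∏ i ∈ Finset.range N, ph (p ^ f) (i + 1) with hM
    have hSM : Nat.card (SU (N + 2) F (p ^ f)) = M * ph (p ^ f) (N + 1) := by rw [hcardSU, hM]; ring
    have hrM : ¬ r ∣ M := by
      rw [hM, hr'.dvd_mul]
      rintro (h | h)
      · exact not_dvd_q ho (by omega) (hr'.dvd_of_dvd_pow h)
      · refine not_dvd_prod hr' (fun i hi h2 => ?_) h
        have h3 := neg_pow_of_dvd hq1 h2
        have h4 := orderOf_dvd_of_pow_eq_one h3
        rw [ho] at h4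
        have := Nat.le_of_dvd (by omega) h4
        omega
    have h1 : r ∣ Nat.card (SU (N + 2) F (p ^ f)) := by
      rw [hSM]
      exact Dvd.dvd.mul_left hphr _
    obtain ⟨X, hX⟩ := exists_prime_orderOf_dvd_card' r h1
    have hX1 : X ≠ 1 := by
      rintro rfl
      rw [orderOf_one] at hX
      exact hr'.one_lt.ne hX
    have hp1 := not_p_dvd hp hf hF hn ho hX
    have hrX : r ∣ Nat.card ↥(Subgroup.centralizer ({X} : Set (SU (N + 2) F (p ^ f)))) := by
      have h2 : orderOf (⟨X, Subgroup.mem_centralizer_singleton_iff.2 rfl⟩ :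
          ↥(Subgroup.centralizer ({X} : Set (SU (N + 2) F (p ^ f))))) = r := by rw [Subgroup.orderOf_mk, hX]
      exact h2 ▸ orderOf_dvd_natCard _
    refine ⟨_, mem_co X, ?_, hp1⟩
    have h2 := one_su hp hf hF hn hco ho hX1 hrX hp1
    rw [e1] at h2
    set c := Nat.card ↥(Subgroup.centralizer ({X} : Set (SU (N + 2) F (p ^ f)))) with hc
    have hc0 : c ≠ 0 := Nat.card_pos.ne'
    rw [← h2, ← mul_assoc, mul_right_comm] at hSM
    have hrq : ¬ r ∣ M * (p ^ f + 1) := by
      rw [hr'.dvd_mul]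
      rintro (h | h)
      · exact hrM h
      · exact not_dvd_q1 ho (by omega) h
    have hMq0 : M * (p ^ f + 1) ≠ 0 := fun h0 => hrq (h0 ▸ dvd_zero r)
    rw [hSM, Nat.factorization_mul hMq0 hc0, Finsupp.add_apply, Nat.factorization_eq_zero_of_not_dvd hrq, zero_add]
    exact Nat.ordProj_dvd c r
  · rintro c ⟨g, hg⟩ hc hrc hd
    have hg1 := hone c hc g hg
    simp only at hg
    subst hg
    obtain ⟨m, k, -, -, -, hlt⟩ := hle g hg1 hrc
    have h2 := (hp.pow_dvd_iff_le_factorization Nat.card_pos.ne').1 hd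
    omega
  · rintro c ⟨g, hg⟩ hc hrc hpc
    have hg1 := hone c hc g hg
    simp only at hg
    subst hg
    right
    rintro c' ⟨g', hg'⟩ hrc' hd hv
    simp only at hg'
    subst hg'
    obtain ⟨m, k, hk, hkm, h, hlt⟩ := hle g hg1 hrc
    have hg'1 : g' ≠ 1 := by
      rintro rfl
      rw [Subgroup.centralizer_eq_top_iff_subset.2 (by simp only [_root_.Set.singleton_subset_iff, _root_.SetLike.mem_coe, _root_.OneMemClass.one_mem]), Subgroup.card_top] at hv
      omega
    obtain ⟨m', k', hk', hkm', h', -⟩ := hle g' hg'1 hrc'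
    rw [fac_of hp hf (by omega) h, fac_of hp hf (by omega) h'] at hv
    have h1 := two_mul_exp hkm
    have h2 := two_mul_exp hkm'
    have h3 := Nat.eq_of_mul_eq_mul_left (by omega : 0 < f) hv
    rw [← h3, h2] at h1
    have h4 := Nat.eq_of_mul_eq_mul_left (by omega : 0 < n) h1
    have hm : m ≠ 0 := by rintro rfl; omega
    have hm' : m' ≠ 0 := by rintro rfl; omega
    have h5 : m = m' := by (clear * - h4 hm hm'; omega)
    subst h5
    have h6 : k = k' := Nat.eq_of_mul_eq_mul_right (by omega : 0 < m) (hkm.trans hkm'.symm)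
    subst h6
    exact Nat.eq_of_mul_eq_mul_right (Nat.succ_pos _) (h'.trans h.symm)

/-! ### the central quotient -/

theorem exists_iso_pr {q : ℕ} (hF : Fintype.card F = q ^ 2) (hn : 3 ≤ n) (hco : Nat.Coprime n (q + 1)) :
    Nonempty (SU n F q ≃* PSU n F q) := by
  refine ⟨MulEquiv.ofBijective (pr n F q) ⟨?_, pr_surjective⟩⟩
  rw [injective_iff_map_eq_one]
  intro g hg
  rw [pr_eq_one_iff, center_bot hF hn hco, Subgroup.mem_bot] at hg
  exact hg

theorem latW_congr {S : Type*} [Group S] {T : Type*} [Group T] (e : S ≃* T) {p r : ℕ} (h : LatW S p r) :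
    LatW T p r := by
  have h1 := co_congr e
  have h2 := Nat.card_congr e.toEquiv
  obtain ⟨a, b, c, d⟩ := h
  rw [h1] at a b c d
  rw [h2] at b c d
  exact ⟨a, b, c, d⟩

include hp hf hF hn hco ho in
theorem one_psu {c : ℕ} (hc : c ∈ Co (PSU n F (p ^ f))) (hcS : c ≠ Nat.card (PSU n F (p ^ f))) (hrc : r ∣ c)
    (hpc : ¬ p ∣ c) : c * (p ^ f + 1) = (((p ^ f : ℕ) : ℤ) ^ n - (-1) ^ n).natAbs := by
  obtain ⟨e⟩ := exists_iso_pr hF hn hco
  rw [← co_congr e] at hc
  rw [← Nat.card_congr e.toEquiv] at hcS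
  obtain ⟨g, hg⟩ := hc
  simp only at hg
  subst hg
  have hg1 : g ≠ 1 := by
    rintro rfl
    apply hcS
    rw [Subgroup.centralizer_eq_top_iff_subset.2 (by simp only [_root_.Set.singleton_subset_iff, _root_.SetLike.mem_coe, _root_.OneMemClass.one_mem]), Subgroup.card_top]
  rw [one_su hp hf hF hn hco ho hg1 hrc hpc, ph_natAbs (Nat.one_le_pow _ _ hp.pos) (by omega)]

end Cfsg.Agent.H157.CS

namespace Cfsg.Agent.H157.CS

universe v

open Cfsg Cfsg.Agent.H948.UBase Cfsg.Agent.LieClassical.HermBasic Cfsg.Agent.H157.CS.Num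
open Cfsg.Agent.H948.UProd (ph card_SU)
open Cfsg.Agent.H370.AAM (Co mem_co)
open Cfsg.Agent.H431.CS (LatW Lat co_congr)

/-- **The lattice for `PSU_n(q)`, `ord_r (-q) = n`, `gcd(n, q + 1) = 1`.** -/
theorem lat_psu_top {F : Type v} [Field F] [Fintype F] {n p f r : ℕ} (hp : p.Prime) (hf : 1 ≤ f)
    (hF : Fintype.card F = (p ^ f) ^ 2) (hn : 3 ≤ n) (hr : r.Prime) (ho : orderOf (-((p ^ f : ℕ) : ZMod r)) = n)
    (hco : Nat.gcd n (p ^ f + 1) = 1) :
    Lat (PSU n F (p ^ f)) p r ((((p ^ f : ℕ) : ℤ) ^ n - (-1) ^ n).natAbs / (p ^ f + 1)) := by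
  have := Fact.mk hr
  obtain ⟨e⟩ := exists_iso_pr hF hn hco
  have hW : LatW (PSU n F (p ^ f)) p r := latW_congr e (latW_su hp hf hF hn hco ho)
  have hq1 : 1 ≤ p ^ f := Nat.one_le_pow _ _ hp.pos
  have hpS : p ∣ Nat.card (PSU n F (p ^ f)) := by
    rw [← Nat.card_congr e.toEquiv, card_SU (n := n) hF (by omega)]
    refine Dvd.dvd.mul_right (dvd_pow (dvd_pow_self p (by omega)) ?_) _
    have := tri n
    have h2 : 0 < n * (n - 1) := Nat.mul_pos (by omega) (by omega)
    omega
  have hrS : r ∣ Nat.card (PSU n F (p ^ f)) := by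
    rw [← Nat.card_congr e.toEquiv, card_SU (n := n) hF (by omega)]
    refine Dvd.dvd.mul_left ?_ _
    have hphr : r ∣ ph (p ^ f) (n - 1) := by
      have h1 : (-((p ^ f : ℕ) : ZMod r)) ^ n = 1 := by rw [← ho]; exact pow_orderOf_eq_one _
      have h2 : ((((p ^ f : ℕ) : ℤ) ^ n - (-1) ^ n : ℤ) : ZMod r) = 0 := by
        push_cast
        have h3 : (-((p ^ f : ℕ) : ZMod r)) ^ n = (-1) ^ n * ((p ^ f : ℕ) : ZMod r) ^ n := by
          rw [← mul_pow, neg_one_mul]
        rw [h3] at h1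
        have h4 : ((-1 : ZMod r) ^ n) * (-1) ^ n = 1 := by rw [← mul_pow]; simp
        push_cast at h1
        linear_combination ((-1 : ZMod r) ^ n) * h1 - (((p : ZMod r) ^ f) ^ n) * h4
      rw [ZMod.intCast_zmod_eq_zero_iff_dvd] at h2
      rw [ph_natAbs hq1 (by omega)]
      exact Int.natCast_dvd.1 h2
    have h1 := Finset.dvd_prod_of_mem (fun i => ph (p ^ f) (i + 1)) (Finset.mem_range.2 (by omega : n - 2 < n - 1))
    refine dvd_trans ?_ h1
    rwa [show n - 2 + 1 = n - 1 by omega]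
  have hone : ∀ c ∈ Co (PSU n F (p ^ f)), c ≠ Nat.card (PSU n F (p ^ f)) → r ∣ c → ¬ p ∣ c →
      c = (((p ^ f : ℕ) : ℤ) ^ n - (-1) ^ n).natAbs / (p ^ f + 1) := by
    intro c h1 h2 h3 h4
    rw [← one_psu hp hf hF hn hco ho h1 h2 h3 h4, Nat.mul_div_cancel _ (Nat.succ_pos _)]
  obtain ⟨c, hc, hc1, hc2⟩ := hW.h2
  have hfin : Finite (PSU n F (p ^ f)) := Finite.of_equiv _ e.toEquiv
  have hrc : r ∣ c := by
    refine dvd_trans (dvd_pow_self r ?_) hc1
    exact (hr.factorization_pos_of_dvd Nat.card_pos.ne' hrS).ne'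
  have hcm := hone c hc (fun h => hc2 (h ▸ hpS)) hrc hc2
  rw [hcm] at hc hc1 hc2
  exact ⟨hrS, hW.h0, hc, hc1, hc2, hone, hW.h3, hW.h4⟩

/-- **The lattice for `PSU_n(2)`, `ord_r (-2) = n`, `3 ∤ n`.** -/
theorem lat_psu_two {F : Type v} [Field F] [Fintype F] {n r : ℕ} (hF : Fintype.card F = 4) (hn : 3 ≤ n)
    (h3 : ¬ 3 ∣ n) (hr : r.Prime) (ho : orderOf (-(2 : ZMod r)) = n) :
    Lat (PSU n F 2) 2 r (((2 : ℤ) ^ n - (-1) ^ n).natAbs / 3) := by
  have hco : Nat.gcd n (2 ^ 1 + 1) = 1 := ((Nat.Prime.coprime_iff_not_dvd Nat.prime_three).2 h3).symm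
  have h := lat_psu_top (F := F) (f := 1) Nat.prime_two le_rfl (by rw [hF]; norm_num) hn hr
    (by rw [← ho]; norm_num) hco
  simpa only [_root_.Int.reduceNeg, _root_.Nat.reducePow, _root_.pow_one, _root_.Nat.cast_ofNat, _root_.Nat.reduceAdd] using h

end Cfsg.Agent.H157.CS
end

private theorem dce_69be143a55ef : _root_.True := by
  try have : _root_.True := by simp only [_root_.Cfsg.Agent.H157.CS.Num.PP.eq_1]
  try have : _root_.True := by simp only [_root_.Cfsg.Agent.H277.CS.glue.congr_simp]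
  try have : _root_.True := by simp only [_root_.Cfsg.Agent.H446.CS.perp.eq_1]
  try have : _root_.True := by simp only [_root_.Cfsg.Agent.H446.CS.au.eq_1]
  try have : _root_.True := by simp only [_root_.Cfsg.Agent.H446.CS.ccp.eq_1]
  try have : _root_.True := by simp only [_root_.Cfsg.Agent.H446.CS.res.congr_simp]
  exact _root_.True.intro
end

-- part: H402/CS/NuLight
section
prune_inst 0x300000000000000000010000000000000
set_option linter.all false
open scoped Cfsg.Agent.FastGrp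

/-!
# Primes `r` with `ord_r (-q) = v` (light copy of `H364.NuOrd`, helper364 / helper402)
-/

set_option autoImplicit false

namespace Cfsg.Agent.H402.CS.NuLight

open Cfsg Finset

/-- the order of `q` when the order of `-q` is `v` -/
def al (v : ℕ) : ℕ := if Odd v then 2 * v else if 4 ∣ v then v else v / 2

theorem al_odd {v : ℕ} (h : Odd v) : al v = 2 * v := if_pos h

theorem al_four {v : ℕ} (h : 4 ∣ v) : al v = v := by
  unfold al
  rw [if_neg (by rw [Nat.not_odd_iff_even]; obtain ⟨k, rfl⟩ := h; exact ⟨2 * k, by ring⟩), if_pos h]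

theorem al_two {v : ℕ} (h : Odd v) : al (2 * v) = v := by
  unfold al
  rw [if_neg (by rw [Nat.not_odd_iff_even]; exact even_two_mul v), if_neg]
  · omega
  · obtain ⟨k, rfl⟩ := h
    omega

theorem al_cases (v : ℕ) : (Odd v ∧ al v = 2 * v) ∨ (4 ∣ v ∧ al v = v) ∨ ∃ w, Odd w ∧ v = 2 * w ∧ al v = w := by
  rcases Nat.even_or_odd v with ⟨w, hw⟩ | h
  · right
    rcases Nat.even_or_odd w with ⟨t, ht⟩ | h
    · left
      have : 4 ∣ v := ⟨t, by omega⟩
      exact ⟨this, al_four this⟩
    · right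
      exact ⟨w, h, by omega, by rw [show v = 2 * w by omega]; exact al_two h⟩
  · left; exact ⟨h, al_odd h⟩

theorem eq_neg_one_of_sq {R : Type*} [Field R] {a : R} (h : a ^ 2 = 1) (h1 : a ≠ 1) : a = -1 := by
  have h2 : (a - 1) * (a + 1) = 0 := by
    have : (a - 1) * (a + 1) = a ^ 2 - 1 := by ring
    rw [this, h, sub_self]
  rcases mul_eq_zero.1 h2 with h | h
  · exact absurd (sub_eq_zero.1 h) h1
  · exact eq_neg_of_add_eq_zero_left h

theorem orderOf_neg_of {R : Type*} [Field R] (h2 : (2 : R) ≠ 0) {x : R} {v : ℕ} (h : orderOf x = al v) :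
    orderOf (-x) = v := by
  have hne : (-1 : R) ≠ 1 := by
    intro h3
    apply h2
    have h4 : (2 : R) = 1 - (-1) := by norm_num
    rw [h4, h3, sub_self]
  have hodd : ∀ k, Odd k → (-x) ^ k = 1 → al v ∣ 2 * k ∧ ¬ al v ∣ k := by
    intro k hk h3
    rw [hk.neg_pow] at h3
    have h4 : x ^ k = -1 := by rw [← h3]; ring
    constructor
    · rw [← h, orderOf_dvd_iff_pow_eq_one, mul_comm, pow_mul, h4]; ring
    · rw [← h, orderOf_dvd_iff_pow_eq_one, h4]; exact hne
  have heven : ∀ k, Even k → (-x) ^ k = 1 → al v ∣ k := by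
    intro k hk h3
    rw [hk.neg_pow] at h3
    rw [← h, orderOf_dvd_iff_pow_eq_one]; exact h3
  have hx : ∀ k, al v ∣ k → x ^ k = 1 := fun k hk => by
    rw [← orderOf_dvd_iff_pow_eq_one, h]; exact hk
  apply Nat.dvd_antisymm
  · apply orderOf_dvd_of_pow_eq_one
    rcases al_cases v with ⟨h3, h4⟩ | ⟨h3, h4⟩ | ⟨w, hw, rfl, h4⟩
    · rcases Nat.eq_zero_or_pos v with rfl | hv
      · simp
      have h5 : (x ^ v) ^ 2 = 1 := by rw [← pow_mul]; exact hx _ (by rw [h4, mul_comm])
      have h6 : x ^ v ≠ 1 := by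
        intro h6
        have h7 : al v ∣ v := by rw [← h]; exact orderOf_dvd_of_pow_eq_one h6
        rw [h4] at h7
        have := Nat.le_of_dvd hv h7
        omega
      rw [h3.neg_pow, eq_neg_one_of_sq h5 h6, neg_neg]
    · obtain ⟨k, rfl⟩ := h3
      rw [Even.neg_pow ⟨2 * k, by ring⟩]
      exact hx _ (by rw [h4])
    · rw [Even.neg_pow (even_two_mul w)]
      exact hx _ (by rw [h4]; exact Dvd.intro_left 2 rfl)
  · have h3 : (-x) ^ orderOf (-x) = 1 := pow_orderOf_eq_one _
    rcases Nat.even_or_odd (orderOf (-x)) with he | ho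
    · have h4 := heven _ he h3
      rcases al_cases v with ⟨h5, h6⟩ | ⟨h5, h6⟩ | ⟨w, hw, rfl, h6⟩
      · rw [h6] at h4; exact (Dvd.intro_left 2 rfl).trans h4
      · rw [h6] at h4; exact h4
      · rw [h6] at h4
        exact (Nat.Coprime.mul_dvd_of_dvd_of_dvd (Nat.coprime_two_left.2 hw) he.two_dvd h4)
    · obtain ⟨h4, h4'⟩ := hodd _ ho h3
      rcases al_cases v with ⟨h5, h6⟩ | ⟨h5, h6⟩ | ⟨w, hw, rfl, h6⟩
      · rw [h6] at h4; exact Nat.dvd_of_mul_dvd_mul_left (by norm_num) h4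
      · rw [h6] at h4
        obtain ⟨k, hk⟩ := ho
        have : 4 ∣ 2 * orderOf (-x) := h5.trans h4
        omega
      · exfalso
        apply h4'
        rw [h6] at h4 ⊢
        exact (Nat.Coprime.dvd_of_dvd_mul_left (Nat.coprime_two_right.2 hw) h4)

/-- for `v ≥ 3` there is a prime `r` with `ord_r (-q) = v` and `ord_r p = f * al v` -/
theorem exists_prime {p f v : ℕ} (hp : p.Prime) (hf : 1 ≤ f) (hv : 3 ≤ v) (hex : ¬ (p = 2 ∧ f = 1 ∧ v = 3)) :
    ∃ r b : ℕ, r.Prime ∧ r ≠ p ∧ (∀ m, r ∣ p ^ m - 1 ↔ b ∣ m) ∧ b ∣ r - 1 ∧ 3 ≤ b ∧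
      orderOf (-((p ^ f : ℕ) : ZMod r)) = v ∧ (b = f * al v ∨ (p = 2 ∧ f = 2 ∧ v = 6 ∧ b = 3 ∧ r = 7)) := by
  by_cases hsp : p = 2 ∧ f * al v = 6
  · obtain ⟨rfl, h6⟩ := hsp
    have hfv : f = 2 ∧ v = 6 := by
      rcases al_cases v with ⟨h3, h4⟩ | ⟨h3, h4⟩ | ⟨w, hw, rfl, h4⟩
      · exfalso
        rw [h4] at h6
        have h5 : f * v = 3 := by nlinarith
        have : f = 1 := by nlinarith
        subst this
        exact hex ⟨rfl, rfl, by omega⟩
      · exfalso
        rw [h4] at h6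
        have h7 : 4 ∣ 6 := h6 ▸ (h3.mul_left f)
        omega
      · rw [h4] at h6
        have h7 : w ∣ 6 := ⟨f, by rw [← h6, mul_comm]⟩
        have h8 := Nat.le_of_dvd (by norm_num) h7
        obtain ⟨t, rfl⟩ := hw
        have : t ≤ 2 := by omega
        interval_cases t
        · omega
        · omega
        · omega
    obtain ⟨rfl, rfl⟩ := hfv
    have h3 : orderOf ((2 : ℕ) : ZMod 7) = 3 := by
      rw [orderOf_eq_iff (by norm_num)]
      exact ⟨by decide, by decide⟩
    refine ⟨7, 3, by norm_num, by norm_num, fun m => ?_, by norm_num, le_rfl, ?_, Or.inr ⟨rfl, rfl, rfl, rfl, rfl⟩⟩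
    · rw [Cfsg.Agent.Lib.Zsigmondy.dvd_pow_sub_one_iff (by norm_num), h3]
    · rw [orderOf_eq_iff (by norm_num)]
      exact ⟨by decide, by decide⟩
  · have hal : 3 ≤ al v := by
      rcases al_cases v with ⟨h3, h4⟩ | ⟨h3, h4⟩ | ⟨w, hw, rfl, h4⟩
      · omega
      · omega
      · obtain ⟨t, rfl⟩ := hw
        omega
    have h3 : 3 ≤ f * al v := hal.trans (Nat.le_mul_of_pos_left _ (by omega))
    obtain ⟨r, hr, hrm, hrd, hra⟩ := Cfsg.Agent.Lib.Zsigmondy.exists_primitive (a := p) (n := f * al v) hp.two_le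
      (by omega) (fun h => by omega) hsp
    have := Fact.mk hr
    have hrp : r ≠ p := by
      rintro rfl
      exact hra dvd_rfl
    refine ⟨r, f * al v, hr, hrp, hrm, hrd, h3, ?_, Or.inl rfl⟩
    have ho : orderOf (p : ZMod r) = f * al v := by
      apply Nat.dvd_antisymm
      · rw [← Cfsg.Agent.Lib.Zsigmondy.dvd_pow_sub_one_iff hp.one_le, hrm]
      · rw [← hrm, Cfsg.Agent.Lib.Zsigmondy.dvd_pow_sub_one_iff hp.one_le]
    have hr2 : (2 : ZMod r) ≠ 0 := by
      intro h
      have h4 : r ∣ 2 := by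
        rw [← ZMod.natCast_eq_zero_iff]; exact_mod_cast h
      have h5 := (Nat.prime_dvd_prime_iff_eq hr Nat.prime_two).1 h4
      have h6 := Nat.le_of_dvd (by rw [h5]; norm_num) hrd
      omega
    apply orderOf_neg_of hr2
    push_cast
    rw [orderOf_pow_of_dvd (by omega) (by rw [ho]; exact dvd_mul_right _ _), ho, Nat.mul_div_cancel_left _ (by omega)]

theorem dvd_fac_iff {r q i : ℕ} (hq : 1 ≤ q) : r ∣ (if Even i then q ^ (i + 1) + 1 else q ^ (i + 1) - 1) ↔
    (-(q : ZMod r)) ^ (i + 1) = 1 := by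
  split_ifs with h
  · rw [h.add_one.neg_pow, ← ZMod.natCast_eq_zero_iff]
    push_cast
    rw [neg_eq_iff_add_eq_zero]
  · rw [Nat.not_even_iff_odd] at h
    rw [h.add_one.neg_pow, ← ZMod.natCast_eq_zero_iff, Nat.cast_sub (Nat.one_le_pow _ _ hq)]
    push_cast
    rw [sub_eq_zero]

variable {F : Type*} [Field F] [Fintype F] {m q : ℕ}

theorem prime_dvd_psu (hF : Fintype.card F = q ^ 2) (hm : 2 ≤ m) {r : ℕ} (hr : r.Prime)
    (hn1 : 2 ≤ orderOf (-(q : ZMod r))) (hn : orderOf (-(q : ZMod r)) ≤ m) : r ∣ Nat.card (PSU m F q) := by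
  have hq : 1 ≤ q := by
    rcases Nat.eq_zero_or_pos q with rfl | h
    · have := Fintype.card_pos (α := F)
      rw [hF] at this; norm_num at this
    · exact h
  have h1 := Cfsg.Agent.S0280.result hF m hm
  set v := orderOf (-(q : ZMod r)) with hv
  have h2 : r ∣ Nat.gcd m (q + 1) * ((q + 1) * Nat.card (PSU m F q)) := by
    rw [h1]
    refine dvd_mul_of_dvd_right (dvd_trans ?_ (Finset.dvd_prod_of_mem _ (Finset.mem_range.2 (show v - 1 < m by omega)))) _
    rw [dvd_fac_iff hq, show v - 1 + 1 = v by omega]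
    exact pow_orderOf_eq_one _
  have h3 : ¬ r ∣ q + 1 := by
    intro h
    have h4 := (dvd_fac_iff (r := r) (i := 0) hq).1 (by simpa using h)
    rw [zero_add, pow_one] at h4
    rw [h4, orderOf_one] at hv
    omega
  rcases hr.dvd_mul.1 h2 with h4 | h4
  · exact absurd (h4.trans (Nat.gcd_dvd_right _ _)) h3
  · exact (hr.dvd_mul.1 h4).resolve_left h3

/-- the exponent condition -/
theorem lt_lcm {o v f : ℕ} (ho : Odd o) (hv : Even v) (hcop : Nat.Coprime o v) (ho1 : 1 ≤ o) (hv1 : 2 ≤ v) :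
    f * (o * v) ≤ Nat.lcm (f * al o) (f * al v) := by
  rw [Nat.lcm_mul_left]
  apply Nat.mul_le_mul_left
  have hal : ∀ x, 1 ≤ x → 1 ≤ al x := by
    intro x hx
    rcases al_cases x with ⟨h3, h4⟩ | ⟨h3, h4⟩ | ⟨w, hw, rfl, h4⟩ <;> omega
  have h1 : al o ∣ Nat.lcm (al o) (al v) := Nat.dvd_lcm_left _ _
  have h2 : al v ∣ Nat.lcm (al o) (al v) := Nat.dvd_lcm_right _ _
  have h0 : 0 < Nat.lcm (al o) (al v) := Nat.lcm_pos (hal o ho1) (hal v (by omega))
  apply Nat.le_of_dvd h0
  have h1' : 2 * o ∣ Nat.lcm (al o) (al v) := by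
    have := al_odd ho
    rw [← this]; exact h1
  rcases al_cases v with ⟨h3, h4⟩ | ⟨h3, h4⟩ | ⟨w, hw, rfl, h4⟩
  · exact absurd h3 (Nat.not_odd_iff_even.2 hv)
  · have h2' : v ∣ Nat.lcm (al o) (al v) := by
      have := h2
      rwa [h4] at this ⊢
    exact hcop.mul_dvd_of_dvd_of_dvd ((Dvd.intro_left 2 rfl).trans h1') h2'
  · have hcop2 : Nat.Coprime (2 * o) w := by
      rw [Nat.coprime_mul_iff_left]
      exact ⟨Nat.coprime_two_left.2 hw, hcop.coprime_dvd_right (Dvd.intro_left 2 rfl)⟩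
    have h2' : w ∣ Nat.lcm (al o) (al (2 * w)) := by
      have := h2
      rwa [h4] at this ⊢
    have h5 := hcop2.mul_dvd_of_dvd_of_dvd h1' h2'
    rw [show o * (2 * w) = 2 * o * w by ring]
    exact h5

end Cfsg.Agent.H402.CS.NuLight
end

-- part: H402/CS/One
section
prune_inst 0x300000000000000000010000000000000
set_option linter.all false
open scoped Cfsg.Agent.FastGrp

-- part: H969/CS/Perfect
section
/-!
# The perfect prime lemma (paper proof: helper429; helper969, S3677)

`CO G` : the set of the orders of the centralizers of the elements of `G`.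

`perfect` : `r ≠ p` primes, `G` finite with trivial centre. Suppose that every centralizer order `c ≠ |G|` divisible by `r`
is divisible by the full `r`-part of `|G|`, that one of them is prime to `p`, and that for every such `c` divisible by `p`
the `p`-part of `c` is not the `p`-part of `|G|` and either it is maximal among all of them or there is no proper divisor
of `c` among them with the same `p`-part. Then no element of order `r` commutes with an element of order `p`.
-/

set_option autoImplicit false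

namespace Cfsg.Agent.H969.CS

universe u v

/-- the centralizer of an element -/
abbrev Cz {G : Type u} [Group G] (g : G) : Subgroup G := Subgroup.centralizer {g}

/-- the set of the orders of the centralizers -/
def CO (G : Type u) [Group G] : Set ℕ := Set.range fun g : G => Nat.card ↥(Cz g)

section basic

variable {G : Type u} [Group G]

theorem mem_CO (g : G) : Nat.card ↥(Cz g) ∈ CO G := ⟨g, rfl⟩

theorem mem_Cz {g x : G} : x ∈ Cz g ↔ x * g = g * x := Subgroup.mem_centralizer_singleton_iff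

/-- commuting elements of coprime orders are powers of their product -/
theorem cz_mul {y v : G} (h : y * v = v * y) (hco : Nat.Coprime (orderOf y) (orderOf v)) {x : G}
    (hx : x ∈ Cz (y * v)) : x ∈ Cz y ∧ x ∈ Cz v := by
  have hcom : Commute y v := h
  have h1 : ∀ n : ℕ, x * (y * v) ^ n = (y * v) ^ n * x := fun n => ((show Commute x (y * v) from mem_Cz.1 hx).pow_right n)
  constructor
  · obtain ⟨k, hk1, hk2⟩ := Nat.chineseRemainder hco 1 0
    have h2 : (y * v) ^ k = y := by
      rw [hcom.mul_pow, pow_eq_pow_iff_modEq.2 hk1, pow_one, (orderOf_dvd_iff_pow_eq_one.1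
        (Nat.modEq_zero_iff_dvd.1 hk2)), mul_one]
    rw [mem_Cz, ← h2]
    exact h1 k
  · obtain ⟨k, hk1, hk2⟩ := Nat.chineseRemainder hco 0 1
    have h2 : (y * v) ^ k = v := by
      rw [hcom.mul_pow, pow_eq_pow_iff_modEq.2 hk2, pow_one, (orderOf_dvd_iff_pow_eq_one.1
        (Nat.modEq_zero_iff_dvd.1 hk1)), one_mul]
    rw [mem_Cz, ← h2]
    exact h1 k

end basic

variable {G : Type u} [Group G]

end Cfsg.Agent.H969.CS
end

-- part: H402/CS/One
section
/-!
# One perfect prime (helper402, S3677)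

`s` is a prime not adjacent to `p`, all elements of order `s` have centralizers of the same order `m`, and `m` is the only
centralizer order divisible by `s` and dividing `m`.  Then the centralizers of the elements of order `s` are nilpotent, and a
solvable normal `s'`-subgroup is a `p'`-group as soon as `O_p(G) = 1` and `O_l(G) = 1` for all primes `l` dividing `m`.
-/

set_option autoImplicit false

namespace Cfsg.Agent.H402.CS.One

open Subgroup Cfsg Cfsg.Agent.H969.CS Cfsg.Agent.H363.Frat Cfsg.Agent.H363.Master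

universe u

/-- `s` is a perfect prime for `p` -/
structure Perf (G : Type u) [Group G] [Finite G] (s p m : ℕ) : Prop where
  hs : s.Prime
  hp : p.Prime
  hsp : s ≠ p
  sG : s ∣ Nat.card G
  na : NonAdj G s p
  cent : ∀ y : G, orderOf y = s → Nat.card ↥(Cz y) = m
  min : ∀ c ∈ CO G, s ∣ c → c ∣ m → c = m

variable {G : Type u} [Group G] [Finite G] {s p m : ℕ}

theorem dvd_card_of_mem {H : Subgroup G} {x : G} (hx : x ∈ H) : orderOf x ∣ Nat.card ↥H := by
  have h1 : orderOf (⟨x, hx⟩ : H) = orderOf x := Subgroup.orderOf_mk x hx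
  rw [← h1]
  exact orderOf_dvd_natCard _

theorem Perf.exists_y (h : Perf G s p m) : ∃ y : G, orderOf y = s := by
  have := Fact.mk h.hs
  exact exists_prime_orderOf_dvd_card' s h.sG

/-- the elements of order prime to `s` commuting with `y` are central in `C_G(y)` -/
theorem Perf.central (h : Perf G s p m) {y : G} (hy : orderOf y = s) {x : G} (hx : x ∈ Cz y)
    (hco : ¬ s ∣ orderOf x) : Cz y ≤ Cz x := by
  have hcomm : y * x = x * y := (mem_Cz.1 hx).symm
  have hco' : Nat.Coprime (orderOf y) (orderOf x) := by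
    rw [hy]
    exact (Nat.Prime.coprime_iff_not_dvd h.hs).2 hco
  have h1 : Cz (y * x) ≤ Cz y := fun z hz => (cz_mul hcomm hco' hz).1
  have h2 : Cz (y * x) ≤ Cz x := fun z hz => (cz_mul hcomm hco' hz).2
  have h3 : Nat.card ↥(Cz (y * x)) ∣ m := by
    rw [← h.cent y hy]
    exact Subgroup.card_dvd_of_le h1
  have hymem : y ∈ Cz (y * x) := by
    rw [mem_Cz, mul_assoc, ← hcomm]
  have h4 : s ∣ Nat.card ↥(Cz (y * x)) := by
    have := dvd_card_of_mem hymem
    rwa [hy] at this
  have h5 := h.min _ (mem_CO _) h4 h3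
  have h6 : Cz (y * x) = Cz y := Subgroup.eq_of_le_of_card_ge h1 (by rw [h5, h.cent y hy])
  rw [← h6]
  exact h2

/-- **The centralizer of an element of order `s` is nilpotent.** -/
theorem Perf.nilp (h : Perf G s p m) {y : G} (hy : orderOf y = s) : Group.IsNilpotent ↥(Cz y) := by
  have := Fact.mk h.hs
  have hq : IsPGroup s (↥(Cz y) ⧸ center ↥(Cz y)) := by
    intro q
    obtain ⟨x, rfl⟩ := QuotientGroup.mk_surjective q
    obtain ⟨a, b, hb, hab⟩ := Nat.exists_eq_pow_mul_and_not_dvd (orderOf_pos x).ne' s h.hs.ne_one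
    refine ⟨a, ?_⟩
    rw [← QuotientGroup.mk_pow, QuotientGroup.eq_one_iff, mem_center_iff]
    have h1 : orderOf (x ^ s ^ a) = b := by
      rw [orderOf_pow_of_dvd (pow_ne_zero _ h.hs.ne_zero) (hab ▸ dvd_mul_right _ _), hab]
      exact Nat.mul_div_cancel_left _ (pow_pos h.hs.pos _)
    have h2 : ¬ s ∣ orderOf ((x ^ s ^ a : ↥(Cz y)) : G) := by
      rwa [Subgroup.orderOf_coe, h1]
    intro g
    have h3 := h.central hy (x ^ s ^ a).2 h2 g.2
    exact Subtype.ext (mem_Cz.1 h3)
  have h1 : Group.IsNilpotent (↥(Cz y) ⧸ center ↥(Cz y)) := hq.isNilpotent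
  exact Group.of_quotient_center_nilpotent h1

/-- a group of order prime to `m` normalized by an element of order `s` is nilpotent -/
theorem Perf.nilpotent_of (h : Perf G s p m) {y : G} (hy : orderOf y = s) (A : Subgroup G)
    (hA : y ∈ normalizer (A : Set G)) (hm : (Nat.card ↥A).Coprime m) : Group.IsNilpotent ↥A := by
  have hfix : ∀ a ∈ A, y * a * y⁻¹ = a → a = 1 := by
    intro a ha h1
    have h2 : a ∈ Cz y := by
      rw [mem_Cz]
      calc a * y = y * a * y⁻¹ * y := by rw [h1]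
        _ = y * a := by group
    have h3 : orderOf a ∣ m := by
      rw [← h.cent y hy]
      exact dvd_card_of_mem h2
    have h4 := Nat.eq_one_of_dvd_coprimes hm (dvd_card_of_mem ha) h3
    exact orderOf_eq_one_iff.1 h4
  let φ : ↥A ≃* ↥A := MulAut.conjNormal (H := A.subgroupOf (normalizer (A : Set G))) ⟨y, hA⟩ |> fun e =>
    ((Subgroup.subgroupOfEquivOfLe (le_normalizer (H := A))).symm.trans e).trans
      (Subgroup.subgroupOfEquivOfLe (le_normalizer (H := A)))
  have hφ : ∀ a : ↥A, (φ a : G) = y * a * y⁻¹ := fun a => rfl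
  have hφn : ∀ (n : ℕ) (a : ↥A), ((φ ^ n) a : G) = y ^ n * a * (y ^ n)⁻¹ := by
    intro n
    induction n with
    | zero => intro a; simp
    | succ n ih =>
      intro a
      have h1 : (φ ^ (n + 1)) a = φ ((φ ^ n) a) := by rw [pow_succ']; rfl
      rw [h1, hφ, ih, pow_succ']
      group
  have hfpf : MonoidHom.FixedPointFree (φ : ↥A →* ↥A) := by
    intro a ha
    have h1 : (φ a : G) = a := congrArg Subtype.val ha
    rw [hφ] at h1
    exact Subtype.ext (hfix a a.2 h1)
  by_cases h1 : φ = 1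
  · have h2 : ∀ a : ↥A, a = 1 := fun a => hfpf a (by rw [h1]; rfl)
    have : Subsingleton ↥A := ⟨fun a b => (h2 a).trans (h2 b).symm⟩
    infer_instance
  · have h2 : φ ^ s = 1 := by
      ext a
      rw [hφn, ← hy, pow_orderOf_eq_one]
      simp
    have h3 : orderOf φ = s := orderOf_eq_prime (hp := ⟨h.hs⟩) h2 h1
    exact Cfsg.Agent.S0033.result φ hfpf s h.hs h3

end Cfsg.Agent.H402.CS.One
end
end

-- part: H402/CS/PslSize_mg
section
prune_inst 0x10604100168000080018059241001e12e8000420004b000040200b0606002c222923ae200d8005021a0a000000000008110000a0004000000400040000010521888014045181a00ce60001000100000000000000000000000000000000010004000000000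
set_option linter.all false
open scoped Cfsg.Agent.FastGrp

-- part: H402/CS/Quot
section
/-!
# Centralizers in central quotients (helper402, S3677)
-/

set_option autoImplicit false

namespace Cfsg.Agent.H402.CS.Quot

open Subgroup

universe u

variable {G : Type u} [Group G] [Finite G]

/-- the preimage of the centralizer of `x Z(G)` -/
def pre (x : G) : Subgroup G where
  carrier := {g | g * x * g⁻¹ * x⁻¹ ∈ center G}
  one_mem' := by simp only [one_mem, _root_.Set.mem_ofPred_eq, _root_.one_mul, _root_.inv_one, _root_.mul_one, _root_.mul_inv_cancel]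
  mul_mem' := by
    intro a b ha hb
    have ha' : a * x * a⁻¹ * x⁻¹ ∈ center G := ha
    have hb' : b * x * b⁻¹ * x⁻¹ ∈ center G := hb
    show a * b * x * (a * b)⁻¹ * x⁻¹ ∈ center G
    have h1 := mem_center_iff.1 hb'
    have e : a * b * x * (a * b)⁻¹ * x⁻¹ = (a * (b * x * b⁻¹ * x⁻¹)) * (x * a⁻¹ * x⁻¹) := by group
    rw [e, h1 a]
    have e2 : b * x * b⁻¹ * x⁻¹ * a * (x * a⁻¹ * x⁻¹) = (b * x * b⁻¹ * x⁻¹) * (a * x * a⁻¹ * x⁻¹) := by group
    rw [e2]
    exact mul_mem hb' ha'
  inv_mem' := by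
    intro a ha
    have ha' : a * x * a⁻¹ * x⁻¹ ∈ center G := ha
    show a⁻¹ * x * a⁻¹⁻¹ * x⁻¹ ∈ center G
    have h1 := mem_center_iff.1 (inv_mem ha')
    have e : a⁻¹ * x * a⁻¹⁻¹ * x⁻¹ = a⁻¹ * (a * x * a⁻¹ * x⁻¹)⁻¹ * a := by
      group
    rw [e, h1 a⁻¹, mul_assoc, inv_mul_cancel, mul_one]
    exact inv_mem ha'

theorem mem_pre {x g : G} : g ∈ pre x ↔ g * x * g⁻¹ * x⁻¹ ∈ center G := Iff.rfl

theorem comap_eq (x : G) : (centralizer {(x : G ⧸ center G)}).comap (QuotientGroup.mk' (center G)) = pre x := by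
  ext g
  rw [Subgroup.mem_comap, mem_centralizer_singleton_iff, mem_pre, QuotientGroup.mk'_apply,
    ← QuotientGroup.mk_mul, ← QuotientGroup.mk_mul, eq_comm, QuotientGroup.eq]
  constructor
  · intro h
    have e : g * x * g⁻¹ * x⁻¹ = (x * g) * ((x * g)⁻¹ * (g * x)) * (x * g)⁻¹ := by group
    rw [e]
    exact (inferInstance : (center G).Normal).conj_mem _ h _
  · intro h
    have e : (x * g)⁻¹ * (g * x) = (x * g)⁻¹ * (g * x * g⁻¹ * x⁻¹) * ((x * g)⁻¹)⁻¹ := by group
    rw [e]
    exact (inferInstance : (center G).Normal).conj_mem _ h _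

/-- the commutator with `x` -/
def comm (x : G) : ↥(pre x) →* ↥(center G) where
  toFun g := ⟨g * x * (g : G)⁻¹ * x⁻¹, g.2⟩
  map_one' := by apply Subtype.ext; simp only [_root_.OneMemClass.coe_one, _root_.one_mul, _root_.inv_one, _root_.mul_one, _root_.mul_inv_cancel]
  map_mul' a b := by
    apply Subtype.ext
    show (a : G) * b * x * ((a : G) * b)⁻¹ * x⁻¹ = (a * x * (a : G)⁻¹ * x⁻¹) * (b * x * (b : G)⁻¹ * x⁻¹)
    have h1 := mem_center_iff.1 b.2
    have e : (a : G) * b * x * ((a : G) * b)⁻¹ * x⁻¹ = ((a : G) * (b * x * (b : G)⁻¹ * x⁻¹)) * (x * (a : G)⁻¹ * x⁻¹) := by group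
    rw [e, h1 a]
    have e2 : (b : G) * x * (b : G)⁻¹ * x⁻¹ * a * (x * (a : G)⁻¹ * x⁻¹) =
        (b * x * (b : G)⁻¹ * x⁻¹) * (a * x * (a : G)⁻¹ * x⁻¹) := by group
    rw [e2]
    exact (mem_center_iff.1 b.2 _).symm

theorem ker_comm (x : G) : (comm x).ker = (centralizer {x}).subgroupOf (pre x) := by
  ext g
  rw [MonoidHom.mem_ker, Subgroup.mem_subgroupOf, mem_centralizer_singleton_iff]
  constructor
  · intro h
    have h1 : (g : G) * x * (g : G)⁻¹ * x⁻¹ = 1 := congrArg Subtype.val h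
    calc (g : G) * x = (g * x * (g : G)⁻¹ * x⁻¹) * (x * g) := by group
      _ = x * g := by rw [h1, one_mul]
  · intro h
    apply Subtype.ext
    show (g : G) * x * (g : G)⁻¹ * x⁻¹ = 1
    rw [h]; group

/-- **The centralizer order in the central quotient divides the centralizer order.** -/
theorem card_cent_dvd (x : G) :
    Nat.card ↥(centralizer {(x : G ⧸ center G)}) ∣ Nat.card ↥(centralizer {x}) := by
  have h1 : Nat.card ↥(pre x) = Nat.card ↥(center G) * Nat.card ↥(centralizer {(x : G ⧸ center G)}) := by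
    have h2 := Subgroup.card_mul_index (pre x)
    have h3 := Subgroup.card_mul_index (centralizer {(x : G ⧸ center G)})
    have h4 := Subgroup.card_mul_index (center G)
    rw [← comap_eq, Subgroup.index_comap_of_surjective _ (QuotientGroup.mk'_surjective _)] at h2
    rw [Subgroup.index_eq_card (center G), ← h3] at h4
    have h5 : (centralizer {(x : G ⧸ center G)}).index ≠ 0 := Subgroup.index_ne_zero_of_finite
    rw [comap_eq] at h2
    apply Nat.eq_of_mul_eq_mul_right (Nat.pos_of_ne_zero h5)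
    rw [h2, ← h4]; ring
  have hle : centralizer {x} ≤ pre x := by
    intro g hg
    rw [mem_centralizer_singleton_iff] at hg
    rw [mem_pre, hg]
    have e : x * g * g⁻¹ * x⁻¹ = 1 := by group
    rw [e]; exact one_mem _
  have h2 : Nat.card ↥(centralizer {x}) * Nat.card ↥(comm x).range = Nat.card ↥(pre x) := by
    have h3 := Subgroup.card_mul_index (comm x).ker
    rw [Subgroup.index_ker, ker_comm, Nat.card_congr (Subgroup.subgroupOfEquivOfLe hle).toEquiv] at h3
    exact h3
  obtain ⟨k, hk⟩ := Subgroup.card_subgroup_dvd_card (comm x).range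
  refine ⟨k, ?_⟩
  have h5 : 0 < Nat.card ↥(comm x).range := Nat.card_pos
  apply Nat.eq_of_mul_eq_mul_right h5
  rw [h2, h1, hk]; ring

end Cfsg.Agent.H402.CS.Quot
end

-- part: H402/CS/Commutant
section
/-!
# The commutant of a non-scalar endomorphism (helper402, S3677)

`finrank (commutant x) ≤ (n - 1)^2 + 1` for `x` not a scalar.
-/

set_option autoImplicit false

namespace Cfsg.Agent.H402.CS.Commutant

open Module

universe u v

variable {F : Type u} {V : Type v} [Field F] [AddCommGroup V] [Module F V] [FiniteDimensional F V]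

/-- the endomorphisms commuting with `x` and killing `W` -/
def kc (x : Module.End F V) (W : Submodule F V) : Submodule F (Module.End F V) where
  carrier := {c | c * x = x * c ∧ ∀ w ∈ W, c w = 0}
  add_mem' := by
    rintro a b ⟨h1, h2⟩ ⟨h3, h4⟩
    refine ⟨by rw [add_mul, mul_add, h1, h3], fun w hw => ?_⟩
    rw [LinearMap.add_apply, h2 w hw, h4 w hw, add_zero]
  zero_mem' := ⟨by rw [zero_mul, mul_zero], fun w _ => rfl⟩
  smul_mem' := by
    rintro r a ⟨h1, h2⟩
    refine ⟨by rw [smul_mul_assoc, mul_smul_comm, h1], fun w hw => ?_⟩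
    rw [LinearMap.smul_apply, h2 w hw, smul_zero]

/-- evaluation at `v` -/
def ev (x : Module.End F V) (W : Submodule F V) (v : V) : ↥(kc x W) →ₗ[F] V where
  toFun c := (c : Module.End F V) v
  map_add' _ _ := rfl
  map_smul' _ _ := rfl

theorem finrank_le_range (x : Module.End F V) (W W' : Submodule F V) (hW : W ≤ W') (v : V)
    (h : ∀ c ∈ kc x W, c v = 0 → c ∈ kc x W') :
    finrank F ↥(kc x W) ≤ finrank F ↥(LinearMap.range (ev x W v)) + finrank F ↥(kc x W') := by
  have h1 := LinearMap.finrank_range_add_finrank_ker (ev x W v)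
  have h2 : finrank F ↥(LinearMap.ker (ev x W v)) ≤ finrank F ↥(kc x W') := by
    let f : ↥(LinearMap.ker (ev x W v)) →ₗ[F] ↥(kc x W') :=
      { toFun := fun c => ⟨(c : ↥(kc x W)), h _ c.1.2 (LinearMap.mem_ker.1 c.2)⟩
        map_add' := fun _ _ => rfl
        map_smul' := fun _ _ => rfl }
    apply LinearMap.finrank_le_finrank_of_injective (f := f)
    intro a b hab
    apply Subtype.ext
    apply Subtype.ext
    have h3 : ((f a : ↥(kc x W')) : Module.End F V) = f b := by rw [hab]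
    exact h3
  omega

theorem exists_notMem {W : Submodule F V} (h : W ≠ ⊤) : ∃ v, v ∉ W := by
  by_contra hcon
  push Not at hcon
  exact h (eq_top_iff.2 fun v _ => hcon v)

/-- the smallest invariant subspace containing `W` and `v` -/
def clo (x : Module.End F V) (W : Submodule F V) (v : V) : Submodule F V :=
  W ⊔ Submodule.span F (Set.range fun i : ℕ => (x ^ i) v)

theorem clo_le (x : Module.End F V) (W : Submodule F V) (v : V) : W ≤ clo x W v := le_sup_left

theorem pow_mem_clo (x : Module.End F V) (W : Submodule F V) (v : V) (i : ℕ) : (x ^ i) v ∈ clo x W v :=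
  (le_sup_right : _ ≤ clo x W v) (Submodule.subset_span ⟨i, rfl⟩)

theorem mem_clo (x : Module.End F V) (W : Submodule F V) (v : V) : v ∈ clo x W v := by
  have := pow_mem_clo x W v 0
  rwa [pow_zero, Module.End.one_apply] at this

theorem clo_inv (x : Module.End F V) (W : Submodule F V) (v : V) (hW : ∀ w ∈ W, x w ∈ W) :
    ∀ w ∈ clo x W v, x w ∈ clo x W v := by
  intro w hw
  obtain ⟨a, ha, b, hb, rfl⟩ := Submodule.mem_sup.1 hw
  rw [map_add]
  refine add_mem (clo_le x W v (hW a ha)) ?_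
  induction hb using Submodule.span_induction with
  | mem z hz =>
    obtain ⟨i, rfl⟩ := hz
    show x ((x ^ i) v) ∈ _
    rw [← Module.End.mul_apply, ← pow_succ']
    exact pow_mem_clo x W v (i + 1)
  | zero => rw [map_zero]; exact zero_mem _
  | add y z _ _ h1 h2 =>
    rw [map_add]
    exact add_mem (h1 (add_mem (clo_le x W v ha) (Submodule.mem_sup_right ‹_›)))
      (h2 (add_mem (clo_le x W v ha) (Submodule.mem_sup_right ‹_›)))
  | smul r y _ h1 =>
    rw [map_smul]
    exact Submodule.smul_mem _ _ (h1 (add_mem (clo_le x W v ha) (Submodule.mem_sup_right ‹_›)))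

theorem kc_clo (x : Module.End F V) (W : Submodule F V) (v : V) {c : Module.End F V} (hc : c ∈ kc x W)
    (hv : c v = 0) : c ∈ kc x (clo x W v) := by
  refine ⟨hc.1, ?_⟩
  intro w hw
  obtain ⟨a, ha, b, hb, rfl⟩ := Submodule.mem_sup.1 hw
  rw [map_add, hc.2 a ha, zero_add]
  have hcx : ∀ i : ℕ, c ((x ^ i) v) = 0 := by
    intro i
    have h1 : c * x ^ i = x ^ i * c := (show Commute c x from hc.1).pow_right i
    rw [← Module.End.mul_apply, h1, Module.End.mul_apply, hv, map_zero]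
  induction hb using Submodule.span_induction with
  | mem z hz =>
    obtain ⟨i, rfl⟩ := hz
    exact hcx i
  | zero => rw [map_zero]
  | add y z _ _ h1 h2 =>
    rw [map_add, h1 (add_mem (clo_le x W v ha) (Submodule.mem_sup_right ‹_›)),
      h2 (add_mem (clo_le x W v ha) (Submodule.mem_sup_right ‹_›)), add_zero]
  | smul r y _ h1 =>
    rw [map_smul, h1 (add_mem (clo_le x W v ha) (Submodule.mem_sup_right ‹_›)), smul_zero]

/-- the commutant modulo an invariant subspace -/
theorem finrank_kc_le {x : Module.End F V} (hx : ∀ c : F, ∃ v, x v ≠ c • v) (hn : 2 ≤ finrank F V) :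
    ∀ (k : ℕ) (W : Submodule F V), (∀ w ∈ W, x w ∈ W) → finrank F V - finrank F ↥W = k →
      finrank F ↥(kc x W) ≤ (finrank F V - 1) * k := by
  intro k
  induction k using Nat.strong_induction_on with
  | _ k ih =>
  intro W hW hk
  have hWle := Submodule.finrank_le W
  rcases Nat.eq_zero_or_pos k with rfl | hk0
  · have hWt : W = ⊤ := Submodule.eq_top_of_finrank_eq (by omega)
    have h1 : kc x W = ⊥ := by
      rw [eq_bot_iff]
      intro c hc
      rw [Submodule.mem_bot]
      ext v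
      exact hc.2 v (hWt ▸ Submodule.mem_top)
    rw [h1, finrank_bot]; omega
  have hWt : W ≠ ⊤ := by
    rintro rfl
    rw [finrank_top] at hk
    omega
  obtain ⟨v, hv⟩ := exists_notMem hWt
  have hlt : finrank F ↥W < finrank F ↥(clo x W v) := by
    apply Submodule.finrank_lt_finrank_of_lt
    refine lt_of_le_of_ne (clo_le x W v) ?_
    intro h
    exact hv (h ▸ mem_clo x W v)
  have hcle := Submodule.finrank_le (clo x W v)
  have h1 := finrank_le_range x W (clo x W v) (clo_le x W v) v (fun c hc hcv => kc_clo x W v hc hcv)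
  have h2 := ih (finrank F V - finrank F ↥(clo x W v)) (by omega) (clo x W v) (clo_inv x W v hW) rfl
  set n := finrank F V with hn'
  by_cases h3 : finrank F ↥(clo x W v) = finrank F ↥W + 1
  · -- `x v = c v + w`
    have h4 : x v ∈ W ⊔ Submodule.span F {v} := by
      have h5 : W ⊔ Submodule.span F {v} = clo x W v := by
        apply Submodule.eq_of_le_of_finrank_le
        · refine sup_le (clo_le x W v) ?_
          rw [Submodule.span_singleton_le_iff_mem]
          exact mem_clo x W v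
        · rw [h3]
          have h6 : finrank F ↥W < finrank F ↥(W ⊔ Submodule.span F {v}) := by
            apply Submodule.finrank_lt_finrank_of_lt
            refine lt_of_le_of_ne le_sup_left ?_
            intro h
            apply hv
            rw [h]
            exact Submodule.mem_sup_right (Submodule.mem_span_singleton_self v)
          omega
      rw [h5]
      exact clo_inv x W v hW v (mem_clo x W v)
    obtain ⟨w, hw, u, hu, hwu⟩ := Submodule.mem_sup.1 h4
    obtain ⟨c0, rfl⟩ := Submodule.mem_span_singleton.1 hu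
    have h7 : LinearMap.range (ev x W v) ≤ LinearMap.ker (x - algebraMap F (Module.End F V) c0) := by
      rintro _ ⟨c, rfl⟩
      rw [LinearMap.mem_ker, LinearMap.sub_apply, Module.algebraMap_end_apply, sub_eq_zero]
      show x ((c : Module.End F V) v) = c0 • (c : Module.End F V) v
      rw [← Module.End.mul_apply, ← c.2.1, Module.End.mul_apply, ← hwu, map_add, c.2.2 w hw, zero_add, map_smul]
    have h8 : finrank F ↥(LinearMap.ker (x - algebraMap F (Module.End F V) c0)) < n := by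
      apply Submodule.finrank_lt
      intro h
      obtain ⟨v', hv'⟩ := hx c0
      apply hv'
      have h9 : v' ∈ LinearMap.ker (x - algebraMap F (Module.End F V) c0) := h ▸ Submodule.mem_top
      rw [LinearMap.mem_ker, LinearMap.sub_apply, Module.algebraMap_end_apply, sub_eq_zero] at h9
      exact h9
    have h9 := Submodule.finrank_mono h7
    have h10 : n - finrank F ↥(clo x W v) = k - 1 := by omega
    rw [h10] at h2
    obtain ⟨k', rfl⟩ : ∃ k', k = k' + 1 := ⟨k - 1, by omega⟩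
    rw [Nat.add_sub_cancel] at h2
    calc finrank F ↥(kc x W) ≤ (n - 1) + (n - 1) * k' := by omega
      _ = (n - 1) * (k' + 1) := by ring
  · have h4 : finrank F ↥(LinearMap.range (ev x W v)) ≤ n := Submodule.finrank_le _
    have h5 : n - finrank F ↥(clo x W v) ≤ k - 2 := by (clear * - hlt hk h3; omega)
    have h6 : 2 ≤ k := by omega
    obtain ⟨k', rfl⟩ : ∃ k', k = k' + 2 := ⟨k - 2, by omega⟩
    rw [Nat.add_sub_cancel] at h5
    have h7 : (n - 1) * (n - finrank F ↥(clo x W v)) ≤ (n - 1) * k' := Nat.mul_le_mul_left _ h5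
    calc finrank F ↥(kc x W) ≤ n + (n - 1) * k' := by omega
      _ ≤ 2 * (n - 1) + (n - 1) * k' := by omega
      _ = (n - 1) * (k' + 2) := by ring

/-- **The commutant bound.** -/
theorem finrank_commutant_le {x : Module.End F V} (hx : ∀ c : F, ∃ v, x v ≠ c • v) (hn : 2 ≤ finrank F V) :
    finrank F ↥(kc x ⊥) ≤ (finrank F V - 1) ^ 2 + 1 := by
  -- a vector which is not an eigenvector
  obtain ⟨v, hv⟩ : ∃ v, LinearIndependent F ![v, x v] := by
    by_contra hcon
    push Not at hcon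
    obtain ⟨c, hc⟩ := LinearMap.exists_eq_smul_id_of_forall_notLinearIndependent (f := x) hcon
    obtain ⟨v, hv⟩ := hx c
    exact hv (by rw [hc]; rfl)
  set W := clo x ⊥ v with hW
  have h2 : 2 ≤ finrank F ↥W := by
    have h3 : Submodule.span F (Set.range ![v, x v]) ≤ W := by
      rw [Submodule.span_le]
      rintro _ ⟨i, rfl⟩
      fin_cases i
      · exact mem_clo x ⊥ v
      · exact clo_inv x ⊥ v (by intro w hw; rw [(Submodule.mem_bot F).1 hw, map_zero]; exact zero_mem _) v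
          (mem_clo x ⊥ v)
    have h4 := Submodule.finrank_mono h3
    rw [finrank_span_eq_card hv, Fintype.card_fin] at h4
    exact h4
  have h1 := finrank_le_range x ⊥ W (clo_le x ⊥ v) v (fun c hc hcv => kc_clo x ⊥ v hc hcv)
  have h3 := finrank_kc_le hx hn (finrank F V - finrank F ↥W) W
    (clo_inv x ⊥ v (by intro w hw; rw [(Submodule.mem_bot F).1 hw, map_zero]; exact zero_mem _)) rfl
  have h4 : finrank F ↥(LinearMap.range (ev x ⊥ v)) ≤ finrank F V := Submodule.finrank_le _
  obtain ⟨n', hn'⟩ : ∃ n', finrank F V = n' + 2 := ⟨finrank F V - 2, by omega⟩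
  have h5 : (finrank F V - 1) * (finrank F V - finrank F ↥W) ≤ (finrank F V - 1) * n' :=
    Nat.mul_le_mul_left _ (by omega)
  have h6 : finrank F V - 1 = n' + 1 := by omega
  rw [h6] at h3 h5 ⊢
  calc finrank F ↥(kc x ⊥) ≤ (n' + 2) + (n' + 1) * n' := by omega
    _ ≤ (n' + 1) ^ 2 + 1 := by linarith only []

/-- **The commutant bound**, cardinalities. -/
theorem card_commutant_le [Finite F] {x : Module.End F V} (hx : ∀ c : F, ∃ v, x v ≠ c • v) (hn : 2 ≤ finrank F V) :
    Nat.card {c : Module.End F V // c * x = x * c} ≤ Nat.card F ^ ((finrank F V - 1) ^ 2 + 1) := by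
  have h1 : Nat.card {c : Module.End F V // c * x = x * c} = Nat.card ↥(kc x ⊥) := by
    refine Nat.card_congr (Equiv.subtypeEquivRight fun c => ?_)
    constructor
    · intro h
      refine ⟨h, fun w hw => ?_⟩
      rw [(Submodule.mem_bot F).1 hw, map_zero]
    · exact fun h => h.1
  rw [h1, Module.natCard_eq_pow_finrank (K := F) (V := ↥(kc x ⊥))]
  exact Nat.pow_le_pow_right Nat.card_pos (finrank_commutant_le hx hn)

end Cfsg.Agent.H402.CS.Commutant
end

-- part: H402/CS/FieldComm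
section
/-!
# The commutant of an element of a field of endomorphisms (helper402, S3677)
-/

set_option autoImplicit false

namespace Cfsg.Agent.H402.CS.FieldComm

open Module

universe u v w

variable {F : Type u} {V : Type v} [Field F] [AddCommGroup V] [Module F V] [FiniteDimensional F V]
  {K : Type w} [Field K] [Finite K] [Algebra F K]

/-- what commutes with `f k` commutes with `f` of the field generated by `k` -/
theorem comm_of_mem (f : K →ₐ[F] Module.End F V) (k : K) {c : Module.End F V} (hc : c * f k = f k * c)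
    {e : K} (he : e ∈ IntermediateField.adjoin F {k}) : c * f e = f e * c := by
  have : Finite F := Finite.of_injective _ (algebraMap F K).injective
  have hint : IsIntegral F k := Algebra.IsIntegral.isIntegral k
  have h1 : e ∈ Algebra.adjoin F {k} := by
    rw [← IntermediateField.adjoin_simple_toSubalgebra_of_isAlgebraic hint.isAlgebraic]
    exact he
  induction h1 using Algebra.adjoin_induction with
  | mem x hx => rw [Set.mem_singleton_iff.1 hx]; exact hc
  | algebraMap r => rw [AlgHom.commutes]; exact (Algebra.commutes r c).symm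
  | add x y _ _ hx hy =>
    have hx' : c * f x = f x * c := hx (by
      have : x ∈ (IntermediateField.adjoin F {k}).toSubalgebra := by
        rw [IntermediateField.adjoin_simple_toSubalgebra_of_isAlgebraic hint.isAlgebraic]; assumption
      exact this)
    have hy' : c * f y = f y * c := hy (by
      have : y ∈ (IntermediateField.adjoin F {k}).toSubalgebra := by
        rw [IntermediateField.adjoin_simple_toSubalgebra_of_isAlgebraic hint.isAlgebraic]; assumption
      exact this)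
    rw [map_add, mul_add, add_mul, hx', hy']
  | mul x y _ _ hx hy =>
    have hx' : c * f x = f x * c := hx (by
      have : x ∈ (IntermediateField.adjoin F {k}).toSubalgebra := by
        rw [IntermediateField.adjoin_simple_toSubalgebra_of_isAlgebraic hint.isAlgebraic]; assumption
      exact this)
    have hy' : c * f y = f y * c := hy (by
      have : y ∈ (IntermediateField.adjoin F {k}).toSubalgebra := by
        rw [IntermediateField.adjoin_simple_toSubalgebra_of_isAlgebraic hint.isAlgebraic]; assumption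
      exact this)
    rw [map_mul, ← mul_assoc, hx', mul_assoc, hy', mul_assoc]

/-- **The size of the commutant of an element of a field of endomorphisms.** -/
theorem card_le (f : K →ₐ[F] Module.End F V) (k : K) (hk : ∀ a : F, algebraMap F K a ≠ k) :
    ∃ m, 2 * m ≤ finrank F V ∧
      Nat.card {c : Module.End F V // c * f k = f k * c} ≤ Nat.card F ^ (finrank F V * m) := by
  have hF : Finite F := Finite.of_injective _ (algebraMap F K).injective
  have hV : Finite V := Module.finite_of_finite F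
  let E := IntermediateField.adjoin F {k}
  let g : ↥E →+* Module.End F V := (f.comp E.val).toRingHom
  let instE : Module ↥E V := Module.compHom V g
  have hsmul : ∀ (e : ↥E) (v : V), e • v = (f (e : K)) v := fun e v => rfl
  have htower : IsScalarTower F ↥E V := ⟨fun a e v => by
    rw [hsmul, hsmul]
    have : ((a • e : ↥E) : K) = a • (e : K) := rfl
    rw [this, map_smul, LinearMap.smul_apply]⟩
  have hE : Finite ↥E := inferInstance
  have hfinE : Module.Finite ↥E V := inferInstance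
  have h1 : finrank F ↥E * finrank ↥E V = finrank F V := Module.finrank_mul_finrank F ↥E V
  have h2 : 2 ≤ finrank F ↥E := by
    by_contra hcon
    have h3 : 0 < finrank F ↥E := Module.finrank_pos
    have h4 : finrank F ↥E = 1 := by omega
    have h5 : E = ⊥ := IntermediateField.finrank_eq_one_iff.1 h4
    have h6 : k ∈ E := IntermediateField.mem_adjoin_simple_self F k
    rw [h5, IntermediateField.mem_bot] at h6
    obtain ⟨a, ha⟩ := h6
    exact hk a ha
  refine ⟨finrank ↥E V, by rw [← h1]; exact Nat.mul_le_mul_right _ h2, ?_⟩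
  -- the injection
  let j : {c : Module.End F V // c * f k = f k * c} → (V →ₗ[↥E] V) := fun c =>
    { toFun := fun v => (c : Module.End F V) v
      map_add' := fun v w => map_add _ v w
      map_smul' := fun e v => by
        rw [hsmul, ← Module.End.mul_apply, comm_of_mem f k c.2 e.2, Module.End.mul_apply]
        rfl }
  have hj : Function.Injective j := by
    intro a b hab
    apply Subtype.ext
    apply LinearMap.ext
    intro v
    exact congrArg (fun l : V →ₗ[↥E] V => l v) hab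
  have hfin : Finite (V →ₗ[↥E] V) := Module.finite_of_finite ↥E
  refine (Nat.card_le_card_of_injective j hj).trans (le_of_eq ?_)
  rw [Module.natCard_eq_pow_finrank (K := ↥E) (V := V →ₗ[↥E] V), Module.finrank_linearMap, pow_mul,
    ← Module.natCard_eq_pow_finrank (K := ↥E) (V := V), Module.natCard_eq_pow_finrank (K := F) (V := V), ← pow_mul]

end Cfsg.Agent.H402.CS.FieldComm
end

-- part: H402/CS/PslSize
section
/-!
# Upper bounds for the centralizer orders of `PSL_n(q)` (helper402, S3677)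
-/

set_option autoImplicit false

namespace Cfsg.Agent.H402.CS.PslSize

open Matrix Module Cfsg.Agent.H363.PslSpec

universe u

variable {F : Type u} [Field F] [Finite F] {n : ℕ}

theorem act_ne_scalar {X : _root_.Matrix.SpecialLinearGroup (Fin n) F} (hX : X ∉ Subgroup.center (_root_.Matrix.SpecialLinearGroup (Fin n) F))
    (c : F) : act X ≠ algebraMap F (Module.End F (Fin n → F)) c := by
  intro h
  apply hX
  rw [Matrix.SpecialLinearGroup.mem_center_iff]
  have h1 : (X : Matrix (Fin n) (Fin n) F) = scalar (Fin n) c := by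
    apply (toLinAlgEquiv' : Matrix (Fin n) (Fin n) F ≃ₐ[F] _).injective
    rw [← act_apply, h]
    have : (scalar (Fin n)) c = algebraMap F (Matrix (Fin n) (Fin n) F) c := rfl
    rw [this, AlgEquiv.commutes]
  refine ⟨c, ?_, h1.symm⟩
  have h2 := X.2
  rw [h1] at h2
  simpa only [_root_.Fintype.card_fin, _root_.Matrix.scalar_apply, _root_.Matrix.det_diagonal, _root_.Finset.prod_const, _root_.Finset.card_univ] using h2

/-- the centralizer order in `PSL_n` is at most the order of the commutant -/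
theorem card_cent_le_commutant (X : _root_.Matrix.SpecialLinearGroup (Fin n) F) :
    Nat.card ↥(Subgroup.centralizer {(X : _root_.Matrix.SpecialLinearGroup (Fin n) F ⧸ Subgroup.center (_root_.Matrix.SpecialLinearGroup (Fin n) F))}) ≤
      Nat.card {c : Module.End F (Fin n → F) // c * act X = act X * c} := by
  have : Finite (Module.End F (Fin n → F)) := Module.finite_of_finite F
  refine (Nat.le_of_dvd Nat.card_pos (Quot.card_cent_dvd X)).trans ?_
  rw [show Nat.card ↥(Subgroup.centralizer {X}) = _ from Cfsg.Agent.H277.CS.card_cent_sl X]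
  exact Nat.card_le_card_of_injective
    (fun b : {b : Module.End F (Fin n → F) // LinearMap.det b = 1 ∧ Commute b (act X)} =>
      (⟨b.1, b.2.2⟩ : {c : Module.End F (Fin n → F) // c * act X = act X * c}))
    (fun a b hab => Subtype.ext (congrArg
      (fun z : {c : Module.End F (Fin n → F) // c * act X = act X * c} => (z : Module.End F (Fin n → F))) hab))

/-- **All centralizer orders.** -/
theorem card_cent_le (hn : 2 ≤ n) {x : ProjectiveSpecialLinearGroup (Fin n) F} (hx : x ≠ 1) :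
    Nat.card ↥(Subgroup.centralizer ({x} : Set (ProjectiveSpecialLinearGroup (Fin n) F))) ≤
      Nat.card F ^ ((n - 1) ^ 2 + 1) := by
  obtain ⟨X, rfl⟩ := QuotientGroup.mk_surjective x
  have hX : X ∉ Subgroup.center (_root_.Matrix.SpecialLinearGroup (Fin n) F) := fun h => hx ((QuotientGroup.eq_one_iff X).2 h)
  refine (card_cent_le_commutant X).trans ?_
  have h1 := Commutant.card_commutant_le (F := F) (V := Fin n → F) (x := act X) (by
    intro c
    by_contra hcon
    push Not at hcon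
    exact act_ne_scalar hX c (LinearMap.ext hcon)) (by rw [finrank_fin_fun]; exact hn)
  rwa [finrank_fin_fun] at h1

/-- **The centralizer orders divisible by a primitive prime divisor of `q ^ n - 1`.** -/
theorem card_cent_le_top {r : ℕ} (hr : r.Prime) (hrn : r ∣ Nat.card F ^ n - 1)
    (hrd : ∀ d, 0 < d → d < n → ¬ r ∣ Nat.card F ^ d - 1) {x : ProjectiveSpecialLinearGroup (Fin n) F} (hx : x ≠ 1)
    (hrx : r ∣ Nat.card ↥(Subgroup.centralizer ({x} : Set (ProjectiveSpecialLinearGroup (Fin n) F)))) :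
    Nat.card ↥(Subgroup.centralizer ({x} : Set (ProjectiveSpecialLinearGroup (Fin n) F))) ≤
      Nat.card F ^ (n * (n / 2)) := by
  obtain ⟨X, rfl⟩ := QuotientGroup.mk_surjective x
  have hX : X ∉ Subgroup.center (_root_.Matrix.SpecialLinearGroup (Fin n) F) := fun h => hx ((QuotientGroup.eq_one_iff X).2 h)
  refine (card_cent_le_commutant X).trans ?_
  have := Fact.mk hr
  obtain ⟨Y, hY⟩ := exists_prime_orderOf_dvd_card' r (hrx.trans (Quot.card_cent_dvd X))
  have hYr : (act (Y : _root_.Matrix.SpecialLinearGroup (Fin n) F)) ^ r = 1 := by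
    rw [← map_pow]
    have h1 : ((Y : _root_.Matrix.SpecialLinearGroup (Fin n) F)) ^ r = 1 := by
      rw [← Subgroup.coe_pow, ← hY, pow_orderOf_eq_one, Subgroup.coe_one]
    rw [h1, map_one]
  have hY1 : act (Y : _root_.Matrix.SpecialLinearGroup (Fin n) F) ≠ 1 := by
    intro h
    have h1 : (Y : _root_.Matrix.SpecialLinearGroup (Fin n) F) = 1 := act_injective (by rw [h, map_one])
    have h2 : Y = 1 := Subtype.ext h1
    rw [h2, orderOf_one] at hY
    exact hr.one_lt.ne hY
  have hXY : Commute (act X) (act (Y : _root_.Matrix.SpecialLinearGroup (Fin n) F)) := by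
    have h1 : Commute X (Y : _root_.Matrix.SpecialLinearGroup (Fin n) F) :=
      (Subgroup.mem_centralizer_singleton_iff.1 Y.2).symm
    exact h1.map act
  obtain ⟨K, iK, iKf, iKA, f, -, hf⟩ := Cfsg.Agent.H363.CentField.exists_field (F := F) (V := Fin n → F) hr hYr hY1
    (by rw [finrank_fin_fun]; exact hrn) (by rw [finrank_fin_fun]; exact hrd)
  obtain ⟨k, hk⟩ := (hf (act X)).1 hXY
  obtain ⟨m, hm, hle⟩ := FieldComm.card_le f k (by
    intro a ha
    apply act_ne_scalar hX a
    rw [← hk, ← ha, AlgHom.commutes])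
  rw [hk, finrank_fin_fun] at hle
  rw [finrank_fin_fun] at hm
  refine hle.trans (Nat.pow_le_pow_right Nat.card_pos (Nat.mul_le_mul_left _ ?_))
  omega

end Cfsg.Agent.H402.CS.PslSize
end

-- part: H402/CS/OneB
section
/-!
# One perfect prime, continued (helper402, S3677)
-/

set_option autoImplicit false

namespace Cfsg.Agent.H402.CS.One

open Subgroup Cfsg Cfsg.Agent.H969.CS Cfsg.Agent.H363.Frat Cfsg.Agent.H363.Master

universe u

variable {G : Type u} [Group G] [Finite G] {s p m : ℕ}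

theorem Perf.not_p_m (h : Perf G s p m) : ¬ p ∣ m := by
  obtain ⟨y, hy⟩ := h.exists_y
  intro h1
  rw [← h.cent y hy] at h1
  have := Fact.mk h.hp
  obtain ⟨v, hv⟩ := exists_prime_orderOf_dvd_card' p h1
  have h2 : Commute y (v : G) := (mem_Cz.1 v.2).symm
  have h3 := eq_one_of_commute h.hs h.hp h.hsp h.na ⟨1, by rw [hy, pow_one]⟩
    ⟨1, by rw [Subgroup.orderOf_coe, hv, pow_one]⟩ h2 (by
      intro h4
      have : v = 1 := Subtype.ext h4
      rw [this, orderOf_one] at hv
      exact h.hp.one_lt.ne hv)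
  rw [h3, orderOf_one] at hy
  exact h.hs.one_lt.ne hy

/-- **The theorem on one perfect prime.** -/
theorem Perf.not_dvd_core (h : Perf G s p m) (hOp : pCore p G = ⊥)
    (hOl : ∀ l : ℕ, l.Prime → l ∣ m → pCore l G = ⊥) (K : Subgroup G) [K.Normal] (hK : Group.IsSolvable ↥K)
    (hsK : ¬ s ∣ Nat.card ↥K) : ¬ p ∣ Nat.card ↥K := by
  intro hpK
  have hp := h.hp
  have hs := h.hs
  have := Fact.mk hp
  have := Fact.mk hs
  have h1 : s ^ 1 ∣ K.index := by
    rw [pow_one]
    have h2 : s ∣ Nat.card ↥K * K.index := by rw [Subgroup.card_mul_index]; exact h.sG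
    exact ((hs.dvd_mul).1 h2).resolve_left hsK
  obtain ⟨S, Q, hSK, hSp, hScard, hQ, hQd, hQS⟩ := exists_normalizing hs hp K h1
  rw [pow_one] at hQd
  obtain ⟨y0, hy0⟩ := exists_prime_orderOf_dvd_card' s hQd
  have hy : orderOf (y0 : G) = s := by rw [Subgroup.orderOf_coe, hy0]
  have hyS : (y0 : G) ∈ normalizer (S : Set G) := hQS y0.2
  -- `S` centralizes the Fitting subgroup
  have hcent : S ≤ centralizer (fittingSubgroup G : Set G) := by
    rw [Subgroup.le_centralizer_iff, Cfsg.Agent.Lib.Cores.fittingSubgroup_eq_iSup_pCore, iSup_le_iff]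
    intro l
    have hl := l.2
    have := Fact.mk hl
    by_cases hlm : (l : ℕ) ∣ m
    · rw [hOl l hl hlm]; exact bot_le
    by_cases hlp : (l : ℕ) = p
    · rw [hlp, hOp]; exact bot_le
    have hA : (pCore (l : ℕ) G).Normal := Cfsg.Agent.Lib.Cores.pCore_normal _
    have hApg : IsPGroup l ↥(pCore (l : ℕ) G) := Cfsg.Agent.Lib.Cores.pCore_isPGroup _
    set B : Subgroup G := pCore (l : ℕ) G ⊔ S with hB
    obtain ⟨a, ha⟩ := IsPGroup.iff_card.1 hApg
    obtain ⟨b, hb⟩ := IsPGroup.iff_card.1 hSp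
    have hcop : (Nat.card ↥B).Coprime m := by
      refine Nat.Coprime.coprime_dvd_left (Cfsg.Agent.Lib.Cores.card_sup_dvd _ _ hA) ?_
      rw [ha, hb]
      exact Nat.Coprime.mul_left (Nat.Coprime.pow_left _ ((Nat.Prime.coprime_iff_not_dvd hl).2 hlm))
        (Nat.Coprime.pow_left _ ((Nat.Prime.coprime_iff_not_dvd hp).2 h.not_p_m))
    have hyB : (y0 : G) ∈ normalizer (B : Set G) := by
      have h3 : ∀ g : G, g ∈ normalizer (S : Set G) → (B.map (MulAut.conj g).toMonoidHom) ≤ B := by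
        intro g hg
        rw [hB, Subgroup.map_sup]
        refine sup_le_sup ?_ ?_
        · rintro _ ⟨x, hx, rfl⟩
          exact hA.conj_mem x hx g
        · rintro _ ⟨x, hx, rfl⟩
          exact (mem_normalizer_iff.1 hg x).1 hx
      rw [mem_normalizer_iff]
      intro x
      constructor
      · intro hx
        exact h3 _ hyS ⟨x, hx, rfl⟩
      · intro hx
        have h4 := h3 (y0 : G)⁻¹ (inv_mem hyS) ⟨_, hx, rfl⟩
        have e : (MulAut.conj (y0 : G)⁻¹).toMonoidHom ((y0 : G) * x * (y0 : G)⁻¹) = x := by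
          show (y0 : G)⁻¹ * ((y0 : G) * x * (y0 : G)⁻¹) * ((y0 : G)⁻¹)⁻¹ = x
          group
        rwa [e] at h4
    have hnil := h.nilpotent_of hy B hyB hcop
    refine Cfsg.Agent.Lib.NilpotentCoprime.le_centralizer_of_coprime (N := B) hnil le_sup_left le_sup_right ?_
    rw [ha, hb]
    exact Nat.Coprime.pow _ _ ((Nat.coprime_primes hl hp).2 hlp)
  -- the solvable subgroup
  have hKn : K.Normal := inferInstance
  have hCn : (centralizer (fittingSubgroup G : Set G)).Normal := by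
    have := Cfsg.Agent.Lib.Cores.fittingSubgroup_normal (G := G)
    infer_instance
  have hNn : (K ⊓ centralizer (fittingSubgroup G : Set G)).Normal := inferInstance
  have hNs : Group.IsSolvable ↥(K ⊓ centralizer (fittingSubgroup G : Set G)) :=
    Group.isSolvable_of_isSolvable_injective (f := Subgroup.inclusion inf_le_left) (Subgroup.inclusion_injective _)
  have h2 := Cfsg.Agent.S1264.result (K ⊓ centralizer (fittingSubgroup G : Set G)) inf_le_right
    (by rw [normalizer_eq_top_iff.2 hNn]; exact le_top) hNs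
  have h3 : S ≤ fittingSubgroup G := by
    intro x hx
    obtain ⟨z, _, rfl⟩ := h2 ⟨hSK hx, hcent hx⟩
    exact z.2
  have h4 : S ≤ pCore p G := by
    -- in the nilpotent Fitting subgroup the `p`-part is normal
    have hFn : (fittingSubgroup G).Normal := Cfsg.Agent.Lib.Cores.fittingSubgroup_normal
    have hnil : Group.IsNilpotent ↥(fittingSubgroup G) := Cfsg.Agent.Lib.Cores.fittingSubgroup_isNilpotent
    obtain ⟨P, hP⟩ := (hSp.comap_of_injective (fittingSubgroup G).subtype (fittingSubgroup G).subtype_injective).exists_le_sylow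
    have hPn : P.Normal := inferInstance
    have hPc : (P : Subgroup ↥(fittingSubgroup G)).Characteristic := Sylow.characteristic_of_normal P inferInstance
    have h5 : (P : Subgroup ↥(fittingSubgroup G)).map (fittingSubgroup G).subtype ≤ pCore p G :=
      Cfsg.Agent.Lib.Cores.le_pCore inferInstance (P.isPGroup'.map _)
    intro x hx
    exact h5 ⟨⟨x, h3 hx⟩, hP hx, rfl⟩
  rw [hOp, le_bot_iff] at h4
  rw [h4, Subgroup.card_bot] at hScard
  have h5 := hp.factorization_pos_of_dvd Nat.card_pos.ne' hpK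
  have h6 := Nat.one_lt_pow h5.ne' hp.one_lt
  omega

end Cfsg.Agent.H402.CS.One
end

-- part: H402/CS/OneC
section
/-!
# One perfect prime: the cores (helper402, S3677)
-/

set_option autoImplicit false

namespace Cfsg.Agent.H402.CS.One

open Subgroup Cfsg Cfsg.Agent.H969.CS Cfsg.Agent.H363.Frat Cfsg.Agent.H363.Master

universe u

variable {G : Type u} [Group G] [Finite G] {s p m : ℕ}

/-- the class of a nontrivial element of a normal subgroup -/
theorem index_lt_of_mem {N : Subgroup G} (hN : N.Normal) {x : G} (hx : x ∈ N) (hx1 : x ≠ 1) :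
    (Cz x).index < Nat.card ↥N := by
  have hf : ∀ a b : G, QuotientGroup.leftRel (Cz x) a b → a * x * a⁻¹ = b * x * b⁻¹ := by
    intro a b hab
    rw [QuotientGroup.leftRel_apply, mem_Cz] at hab
    calc a * x * a⁻¹ = a * (x * (a⁻¹ * b)) * b⁻¹ := by group
      _ = a * (a⁻¹ * b * x) * b⁻¹ := by rw [hab]
      _ = b * x * b⁻¹ := by group
  let f : G ⧸ Cz x → ↥N := Quotient.lift (fun a => (⟨a * x * a⁻¹, hN.conj_mem x hx a⟩ : ↥N))
    (fun a b hab => Subtype.ext (hf a b hab))
  have hinj : Function.Injective f := by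
    intro a b
    obtain ⟨a, rfl⟩ := QuotientGroup.mk_surjective a
    obtain ⟨b, rfl⟩ := QuotientGroup.mk_surjective b
    intro hab
    have h1 : a * x * a⁻¹ = b * x * b⁻¹ := congrArg Subtype.val hab
    rw [QuotientGroup.eq, mem_Cz]
    calc a⁻¹ * b * x = a⁻¹ * (b * x * b⁻¹) * b := by group
      _ = a⁻¹ * (a * x * a⁻¹) * b := by rw [h1]
      _ = x * (a⁻¹ * b) := by group
  have hne : ∀ q, f q ≠ 1 := by
    intro q
    obtain ⟨a, rfl⟩ := QuotientGroup.mk_surjective q
    intro h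
    have h1 : a * x * a⁻¹ = 1 := congrArg Subtype.val h
    apply hx1
    have : x = a⁻¹ * (a * x * a⁻¹) * a := by group
    rw [this, h1]; group
  let g : Option (G ⧸ Cz x) → ↥N := fun o => o.elim 1 f
  have hg : Function.Injective g := by
    intro a b hab
    cases a with
    | none =>
      cases b with
      | none => rfl
      | some b => exact absurd hab.symm (hne b)
    | some a =>
      cases b with
      | none => exact absurd hab (hne a)
      | some b => exact congrArg some (hinj hab)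
  have h1 := Nat.card_le_card_of_injective g hg
  rw [Finite.card_option] at h1
  rw [Subgroup.index_eq_card]
  omega

/-- **The theorem on one perfect prime**, for a prime `t` not dividing `m`. -/
theorem Perf.not_dvd_of (h : Perf G s p m) {t : ℕ} (ht : t.Prime) (htm : ¬ t ∣ m) (hOt : pCore t G = ⊥)
    (hOl : ∀ l : ℕ, l.Prime → l ∣ m → pCore l G = ⊥) (K : Subgroup G) [K.Normal] (hK : Group.IsSolvable ↥K)
    (hsK : ¬ s ∣ Nat.card ↥K) : ¬ t ∣ Nat.card ↥K := by
  intro htK
  have hs := h.hs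
  have := Fact.mk ht
  have := Fact.mk hs
  have h1 : s ^ 1 ∣ K.index := by
    rw [pow_one]
    have h2 : s ∣ Nat.card ↥K * K.index := by rw [Subgroup.card_mul_index]; exact h.sG
    exact ((hs.dvd_mul).1 h2).resolve_left hsK
  obtain ⟨S, Q, hSK, hSp, hScard, hQ, hQd, hQS⟩ := exists_normalizing hs ht K h1
  rw [pow_one] at hQd
  obtain ⟨y0, hy0⟩ := exists_prime_orderOf_dvd_card' s hQd
  have hy : orderOf (y0 : G) = s := by rw [Subgroup.orderOf_coe, hy0]
  have hyS : (y0 : G) ∈ normalizer (S : Set G) := hQS y0.2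
  -- `S` centralizes the Fitting subgroup
  have hcent : S ≤ centralizer (fittingSubgroup G : Set G) := by
    rw [Subgroup.le_centralizer_iff, Cfsg.Agent.Lib.Cores.fittingSubgroup_eq_iSup_pCore, iSup_le_iff]
    intro l
    have hl := l.2
    have := Fact.mk hl
    by_cases hlm : (l : ℕ) ∣ m
    · rw [hOl l hl hlm]; exact bot_le
    by_cases hlt : (l : ℕ) = t
    · rw [hlt, hOt]; exact bot_le
    have hA : (pCore (l : ℕ) G).Normal := Cfsg.Agent.Lib.Cores.pCore_normal _
    have hApg : IsPGroup l ↥(pCore (l : ℕ) G) := Cfsg.Agent.Lib.Cores.pCore_isPGroup _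
    set B : Subgroup G := pCore (l : ℕ) G ⊔ S with hB
    obtain ⟨a, ha⟩ := IsPGroup.iff_card.1 hApg
    obtain ⟨b, hb⟩ := IsPGroup.iff_card.1 hSp
    have hcop : (Nat.card ↥B).Coprime m := by
      refine Nat.Coprime.coprime_dvd_left (Cfsg.Agent.Lib.Cores.card_sup_dvd _ _ hA) ?_
      rw [ha, hb]
      exact Nat.Coprime.mul_left (Nat.Coprime.pow_left _ ((Nat.Prime.coprime_iff_not_dvd hl).2 hlm))
        (Nat.Coprime.pow_left _ ((Nat.Prime.coprime_iff_not_dvd ht).2 htm))
    have hyB : (y0 : G) ∈ normalizer (B : Set G) := by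
      have h3 : ∀ g : G, g ∈ normalizer (S : Set G) → (B.map (MulAut.conj g).toMonoidHom) ≤ B := by
        intro g hg
        rw [hB, Subgroup.map_sup]
        refine sup_le_sup ?_ ?_
        · rintro _ ⟨x, hx, rfl⟩
          exact hA.conj_mem x hx g
        · rintro _ ⟨x, hx, rfl⟩
          exact (mem_normalizer_iff.1 hg x).1 hx
      rw [mem_normalizer_iff]
      intro x
      constructor
      · intro hx
        exact h3 _ hyS ⟨x, hx, rfl⟩
      · intro hx
        have h4 := h3 (y0 : G)⁻¹ (inv_mem hyS) ⟨_, hx, rfl⟩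
        have e : (MulAut.conj (y0 : G)⁻¹).toMonoidHom ((y0 : G) * x * (y0 : G)⁻¹) = x := by
          show (y0 : G)⁻¹ * ((y0 : G) * x * (y0 : G)⁻¹) * ((y0 : G)⁻¹)⁻¹ = x
          group
        rwa [e] at h4
    have hnil := h.nilpotent_of hy B hyB hcop
    refine Cfsg.Agent.Lib.NilpotentCoprime.le_centralizer_of_coprime (N := B) hnil le_sup_left le_sup_right ?_
    rw [ha, hb]
    exact Nat.Coprime.pow _ _ ((Nat.coprime_primes hl ht).2 hlt)
  -- the solvable subgroup
  have hKn : K.Normal := inferInstance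
  have hCn : (centralizer (fittingSubgroup G : Set G)).Normal := by
    have := Cfsg.Agent.Lib.Cores.fittingSubgroup_normal (G := G)
    infer_instance
  have hNn : (K ⊓ centralizer (fittingSubgroup G : Set G)).Normal := inferInstance
  have hNs : Group.IsSolvable ↥(K ⊓ centralizer (fittingSubgroup G : Set G)) :=
    Group.isSolvable_of_isSolvable_injective (f := Subgroup.inclusion inf_le_left) (Subgroup.inclusion_injective _)
  have h2 := Cfsg.Agent.S1264.result (K ⊓ centralizer (fittingSubgroup G : Set G)) inf_le_right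
    (by rw [normalizer_eq_top_iff.2 hNn]; exact le_top) hNs
  have h3 : S ≤ fittingSubgroup G := by
    intro x hx
    obtain ⟨z, _, rfl⟩ := h2 ⟨hSK hx, hcent hx⟩
    exact z.2
  have h4 : S ≤ pCore t G := by
    have hFn : (fittingSubgroup G).Normal := Cfsg.Agent.Lib.Cores.fittingSubgroup_normal
    have hnil : Group.IsNilpotent ↥(fittingSubgroup G) := Cfsg.Agent.Lib.Cores.fittingSubgroup_isNilpotent
    obtain ⟨P, hP⟩ := (hSp.comap_of_injective (fittingSubgroup G).subtype (fittingSubgroup G).subtype_injective).exists_le_sylow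
    have hPn : P.Normal := inferInstance
    have hPc : (P : Subgroup ↥(fittingSubgroup G)).Characteristic := Sylow.characteristic_of_normal P inferInstance
    have h5 : (P : Subgroup ↥(fittingSubgroup G)).map (fittingSubgroup G).subtype ≤ pCore t G :=
      Cfsg.Agent.Lib.Cores.le_pCore inferInstance (P.isPGroup'.map _)
    intro x hx
    exact h5 ⟨⟨x, h3 hx⟩, hP hx, rfl⟩
  rw [hOt, le_bot_iff] at h4
  rw [h4, Subgroup.card_bot] at hScard
  have h5 := ht.factorization_pos_of_dvd Nat.card_pos.ne' htK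
  have h6 := Nat.one_lt_pow h5.ne' ht.one_lt
  omega

/-- a solvable normal subgroup is trivial if all the cores are -/
theorem eq_bot_of_cores (hO : ∀ l : ℕ, l.Prime → pCore l G = ⊥) (K : Subgroup G) [K.Normal]
    (hK : Group.IsSolvable ↥K) : K = ⊥ := by
  have hF : fittingSubgroup G = ⊥ := by
    rw [Cfsg.Agent.Lib.Cores.fittingSubgroup_eq_iSup_pCore, eq_bot_iff, iSup_le_iff]
    intro l
    rw [hO l l.2]
  have hKn : K.Normal := inferInstance
  have hc : K ≤ centralizer (fittingSubgroup G : Set G) := by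
    rw [hF, Subgroup.coe_bot]
    intro x _
    rw [Subgroup.mem_centralizer_iff]
    intro y hy
    rw [Set.mem_singleton_iff.1 hy, one_mul, mul_one]
  have h2 := Cfsg.Agent.S1264.result K hc (by rw [normalizer_eq_top_iff.2 hKn]; exact le_top) hK
  rw [eq_bot_iff, ← hF]
  intro x hx
  obtain ⟨z, _, rfl⟩ := h2 hx
  exact z.2

/-- a core is trivial if its order would be at most the least class size -/
theorem pCore_eq_bot_of_index {l : ℕ} (hl : l.Prime) (hZ : center G = ⊥)
    (h : ∀ c ∈ CO G, c ≠ Nat.card G → l ^ (Nat.card G).factorization l * c ≤ Nat.card G) : pCore l G = ⊥ := by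
  have := Fact.mk hl
  by_contra hne
  have hA : (pCore l G).Normal := Cfsg.Agent.Lib.Cores.pCore_normal _
  have hApg : IsPGroup l ↥(pCore l G) := Cfsg.Agent.Lib.Cores.pCore_isPGroup _
  obtain ⟨x0, hx0⟩ := Subgroup.ne_bot_iff_exists_ne_one.1 hne
  obtain ⟨x, hx, hx1⟩ : ∃ x ∈ pCore l G, x ≠ 1 := ⟨(x0 : G), x0.2, fun h => hx0 (Subtype.ext h)⟩
  have h1 := index_lt_of_mem hA hx hx1
  have h2 : Nat.card ↥(Cz x) ≠ Nat.card G := by
    intro h3
    have h4 : Cz x = ⊤ := Subgroup.eq_top_of_card_eq _ h3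
    apply hx1
    rw [← Subgroup.mem_bot, ← hZ, Subgroup.mem_center_iff]
    intro g
    exact mem_Cz.1 (h4 ▸ Subgroup.mem_top g)
  have h3 := h _ (mem_CO x) h2
  obtain ⟨a, ha⟩ := IsPGroup.iff_card.1 hApg
  have h4 : Nat.card ↥(pCore l G) ≤ l ^ (Nat.card G).factorization l := by
    rw [ha]
    refine Nat.pow_le_pow_right hl.pos ?_
    rw [← hl.pow_dvd_iff_le_factorization Nat.card_pos.ne', ← ha]
    exact Subgroup.card_subgroup_dvd_card _
  have h5 := Subgroup.card_mul_index (Cz x)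
  have h6 : 0 < Nat.card ↥(Cz x) := Nat.card_pos
  have h7 : (Cz x).index * Nat.card ↥(Cz x) < l ^ (Nat.card G).factorization l * Nat.card ↥(Cz x) :=
    Nat.mul_lt_mul_of_pos_right (h1.trans_le h4) h6
  rw [mul_comm, h5] at h7
  omega

/-- the centre is trivial if no prime divides all centralizer orders -/
theorem center_eq_bot (h : ∀ l : ℕ, l.Prime → ∃ c ∈ CO G, ¬ l ∣ c) : center G = ⊥ := by
  by_contra hne
  have h1 : Nat.card ↥(center G) ≠ 1 := fun h2 => hne (Subgroup.card_eq_one.1 h2)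
  obtain ⟨l, hl, hd⟩ := Nat.exists_prime_and_dvd h1
  obtain ⟨c, ⟨g, rfl⟩, hc⟩ := h l hl
  exact hc (hd.trans (Subgroup.card_dvd_of_le (by
    intro z hz
    rw [mem_Cz]
    exact (Subgroup.mem_center_iff.1 hz g).symm)))

/-- **`O_p(G) = 1`** if `s`- and `r`-elements act without fixed points on the abelian normal `p`-subgroups and the least
common multiple of the orders of `p` modulo `r` and `s` is large. -/
theorem pCore_eq_bot_of_fpf {r a b : ℕ} (hp : p.Prime) (hs : s.Prime) (hr : r.Prime)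
    (hsG : s ∣ Nat.card G) (hrG : r ∣ Nat.card G)
    (hfs : ∀ V : Subgroup G, V.Normal → IsPGroup p ↥V → (∀ x ∈ V, ∀ y ∈ V, x * y = y * x) →
      ∀ y : G, orderOf y = s → ∀ x ∈ V, x * y = y * x → x = 1)
    (hfr : ∀ V : Subgroup G, V.Normal → IsPGroup p ↥V → (∀ x ∈ V, ∀ y ∈ V, x * y = y * x) →
      ∀ y : G, orderOf y = r → ∀ x ∈ V, x * y = y * x → x = 1)
    (ha : ∀ j, r ∣ p ^ j - 1 → a ∣ j) (hb : ∀ j, s ∣ p ^ j - 1 → b ∣ j)
    (hlcm : (Nat.card G).factorization p < Nat.lcm a b) : pCore p G = ⊥ := by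
  have := Fact.mk hp
  have hA : (pCore p G).Normal := Cfsg.Agent.Lib.Cores.pCore_normal _
  have hApg : IsPGroup p ↥(pCore p G) := Cfsg.Agent.Lib.Cores.pCore_isPGroup _
  by_contra hne
  set V : Subgroup G := (center ↥(pCore p G)).map (pCore p G).subtype with hV
  have hVn : V.Normal := inferInstance
  have hVp : IsPGroup p ↥V := (hApg.to_subgroup _).map _
  have hVc : ∀ x ∈ V, ∀ y ∈ V, x * y = y * x := by
    rintro _ ⟨x, hx, rfl⟩ _ ⟨y, _, rfl⟩
    exact congrArg Subtype.val (Subgroup.mem_center_iff.1 hx y).symm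
  have hV1 : V ≠ ⊥ := by
    intro h
    have h1 : center ↥(pCore p G) = ⊥ := by
      rw [hV, Subgroup.map_eq_bot_iff_of_injective _ (pCore p G).subtype_injective] at h
      exact h
    have hnt : Nontrivial ↥(pCore p G) := (Subgroup.nontrivial_iff_ne_bot _).2 hne
    exact (ne_of_gt (hApg.bot_lt_center)) h1
  obtain ⟨j, hj⟩ := IsPGroup.iff_card.1 hVp
  have hj0 : j ≠ 0 := by
    rintro rfl
    rw [pow_zero] at hj
    exact hV1 (Subgroup.card_eq_one.1 hj)
  have key : ∀ t : ℕ, t.Prime → t ∣ Nat.card G →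
      (∀ y : G, orderOf y = t → ∀ x ∈ V, x * y = y * x → x = 1) → t ∣ p ^ j - 1 := by
    intro t ht htG hf
    have := Fact.mk ht
    obtain ⟨y, hy⟩ := exists_prime_orderOf_dvd_card' t htG
    -- the group generated by `y` acts on `V`
    have h1 : IsPGroup t ↥(Subgroup.zpowers y) := IsPGroup.of_card (by
      rw [Nat.card_zpowers, hy, pow_one])
    let inst : MulAction ↥(Subgroup.zpowers y) ↥V :=
      { smul := fun g v => ⟨(g : G) * v * (g : G)⁻¹, hVn.conj_mem v v.2 g⟩
        one_smul := fun v => Subtype.ext (by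
          show ((1 : ↥(Subgroup.zpowers y)) : G) * (v : G) * ((1 : ↥(Subgroup.zpowers y)) : G)⁻¹ = v
          simp only [_root_.OneMemClass.coe_one, _root_.one_mul, _root_.inv_one, _root_.mul_one])
        mul_smul := fun g k v => Subtype.ext (by
          show ((g * k : ↥(Subgroup.zpowers y)) : G) * (v : G) * ((g * k : ↥(Subgroup.zpowers y)) : G)⁻¹ =
            (g : G) * ((k : G) * v * (k : G)⁻¹) * (g : G)⁻¹
          rw [Subgroup.coe_mul]; group) }
    have h2 := h1.card_modEq_card_fixedPoints (α := ↥V)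
    have h3 : MulAction.fixedPoints ↥(Subgroup.zpowers y) ↥V = {1} := by
      ext v
      constructor
      · intro hv
        have h4 : (y : G) * v * (y : G)⁻¹ = v := congrArg Subtype.val (hv ⟨y, Subgroup.mem_zpowers y⟩)
        have h5 := hf y hy v v.2 (by
          calc (v : G) * y = (y * v * y⁻¹) * y := by rw [h4]
            _ = y * v := by group)
        exact Subtype.ext h5
      · rintro rfl g
        apply Subtype.ext
        show (g : G) * (1 : G) * (g : G)⁻¹ = 1
        group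
    have h4 : Nat.card ↑({1} : Set ↥V) = 1 := by simp
    rw [h3, h4, hj] at h2
    exact (Nat.modEq_iff_dvd' (Nat.one_le_pow _ _ hp.pos)).1 h2.symm
  have h1 := ha j (key r hr hrG (hfr V hVn hVp hVc))
  have h2 := hb j (key s hs hsG (hfs V hVn hVp hVc))
  have h3 := Nat.le_of_dvd (Nat.pos_of_ne_zero hj0) (Nat.lcm_dvd h1 h2)
  have h4 : j ≤ (Nat.card G).factorization p := by
    rw [← hp.pow_dvd_iff_le_factorization Nat.card_pos.ne', ← hj]
    exact Subgroup.card_subgroup_dvd_card _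
  omega

/-- fixed-point-freeness from non-adjacency -/
theorem fpf_of_nonAdj {t : ℕ} (ht : t.Prime) (hp : p.Prime) (htp : t ≠ p) (hna : NonAdj G t p) (V : Subgroup G)
    (hV : IsPGroup p ↥V) {y : G} (hy : orderOf y = t) {x : G} (hx : x ∈ V) (hxy : x * y = y * x) : x = 1 := by
  have := Fact.mk hp
  by_contra hx1
  obtain ⟨k, hk⟩ := (IsPGroup.iff_orderOf.1 hV) ⟨x, hx⟩
  rw [Subgroup.orderOf_mk] at hk
  have h3 := eq_one_of_commute ht hp htp hna ⟨1, by rw [hy, pow_one]⟩ ⟨k, hk⟩ hxy.symm hx1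
  rw [h3, orderOf_one] at hy
  exact ht.one_lt.ne hy

/-- fixed-point-freeness from the size of the centralizers -/
theorem fpf_of_size {t : ℕ} (hp : p.Prime) (hZ : center G = ⊥)
    (hsize : ∀ c ∈ CO G, c ≠ Nat.card G → t ∣ c → c * p ^ c.factorization p < Nat.card G) (V : Subgroup G)
    (hVn : V.Normal) (hV : IsPGroup p ↥V) (hVc : ∀ x ∈ V, ∀ y ∈ V, x * y = y * x) {y : G} (hy : orderOf y = t)
    {x : G} (hx : x ∈ V) (hxy : x * y = y * x) : x = 1 := by
  have := Fact.mk hp
  by_contra hx1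
  have h1 := index_lt_of_mem hVn hx hx1
  have h2 : Nat.card ↥(Cz x) ≠ Nat.card G := by
    intro h3
    have h4 : Cz x = ⊤ := Subgroup.eq_top_of_card_eq _ h3
    apply hx1
    rw [← Subgroup.mem_bot, ← hZ, Subgroup.mem_center_iff]
    intro g
    exact mem_Cz.1 (h4 ▸ Subgroup.mem_top g)
  have h3 : t ∣ Nat.card ↥(Cz x) := by
    have h4 := dvd_card_of_mem (show y ∈ Cz x from mem_Cz.2 hxy.symm)
    rwa [hy] at h4
  have h4 := hsize _ (mem_CO x) h2 h3
  obtain ⟨j, hj⟩ := IsPGroup.iff_card.1 hV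
  have h5 : V ≤ Cz x := fun v hv => mem_Cz.2 (hVc v hv x hx)
  have h6 : Nat.card ↥V ≤ p ^ (Nat.card ↥(Cz x)).factorization p := by
    rw [hj]
    refine Nat.pow_le_pow_right hp.pos ?_
    rw [← hp.pow_dvd_iff_le_factorization Nat.card_pos.ne', ← hj]
    exact Subgroup.card_dvd_of_le h5
  have h7 := Subgroup.card_mul_index (Cz x)
  have h8 : Nat.card ↥(Cz x) * (Cz x).index < Nat.card ↥(Cz x) * p ^ (Nat.card ↥(Cz x)).factorization p :=
    Nat.mul_lt_mul_of_pos_left (h1.trans_le h6) Nat.card_pos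
  omega

end Cfsg.Agent.H402.CS.One
end

-- part: H402/CS/Sect
section
/-!
# One perfect prime: the simple section (helper402, S3677)
-/

set_option autoImplicit false

namespace Cfsg.Agent.H402.CS.One

open Subgroup Cfsg Cfsg.Agent.H969.CS Cfsg.Agent.H363.Frat Cfsg.Agent.H363.Master

universe u

theorem exists_minimal_normal_le {G : Type*} [Group G] [Finite G] (C : Subgroup G) (hCn : C.Normal) (hC : C ≠ ⊥) :
    ∃ N : Subgroup G, N.Normal ∧ N ≤ C ∧ N ≠ ⊥ ∧ ∀ M : Subgroup G, M.Normal → M ≤ N → M = ⊥ ∨ M = N := by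
  obtain ⟨N, hN⟩ := (Set.toFinite {N : Subgroup G | N.Normal ∧ N ≤ C ∧ N ≠ ⊥}).exists_minimal
    ⟨C, hCn, le_rfl, hC⟩
  refine ⟨N, hN.1.1, hN.1.2.1, hN.1.2.2, fun M hM hMN => ?_⟩
  by_cases h : M = ⊥
  · exact Or.inl h
  · exact Or.inr (le_antisymm hMN (hN.2 ⟨hM, hMN.trans hN.1.2.1, h⟩ hMN))

/-- a minimal normal subgroup of order divisible by the non-adjacent primes `s`, `p` is simple -/
theorem simple_of_minimal {G : Type u} [Group G] [Finite G] {s p : ℕ} (hs : s.Prime) (hp : p.Prime) (hsp : s ≠ p)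
    (hna : NonAdj G s p) (N : Subgroup G) [N.Normal] (hN : N ≠ ⊥)
    (hmin : ∀ M : Subgroup G, M.Normal → M ≤ N → M = ⊥ ∨ M = N) (hsN : s ∣ Nat.card ↥N) (hpN : p ∣ Nat.card ↥N) :
    IsSimpleGroup ↥N ∧ ¬ ∀ a b : ↥N, a * b = b * a := by
  have hN0 : Nat.card ↥N ≠ 0 := Nat.card_pos.ne'
  obtain ⟨T, k, _, hT, hm, ⟨e⟩⟩ := Cfsg.Agent.Lib.MinNormal.exists_mulEquiv_pi N hN hmin
  have hcard : Nat.card ↥N = Nat.card T ^ k := by
    rw [Nat.card_congr e.toEquiv, Nat.card_fun]
    simp only [_root_.Nat.card_eq_fintype_card, _root_.Fintype.card_fin]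
  have hTf : Finite T := by
    have hc : Nat.card T ≠ 0 := by
      intro h0
      rw [h0, zero_pow (by omega)] at hcard
      exact hN0 hcard
    exact Nat.finite_of_card_ne_zero hc
  have hdT : ∀ t, t.Prime → t ∣ Nat.card ↥N → t ∣ Nat.card T := by
    intro t ht h
    rw [hcard] at h
    exact ht.dvd_of_dvd_pow h
  have hpT := hdT p hp hpN
  have hsT := hdT s hs hsN
  have hnab : ¬ ∀ a b : ↥N, a * b = b * a := by
    intro hab
    have hcomm0 : ∀ a b : T, a * b = b * a := by
      intro a b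
      have h4 := hab (e.symm (fun _ => a)) (e.symm (fun _ => b))
      rw [← map_mul, ← map_mul] at h4
      exact congrFun (e.symm.injective h4) ⟨0, by omega⟩
    have hprime : (Nat.card T).Prime := by
      let : CommGroup T := { (inferInstance : Group T) with mul_comm := hcomm0 }
      exact IsSimpleGroup.prime_card
    have hpT' := (Nat.prime_dvd_prime_iff_eq hp hprime).mp hpT
    exact hsp (((Nat.prime_dvd_prime_iff_eq hs hprime).mp hsT).trans hpT'.symm)
  have hm1 : k = 1 := by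
    by_contra hm1
    have : Fact p.Prime := ⟨hp⟩
    have : Fact s.Prime := ⟨hs⟩
    obtain ⟨a, ha⟩ := exists_prime_orderOf_dvd_card' s hsT
    obtain ⟨b, hb⟩ := exists_prime_orderOf_dvd_card' p hpT
    have h01 : (⟨0, by omega⟩ : Fin k) ≠ ⟨1, by omega⟩ := by
      intro h; exact absurd (congrArg Fin.val h) (by norm_num)
    have hnN : NonAdj ↥N s p := hna.subgroup N
    have hc : Commute (e.symm (Pi.mulSingle ⟨0, by omega⟩ a)) (e.symm (Pi.mulSingle ⟨1, by omega⟩ b)) :=
      (Pi.mulSingle_commute (f := fun _ : Fin k => T) h01 a b).map e.symm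
    have ho : ∀ (i : Fin k) (x : T), orderOf (e.symm (Pi.mulSingle i x)) = orderOf x := by
      intro i x
      rw [MulEquiv.orderOf_eq]
      exact orderOf_injective (MonoidHom.mulSingle (fun _ : Fin k => T) i)
        (fun x y hxy => Pi.mulSingle_injective (M := fun _ : Fin k => T) i hxy) x
    have h4 := eq_one_of_commute hs hp hsp hnN ⟨1, by rw [ho, pow_one, ha]⟩ ⟨1, by rw [ho, pow_one, hb]⟩ hc
      (by
        intro h5
        have := ho ⟨1, by omega⟩ b
        rw [h5, orderOf_one, hb] at this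
        exact hp.one_lt.ne this)
    have := ho ⟨0, by omega⟩ a
    rw [h4, orderOf_one, ha] at this
    exact hs.one_lt.ne this
  subst hm1
  have := hT
  exact ⟨(e.trans (MulEquiv.funUnique (Fin 1) T)).isSimpleGroup, hnab⟩

/-- a normal nonabelian simple subgroup with trivial centralizer has index dividing `|Out|` -/
theorem index_dvd_out {Γ : Type u} [Group Γ] [Finite Γ] (H : Subgroup Γ) [H.Normal] [IsSimpleGroup H]
    (hna : ¬ ∀ x y : H, x * y = y * x) (hc : centralizer (H : Set Γ) = ⊥) : H.index ∣ Nat.card (Cfsg.Out H) := by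
  have hinj : Function.Injective (MulAut.conjNormal : Γ →* MulAut H) := by
    rw [injective_iff_map_eq_one]
    intro g hg
    have h1 : g ∈ centralizer (H : Set Γ) := by
      rw [Subgroup.mem_centralizer_iff]
      intro x hx
      have h2 : (MulAut.conjNormal g : MulAut H) ⟨x, hx⟩ = ⟨x, hx⟩ := by rw [hg]; rfl
      have h3 : g * x * g⁻¹ = x := by
        have := congrArg Subtype.val h2
        rwa [MulAut.conjNormal_apply] at this
      exact (mul_inv_eq_iff_eq_mul.1 h3).symm
    rwa [hc, Subgroup.mem_bot] at h1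
  have hna' : ¬ IsMulCommutative H := fun h => hna fun a b => h.is_comm.comm a b
  have h1 := Cfsg.Agent.H934.OutB.card_out_mul H hna'
  have : Finite (MulAut H) := Finite.of_injective (fun f : MulAut H => (f : H → H)) DFunLike.coe_injective
  have h2 : Nat.card Γ ∣ Nat.card (MulAut H) := by
    rw [Nat.card_congr (MonoidHom.ofInjective hinj).toEquiv]
    exact Subgroup.card_subgroup_dvd_card _
  rw [← h1, ← Subgroup.card_mul_index H, mul_comm] at h2
  exact Nat.dvd_of_mul_dvd_mul_right Nat.card_pos h2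

/-- the data of the section -/
structure Sec (G : Type u) [Group G] [Finite G] (s p : ℕ) (K : Subgroup G) [K.Normal] (N : Subgroup (G ⧸ K)) :
    Prop where
  normal : N.Normal
  simple : IsSimpleGroup ↥N
  nab : ¬ ∀ a b : ↥N, a * b = b * a
  pK : ¬ p ∣ Nat.card ↥K
  sK : ¬ s ∣ Nat.card ↥K
  pN : p ∣ Nat.card ↥N
  sN : s ∣ Nat.card ↥N
  cent : centralizer (N : Set (G ⧸ K)) = ⊥

variable {G : Type u} [Group G] [Finite G] {s p m : ℕ}

/-- **The simple section.** -/
theorem Perf.exists_sec (h : Perf G s p m) (hpG : p ∣ Nat.card G)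
    (hle : s ^ (Nat.card G).factorization s ≤ p ^ (Nat.card G).factorization p)
    (hcore : ∀ K : Subgroup G, K.Normal → ¬ s ∣ Nat.card ↥K → ¬ p ∣ Nat.card ↥K) :
    ∃ (K : Subgroup G) (_ : K.Normal) (N : Subgroup (G ⧸ K)), Sec G s p K N := by
  have hs := h.hs
  have hp := h.hp
  obtain ⟨K, hKn, hKc, hKm⟩ := exists_core G p
  have hpK : ¬ p ∣ Nat.card ↥K := by
    rwa [Nat.coprime_comm, Nat.Prime.coprime_iff_not_dvd hp] at hKc
  have hsK := not_dvd_of_core hp hs h.hsp h.na hpK hle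
  have hpQ := dvd_quotient hp hpK hpG
  have hna' := h.na.quotient K
  -- normal subgroups of `G ⧸ K`
  have hmins : ∀ N : Subgroup (G ⧸ K), N.Normal → N ≠ ⊥ → p ∣ Nat.card ↥N ∧ s ∣ Nat.card ↥N := by
    intro N hNn hN
    have h1 : p ∣ Nat.card ↥N := by
      by_contra hcon
      apply hN
      apply core_quotient hKc hKm N hNn
      rw [Nat.coprime_comm, Nat.Prime.coprime_iff_not_dvd hp]
      exact hcon
    refine ⟨h1, ?_⟩
    by_contra hcon
    have h2 : Nat.card ↥(N.comap (QuotientGroup.mk' K)) = Nat.card ↥K * Nat.card ↥N := by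
      have h2 := Subgroup.card_mul_index (N.comap (QuotientGroup.mk' K))
      have h3 := Subgroup.card_mul_index N
      have h4 := Subgroup.card_mul_index K
      rw [Subgroup.index_comap_of_surjective _ (QuotientGroup.mk'_surjective K)] at h2
      rw [Subgroup.index_eq_card K, ← h3] at h4
      have h5 : N.index ≠ 0 := Subgroup.index_ne_zero_of_finite
      apply Nat.eq_of_mul_eq_mul_right (Nat.pos_of_ne_zero h5)
      rw [h2, ← h4]; ring
    have h3 := hcore (N.comap (QuotientGroup.mk' K)) (hNn.comap _) (by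
      rw [h2]
      intro h5
      rcases (hs.dvd_mul).1 h5 with h6 | h6
      · exact hsK h6
      · exact hcon h6)
    apply h3
    rw [h2]
    exact h1.mul_left _
  have hnt : Nontrivial (G ⧸ K) := by
    rw [← Finite.one_lt_card_iff_nontrivial]
    exact lt_of_lt_of_le hp.one_lt (Nat.le_of_dvd Nat.card_pos hpQ)
  obtain ⟨N, hNn, hN, hmin⟩ := exists_minimal_normal (G ⧸ K)
  obtain ⟨hpN, hsN⟩ := hmins N hNn hN
  obtain ⟨h1, h2⟩ := simple_of_minimal hs hp h.hsp hna' N hN hmin hsN hpN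
  refine ⟨K, hKn, N, hNn, h1, h2, hpK, hsK, hpN, hsN, ?_⟩
  by_contra hC
  obtain ⟨N', hN'n, hN'C, hN'1, -⟩ := exists_minimal_normal_le (centralizer (N : Set (G ⧸ K))) inferInstance hC
  obtain ⟨hpN', -⟩ := hmins N' hN'n hN'1
  exact false_of_subgroups hs hp h.hsp hna' (A := N) (B := N')
    (fun a ha b hb => (Subgroup.mem_centralizer_iff.1 (hN'C hb) a ha)) hsN hpN'

end Cfsg.Agent.H402.CS.One
end

-- part: H402/CS/Final
section
/-!
# One perfect prime: the theorem on the simple section (helper402, S3677)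
-/

set_option autoImplicit false

namespace Cfsg.Agent.H402.CS.One

open Subgroup Cfsg Cfsg.Agent.H969.CS Cfsg.Agent.H363.Frat Cfsg.Agent.H363.Master

universe u v

/-- the instance of S4319 which is used -/
def Solv : Prop :=
  ∀ (A K : Type u) [Group A] [Finite A] [Group K] [Finite K] [MulDistribMulAction A K],
    (Nat.card K).Coprime (Nat.card A) → Group.IsNilpotent ↥(FixedPoints.subgroup A K) → Group.IsSolvable K

variable {G : Type u} [Group G] [Finite G] {s p m : ℕ}

/-- normal subgroups of order prime to `s` are solvable -/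
theorem Perf.solv (h : Perf G s p m) (hS : Solv.{u}) (K : Subgroup G) [hK : K.Normal] (hsK : ¬ s ∣ Nat.card ↥K) :
    Group.IsSolvable ↥K := by
  obtain ⟨y, hy⟩ := h.exists_y
  let φ : ↥(zpowers y) →* MulAut ↥K := (MulAut.conjNormal (H := K)).comp (zpowers y).subtype
  letI : MulDistribMulAction ↥(zpowers y) ↥K := MulDistribMulAction.compHom ↥K φ
  have hsm : ∀ (g : ↥(zpowers y)) (k : ↥K), ((g • k : ↥K) : G) = g * k * (g : G)⁻¹ := fun g k => rfl
  refine hS ↥(zpowers y) ↥K ?_ ?_
  · rw [Nat.card_zpowers, hy, Nat.coprime_comm, Nat.Prime.coprime_iff_not_dvd h.hs]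
    exact hsK
  · have hn := h.nilp hy
    let f : ↥(FixedPoints.subgroup ↥(zpowers y) ↥K) →* ↥(Cz y) :=
      { toFun := fun k => ⟨((k : ↥K) : G), by
          rw [mem_Cz]
          have h1 : (((⟨y, mem_zpowers y⟩ : ↥(zpowers y)) • (k : ↥K) : ↥K) : G) = (k : ↥K) :=
            congrArg Subtype.val (k.2 ⟨y, mem_zpowers y⟩)
          rw [hsm] at h1
          calc (((k : ↥K) : G)) * y = (y * ((k : ↥K) : G) * y⁻¹) * y := by rw [h1]
            _ = y * ((k : ↥K) : G) := by group⟩
        map_one' := rfl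
        map_mul' := fun _ _ => rfl }
    refine Subgroup.isNilpotent_of_ker_le_center f ?_
    have : f.ker = ⊥ := by
      rw [MonoidHom.ker_eq_bot_iff]
      intro a b hab
      apply Subtype.ext
      apply Subtype.ext
      exact congrArg (fun z : ↥(Cz y) => (z : G)) hab
    rw [this]
    exact bot_le

/-- from the lattice of centralizer orders -/
theorem perf_of_lat {S : Type v} [Group S] [Finite S] (hL : Cfsg.Agent.H431.CS.Lat S p s m) (hs : s.Prime)
    (hp : p.Prime) (hsp : s ≠ p) (hG : Cfsg.Agent.H431.CS.Same G S) (hpS : p ∣ Nat.card S) : Perf G s p m where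
  hs := hs
  hp := hp
  hsp := hsp
  sG := by rw [hG.card]; exact hL.rS
  na := hL.toLatW.noEdge hs hp hsp hG
  cent := fun y hy => hL.card_cent hs hp hsp hG (hy ▸ dvd_rfl)
  min := by
    rintro c ⟨g, rfl⟩ hsc hcm
    have hpc : ¬ p ∣ Nat.card ↥(Cz g) := fun h => hL.pm (h.trans hcm)
    refine hL.one _ (hG.mem g) ?_ hsc hpc
    intro h
    exact hpc (by
      have h1 : Nat.card ↥(Cz g) = Nat.card S := h
      rw [h1]; exact hpS)

/-- **The theorem on the simple section.** -/
theorem Perf.final (h : Perf G s p m) (hS : Solv.{u}) (hpG : p ∣ Nat.card G)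
    (hle : s ^ (Nat.card G).factorization s ≤ p ^ (Nat.card G).factorization p) (hOp : pCore p G = ⊥)
    (hOl : ∀ l : ℕ, l.Prime → l ∣ m → pCore l G = ⊥) :
    ∃ (K : Subgroup G) (_ : K.Normal) (N : Subgroup (G ⧸ K)) (_ : N.Normal) (_ : IsSimpleGroup ↥N),
      (¬ ∀ a b : ↥N, a * b = b * a) ∧ ¬ p ∣ Nat.card ↥K ∧ ¬ s ∣ Nat.card ↥K ∧ p ∣ Nat.card ↥N ∧ s ∣ Nat.card ↥N ∧
      N.index ∣ Nat.card (Cfsg.Out ↥N) ∧ Nat.card ↥K * (N.index * Nat.card ↥N) = Nat.card G ∧
      (∀ t : ℕ, t.Prime → ¬ t ∣ m → pCore t G = ⊥ → ¬ t ∣ Nat.card ↥K) ∧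
      ((∀ l : ℕ, l.Prime → pCore l G = ⊥) → Nat.card ↥K = 1) := by
  obtain ⟨K, hK, N, hN⟩ := h.exists_sec hpG hle (fun K hKn hsK =>
    h.not_dvd_core hOp hOl K (h.solv hS K hsK) hsK)
  have hNn := hN.normal
  have hNs := hN.simple
  refine ⟨K, hK, N, hN.normal, hN.simple, hN.nab, hN.pK, hN.sK, hN.pN, hN.sN, index_dvd_out N hN.nab hN.cent, ?_,
    fun t ht htm hOt => h.not_dvd_of ht htm hOt hOl K (h.solv hS K hN.sK) hN.sK, fun hO => ?_⟩
  · rw [mul_comm N.index, Subgroup.card_mul_index, ← Subgroup.index_eq_card, Subgroup.card_mul_index]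
  · rw [eq_bot_of_cores hO K (h.solv hS K hN.sK), Subgroup.card_bot]

end Cfsg.Agent.H402.CS.One
end
end

-- part: H365/NumLU
section
prune_inst 0x300000000000000000010000000000000
set_option linter.all false
open scoped Cfsg.Agent.FastGrp

/-!
# The `t`-part of `|PSL_n(q)|`, `|PSU_n(q)|`: arithmetic for S3677 (helper365)
-/

set_option autoImplicit false

namespace Cfsg.Agent.H365.NumLU

open Finset Cfsg.Agent.H902.Lte Cfsg.Agent.H902.Art

/-- `∏ (1 - q^{-i}) ≥ 1 - 1 / (q (q - 1))` -/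
theorem low {q : ℕ} (hq : 2 ≤ q) (m : ℕ) :
    (q * (q - 1) - 1) * q ^ (∑ i ∈ range m, (i + 2)) ≤ q * (q - 1) * ∏ i ∈ range m, (q ^ (i + 2) - 1) := by
  have hq1 : ((q - 1 : ℕ) : ℤ) = (q : ℤ) - 1 := by rw [Nat.cast_sub (by omega)]; simp
  have hc : ((q * (q - 1) - 1 : ℕ) : ℤ) = (q : ℤ) * (q - 1) - 1 := by
    have : 1 ≤ q * (q - 1) := Nat.mul_pos (by omega) (by omega)
    rw [Nat.cast_sub this, Nat.cast_mul, hq1]; simp
  have key : ∀ m : ℕ, (((q * (q - 1) - 1 : ℕ) : ℤ) * (q : ℤ) ^ m + 1) * (q : ℤ) ^ (∑ i ∈ range m, (i + 2)) ≤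
      (q : ℤ) * (q - 1) * ((q : ℤ) ^ m * ((∏ i ∈ range m, (q ^ (i + 2) - 1) : ℕ) : ℤ)) := by
    intro m
    induction m with
    | zero => simp [hc]
    | succ m ih =>
      rw [sum_range_succ, prod_range_succ]
      have h1 : ((q ^ (m + 2) - 1 : ℕ) : ℤ) = (q : ℤ) ^ (m + 2) - 1 := by
        rw [Nat.cast_sub (Nat.one_le_pow _ _ (by omega))]; simp
      rw [Nat.cast_mul, h1]
      rw [hc] at ih ⊢
      set E := ∑ i ∈ range m, (i + 2)
      set p : ℤ := ((∏ i ∈ range m, (q ^ (i + 2) - 1) : ℕ) : ℤ)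
      have hqz : (2 : ℤ) ≤ q := by exact_mod_cast hq
      have hQ : (1 : ℤ) ≤ (q : ℤ) ^ m := one_le_pow₀ (by linarith)
      have hQ2 : (1 : ℤ) ≤ (q : ℤ) ^ (m + 2) := one_le_pow₀ (by linarith)
      have hE : (0 : ℤ) ≤ (q : ℤ) ^ E := by positivity
      have h2 : ((q : ℤ) * (q - 1) - 1) * (q : ℤ) ^ (m + 1) * (q : ℤ) ^ (m + 2) + (q : ℤ) ^ (m + 2) ≤
          (q : ℤ) * ((q : ℤ) ^ (m + 2) - 1) * (((q : ℤ) * (q - 1) - 1) * (q : ℤ) ^ m + 1) := by
        have h3 : (q : ℤ) * ((q : ℤ) ^ (m + 2) - 1) * (((q : ℤ) * (q - 1) - 1) * (q : ℤ) ^ m + 1) -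
            (((q : ℤ) * (q - 1) - 1) * (q : ℤ) ^ (m + 1) * (q : ℤ) ^ (m + 2) + (q : ℤ) ^ (m + 2)) =
            (q : ℤ) * ((q : ℤ) ^ m - 1) := by ring
        have h4 : 0 ≤ (q : ℤ) * ((q : ℤ) ^ m - 1) := mul_nonneg (by linarith) (by linarith)
        linarith
      calc (((q : ℤ) * (q - 1) - 1) * (q : ℤ) ^ (m + 1) + 1) * (q : ℤ) ^ (E + (m + 2))
          = (q : ℤ) ^ E * (((q : ℤ) * (q - 1) - 1) * (q : ℤ) ^ (m + 1) * (q : ℤ) ^ (m + 2) + (q : ℤ) ^ (m + 2)) := by
            ring
        _ ≤ (q : ℤ) ^ E * ((q : ℤ) * ((q : ℤ) ^ (m + 2) - 1) * (((q : ℤ) * (q - 1) - 1) * (q : ℤ) ^ m + 1)) :=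
            mul_le_mul_of_nonneg_left h2 hE
        _ = (q : ℤ) * ((q : ℤ) ^ (m + 2) - 1) * ((((q : ℤ) * (q - 1) - 1) * (q : ℤ) ^ m + 1) * (q : ℤ) ^ E) := by ring
        _ ≤ (q : ℤ) * ((q : ℤ) ^ (m + 2) - 1) * ((q : ℤ) * (q - 1) * ((q : ℤ) ^ m * p)) :=
            mul_le_mul_of_nonneg_left ih (mul_nonneg (by linarith) (by linarith))
        _ = _ := by ring
  have h := key m
  have hqz : (2 : ℤ) ≤ q := by exact_mod_cast hq
  have hQ : (0 : ℤ) < (q : ℤ) ^ m := by positivity
  have hE : (0 : ℤ) ≤ (q : ℤ) ^ (∑ i ∈ range m, (i + 2)) := by positivity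
  have h5 : (q : ℤ) ^ m * (((q * (q - 1) - 1 : ℕ) : ℤ) * (q : ℤ) ^ (∑ i ∈ range m, (i + 2))) ≤
      (q : ℤ) ^ m * ((q : ℤ) * (q - 1) * ((∏ i ∈ range m, (q ^ (i + 2) - 1) : ℕ) : ℤ)) := by
    nlinarith
  have h6 := le_of_mul_le_mul_left h5 hQ
  rw [← hq1] at h6
  exact_mod_cast h6

/-- the exponent of `q` in the leading term -/
theorem two_sum (m : ℕ) : 2 * ∑ i ∈ range m, (i + 2) = m * (m + 3) := by
  induction m with
  | zero => simp
  | succ m ih => rw [sum_range_succ, mul_add, ih]; ring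

theorem low3 {q : ℕ} (hq : 3 ≤ q) (m : ℕ) :
    5 * q ^ (∑ i ∈ range m, (i + 2)) ≤ 6 * ∏ i ∈ range m, (q ^ (i + 2) - 1) := by
  have h := low (show 2 ≤ q by omega) m
  set X := q ^ (∑ i ∈ range m, (i + 2))
  set Y := ∏ i ∈ range m, (q ^ (i + 2) - 1)
  have h1 : 6 ≤ q * (q - 1) := Nat.mul_le_mul hq (show 2 ≤ q - 1 by omega)
  obtain ⟨c, hc⟩ := Nat.exists_eq_add_of_le' h1
  rw [hc] at h
  have h2 : c + 6 - 1 = c + 5 := by omega
  rw [h2] at h
  by_contra hlt
  push Not at hlt
  have h3 : (c + 6) * (6 * Y) < (c + 6) * (5 * X) := Nat.mul_lt_mul_of_pos_left hlt (by omega)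
  nlinarith

/-- reduction to the bound for the `t`-part of `N` -/
theorem red {q n t M d N K E A B : ℕ} (hq : 2 ≤ q) (ht : t.Prime) (htq : ¬ t ∣ q) (hd : d ≠ 0) (hN : N ≠ 0) (hA : 0 < A)
    (hM : d * M = q ^ K * N) (hE : E + K = (n - 1) ^ 2 + 1 + (2 * n - 3)) (hlow : B * q ^ E ≤ A * N)
    (H : A * d * P t N ≤ B * q ^ (2 * n - 3) * P t d) :
    P t M * q ^ ((n - 1) ^ 2 + 1) ≤ M := by
  have hM0 : M ≠ 0 := by
    rintro rfl
    rw [mul_zero] at hM
    exact (mul_ne_zero (pow_ne_zero K (by omega)) hN) hM.symm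
  have hP : P t d * P t M = P t N := by
    rw [← P_mul hd hM0, hM, P_mul (pow_ne_zero K (by omega)) hN, P_eq_one, one_mul]
    intro h; exact htq (ht.dvd_of_dvd_pow h)
  have h1 : P t d * (A * d * P t M) ≤ P t d * (B * q ^ (2 * n - 3)) := by
    calc P t d * (A * d * P t M) = A * d * (P t d * P t M) := by ring
      _ = A * d * P t N := by rw [hP]
      _ ≤ _ := H
      _ = _ := by ring
  have h2 := Nat.le_of_mul_le_mul_left h1 (P_pos ht)
  have h3 : (A * d) * (P t M * q ^ ((n - 1) ^ 2 + 1)) ≤ (A * d) * M := by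
    calc (A * d) * (P t M * q ^ ((n - 1) ^ 2 + 1)) = (A * d * P t M) * q ^ ((n - 1) ^ 2 + 1) := by ring
      _ ≤ (B * q ^ (2 * n - 3)) * q ^ ((n - 1) ^ 2 + 1) := Nat.mul_le_mul_right _ h2
      _ = B * q ^ ((n - 1) ^ 2 + 1 + (2 * n - 3)) := by rw [pow_add]; ring
      _ = (B * q ^ E) * q ^ K := by rw [← hE, pow_add]; ring
      _ ≤ (A * N) * q ^ K := Nat.mul_le_mul_right _ hlow
      _ = A * (q ^ K * N) := by ring
      _ = (A * d) * M := by rw [← hM]; ring
  exact Nat.le_of_mul_le_mul_left h3 (Nat.mul_pos hA (Nat.pos_of_ne_zero hd))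

/-- `d ∣ s`: `d * s_t ≤ s * d_t` -/
theorem dpart {t d s : ℕ} (hs : s ≠ 0) (h : d ∣ s) : d * P t s ≤ s * P t d := by
  obtain ⟨c, rfl⟩ := h
  have hd : d ≠ 0 := left_ne_zero_of_mul hs
  have hc : c ≠ 0 := right_ne_zero_of_mul hs
  rw [P_mul hd hc]
  calc d * (P t d * P t c) = (d * P t d) * P t c := by ring
    _ ≤ (d * P t d) * c := Nat.mul_le_mul_left _ (P_le hc)
    _ = _ := by ring

theorem natAbs_pow_sub_one_le {q : ℕ} {x : ℤ} (hx : x = q ∨ x = -(q : ℤ)) (e : ℕ) :
    (x ^ e - 1).natAbs ≤ q ^ e + 1 := by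
  have h5 := Int.natAbs_sub_le (x ^ e) 1
  have h6 : (x ^ e).natAbs = q ^ e := by
    rw [Int.natAbs_pow]
    congr 1
    rcases hx with rfl | rfl <;> simp
  rw [h6] at h5
  simpa using h5

/-- the two cases for `t` odd -/
theorem cases_odd {r q n : ℕ} (hr : r.Prime) (hr2 : r ≠ 2) (hq : 2 ≤ q) (hrq : ¬ r ∣ q) (hn : 1 ≤ n) {x : ℤ}
    (hx : x = q ∨ x = -(q : ℤ)) {N : ℕ} (hN : N * (x - 1).natAbs = (W x n).natAbs) :
    (r ∣ (x - 1).natAbs ∧ P r N = (P r (x - 1).natAbs) ^ (n - 1) * r ^ padicValNat r n.factorial ∧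
      (r ^ padicValNat r n.factorial) ^ 2 ≤ 3 ^ (n - 1)) ∨
    (¬ r ∣ (x - 1).natAbs ∧ ∃ e a G f : ℕ, 2 ≤ e ∧ a * e ≤ n ∧ P r N = G ^ a * f ∧ f ^ 2 ≤ 3 ^ (a - 1) ∧
      G * (x - 1).natAbs ≤ (x ^ e - 1).natAbs) := by
  have hxa : |x| = q := abs_eq_cases hx
  have hx2 : 2 ≤ |x| := by rw [hxa]; exact_mod_cast hq
  have hrx : ¬ (r : ℤ) ∣ x := by
    rcases hx with rfl | rfl
    · exact not_dvd_cast hrq
    · intro h; exact not_dvd_cast hrq ((dvd_neg).1 h)
  have hW0 : (W x n).natAbs ≠ 0 := Int.natAbs_ne_zero.2 (W_ne_zero hx2 n)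
  have hN0 : N ≠ 0 := by rintro rfl; rw [zero_mul] at hN; exact hW0 hN.symm
  have hy0 : (x - 1).natAbs ≠ 0 := by intro h; rw [h, mul_zero] at hN; exact hW0 hN.symm
  have hP : P r N * P r (x - 1).natAbs = P r (W x n).natAbs := by rw [← P_mul hN0 hy0, hN]
  have he := order_pos (q := q) hr hrx
  have hr3 : 3 ≤ r := by have := hr.two_le; omega
  set e := orderOf (x : ZMod r) with hedef
  by_cases h : r ∣ (x - 1).natAbs
  · left
    refine ⟨h, ?_, pow_val_factorial_le hr hr3 (by omega)⟩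
    have h1 : (r : ℤ) ∣ x ^ 1 - 1 := by rw [pow_one]; exact Int.natCast_dvd.2 h
    have h2 : e ∣ 1 := (dvd_pow_sub_one_iff 1).1 h1
    have h3 : e = 1 := Nat.dvd_one.1 h2
    have h4 := PW_odd hr hr2 hx2 hrx n
    rw [← hedef, h3, Nat.div_one, pow_one] at h4
    rw [h4] at hP
    have h5 : (P r (x - 1).natAbs) ^ n = (P r (x - 1).natAbs) ^ (n - 1) * P r (x - 1).natAbs := by
      rw [← pow_succ]; congr 1; omega
    rw [h5] at hP
    have h6 : 0 < P r (x - 1).natAbs := P_pos hr
    apply Nat.eq_of_mul_eq_mul_right h6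
    rw [hP]; ring
  · right
    refine ⟨h, e, n / e, P r (x ^ e - 1).natAbs, r ^ padicValNat r (n / e).factorial, ?_, Nat.div_mul_le_self n e, ?_,
      ?_, ?_⟩
    · by_contra hcon
      have h3 : e = 1 := by omega
      have h1 : (r : ℤ) ∣ x ^ 1 - 1 := (dvd_pow_sub_one_iff 1).2 (by rw [← hedef, h3])
      rw [pow_one] at h1
      exact h (Int.natCast_dvd.1 h1)
    · rw [P_eq_one h, mul_one] at hP
      rw [hP, PW_odd hr hr2 hx2 hrx]
    · rcases Nat.eq_zero_or_pos (n / e) with h0 | h0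
      · rw [h0]; simp
      · exact pow_val_factorial_le hr hr3 (by omega)
    · have hne : (x ^ e - 1).natAbs ≠ 0 := Int.natAbs_ne_zero.2 (pow_sub_one_ne_zero hx2 (by omega))
      have h1 : (x - 1).natAbs ∣ (x ^ e - 1).natAbs := by
        rw [Int.natAbs_dvd_natAbs]
        have := sub_dvd_pow_sub_pow x 1 e
        rwa [one_pow] at this
      have hcop : Nat.Coprime (P r (x ^ e - 1).natAbs) (x - 1).natAbs :=
        Nat.Coprime.pow_left _ ((Nat.Prime.coprime_iff_not_dvd hr).2 h)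
      exact Nat.le_of_dvd (Nat.pos_of_ne_zero hne) (Nat.Coprime.mul_dvd_of_dvd_of_dvd hcop (P_dvd _ _) h1)

/-- `f² ≤ 3^k` gives `f ≤ 2^k` -/
theorem le_two_pow {f k : ℕ} (h : f ^ 2 ≤ 3 ^ k) : f ≤ 2 ^ k := by
  apply le_of_sq_le
  refine h.trans ?_
  rw [← pow_mul, mul_comm, pow_mul]
  exact Nat.pow_le_pow_left (by norm_num) _

end Cfsg.Agent.H365.NumLU
end

-- part: H365/NumL
section
prune_inst 0x300000000000000000010000000000000
set_option linter.all false
open scoped Cfsg.Agent.FastGrp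

/-!
# S3677, the numerics for `PSL_n(q)` (helper365)
-/

set_option autoImplicit false

namespace Cfsg.Agent.H365.NumL

open Finset Cfsg.Agent.H902.Lte Cfsg.Agent.H902.Art Cfsg.Agent.H365.NumLU Cfsg.Agent.H365.PPart

theorem exp_L {n : ℕ} (hn : 4 ≤ n) :
    (∑ i ∈ range (n - 1), (i + 2)) + n * (n - 1) / 2 = (n - 1) ^ 2 + 1 + (2 * n - 3) := by
  have h1 := two_sum (n - 1)
  have h2 := two_mul_half n
  obtain ⟨m, rfl⟩ := Nat.exists_eq_add_of_le' hn
  have h3 : m + 4 - 1 = m + 3 := by omega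
  have h4 : 2 * (m + 4) - 3 = 2 * m + 5 := by omega
  rw [h3] at h1 h2 ⊢
  rw [h4]
  have h5 : 2 * ((∑ i ∈ range (m + 3), (i + 2)) + (m + 4) * (m + 3) / 2) = 2 * ((m + 3) ^ 2 + 1 + (2 * m + 5)) := by
    rw [mul_add, h1, mul_comm 2 ((m + 4) * (m + 3) / 2), h2]; ring
  omega

/-- `t = 2`: the numerical core -/
theorem core_two {q u v k : ℕ} (hq : 3 ≤ q) (huv : (u = 2 ∧ v ≤ q + 1 ∧ q % 4 = 3) ∨ (v = 2 ∧ u ≤ q - 1 ∧ q % 4 = 1))
    (hk : 1 ≤ k) (hq3 : q = 3 → 2 ≤ k) :
    6 * ((q - 1) * v) * (2 * (u ^ 2 * v)) ^ k ≤ 5 * q * (q ^ 4) ^ k := by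
  rcases huv with ⟨rfl, hv, hm⟩ | ⟨rfl, hu, hm⟩
  · rcases Nat.lt_or_ge q 7 with hq7 | hq7
    · have h3 : q = 3 := by omega
      subst h3
      have hk2 := hq3 rfl
      obtain ⟨j, rfl⟩ := Nat.exists_eq_add_of_le' hk2
      have h1 : 2 * (2 ^ 2 * v) ≤ 32 := by omega
      calc 6 * ((3 - 1) * v) * (2 * (2 ^ 2 * v)) ^ (j + 2) ≤ 48 * 32 ^ (j + 2) :=
            Nat.mul_le_mul (by omega) (Nat.pow_le_pow_left h1 _)
        _ = 49152 * 32 ^ j := by ring
        _ ≤ 98415 * 81 ^ j := Nat.mul_le_mul (by norm_num) (Nat.pow_le_pow_left (by norm_num) _)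
        _ = 5 * 3 * (3 ^ 4) ^ (j + 2) := by ring
    · obtain ⟨j, rfl⟩ := Nat.exists_eq_add_of_le' hk
      have h1 : 2 * (2 ^ 2 * v) ≤ 8 * (q + 1) := by omega
      have h2 : 8 * (q + 1) ≤ q ^ 4 := by
        have : q ^ 4 = q * (q * (q * q)) := by ring
        rw [this]
        nlinarith only [hq, Nat.mul_le_mul hq7 hq7]
      have h3 : 6 * ((q - 1) * v) * (2 * (2 ^ 2 * v)) ≤ 5 * q * q ^ 4 := by
        calc 6 * ((q - 1) * v) * (2 * (2 ^ 2 * v)) ≤ 6 * (q * (q + 1)) * (8 * (q + 1)) :=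
              Nat.mul_le_mul (Nat.mul_le_mul_left _ (Nat.mul_le_mul (by omega) hv)) h1
          _ = q * (48 * (q + 1) ^ 2) := by ring
          _ ≤ q * (5 * q ^ 4) := by
              apply Nat.mul_le_mul_left
              have h4 : 7 * (q + 1) ≤ 8 * q := by omega
              have h5 : 49 * (q + 1) ^ 2 ≤ 64 * q ^ 2 := by nlinarith only [hq7]
              have h6 : 49 * q ^ 2 ≤ q ^ 4 := by
                have : q ^ 4 = q ^ 2 * q ^ 2 := by ring
                rw [this]
                exact Nat.mul_le_mul_right _ (by linarith only [hq7, h5])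
              (clear * - h5 h6; omega)
          _ = _ := by ring
      calc 6 * ((q - 1) * v) * (2 * (2 ^ 2 * v)) ^ (j + 1) = (6 * ((q - 1) * v) * (2 * (2 ^ 2 * v))) * (2 * (2 ^ 2 * v)) ^ j := by
            rw [pow_succ]; ring
        _ ≤ (5 * q * q ^ 4) * (q ^ 4) ^ j := Nat.mul_le_mul h3 (Nat.pow_le_pow_left (h1.trans h2) _)
        _ = _ := by rw [pow_succ (q ^ 4) j]; ring
  · obtain ⟨j, rfl⟩ := Nat.exists_eq_add_of_le' hk
    have hq5 : 5 ≤ q := by omega
    have h1 : 2 * (u ^ 2 * 2) ≤ 4 * q ^ 2 := by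
      have : u ^ 2 ≤ q ^ 2 := Nat.pow_le_pow_left (by omega) 2
      omega
    have h2 : 4 * q ^ 2 ≤ q ^ 4 := by
      have : q ^ 4 = q ^ 2 * q ^ 2 := by ring
      rw [this]
      exact Nat.mul_le_mul_right _ (by nlinarith only [hq5])
    have h3 : 6 * ((q - 1) * 2) * (2 * (u ^ 2 * 2)) ≤ 5 * q * q ^ 4 := by
      calc 6 * ((q - 1) * 2) * (2 * (u ^ 2 * 2)) ≤ 6 * (q * 2) * (4 * q ^ 2) :=
            Nat.mul_le_mul (Nat.mul_le_mul_left _ (Nat.mul_le_mul_right _ (by omega))) h1
        _ = q * (48 * q ^ 2) := by ring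
        _ ≤ q * (5 * q ^ 4) := by
            apply Nat.mul_le_mul_left
            have h6 : 25 * q ^ 2 ≤ q ^ 4 := by
              have : q ^ 4 = q ^ 2 * q ^ 2 := by ring
              rw [this]
              exact Nat.mul_le_mul_right _ (by nlinarith only [hq5])
            omega
        _ = _ := by ring
    calc 6 * ((q - 1) * 2) * (2 * (u ^ 2 * 2)) ^ (j + 1) = (6 * ((q - 1) * 2) * (2 * (u ^ 2 * 2))) * (2 * (u ^ 2 * 2)) ^ j := by
          rw [pow_succ]; ring
      _ ≤ (5 * q * q ^ 4) * (q ^ 4) ^ j := Nat.mul_le_mul h3 (Nat.pow_le_pow_left (h1.trans h2) _)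
      _ = _ := by rw [pow_succ (q ^ 4) j]; ring

/-- same, with one more factor `u` -/
theorem core_two' {q u v k : ℕ} (hq : 3 ≤ q) (huv : (u = 2 ∧ v ≤ q + 1 ∧ q % 4 = 3) ∨ (v = 2 ∧ u ≤ q - 1 ∧ q % 4 = 1))
    (hk : 1 ≤ k) : 6 * ((q - 1) * v) * (2 * (u ^ 2 * v)) ^ k * u ≤ 5 * q * (q ^ 4) ^ k * q ^ 2 := by
  by_cases h : q = 3 ∧ k = 1
  · obtain ⟨rfl, rfl⟩ := h
    rcases huv with ⟨rfl, hv, hm⟩ | ⟨rfl, hu, hm⟩
    · simp only [pow_one]
      have : v * v ≤ 4 * 4 := Nat.mul_le_mul (by omega) (by omega)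
      linarith only [this]
    · omega
  · have h1 := core_two hq huv hk (by rintro rfl; by_contra h2; exact h ⟨rfl, by omega⟩)
    refine Nat.mul_le_mul h1 ?_
    have : q ≤ q ^ 2 := Nat.le_self_pow (by norm_num) q
    rcases huv with ⟨rfl, hv, hm⟩ | ⟨rfl, hu, hm⟩ <;> omega

theorem uv_cases {q : ℕ} (hq : 3 ≤ q) (hodd : Odd q) :
    (P 2 (q - 1) = 2 ∧ P 2 (q + 1) ≤ q + 1 ∧ q % 4 = 3) ∨ (P 2 (q + 1) = 2 ∧ P 2 (q - 1) ≤ q - 1 ∧ q % 4 = 1) := by
  rcases two_cases (show 2 ≤ q by omega) hodd with ⟨h, h1⟩ | ⟨h, h1⟩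
  · exact Or.inl ⟨h, P_le (by omega), h1⟩
  · exact Or.inr ⟨h, P_le (by omega), h1⟩

theorem P_sq {q : ℕ} (hq : 3 ≤ q) : P 2 (q ^ 2 - 1) = P 2 (q - 1) * P 2 (q + 1) := pt_two_sq (by omega)

/-- `t = 2` -/
theorem L_two {q n N d : ℕ} (hq : 3 ≤ q) (hn : 4 ≤ n) (hodd : Odd q) (h43 : ¬ (n = 4 ∧ q = 3)) (hd : d ∣ q - 1)
    (hN : N * ((q : ℤ) - 1).natAbs = (W (q : ℤ) n).natAbs) :
    6 * d * P 2 N ≤ 5 * q ^ (2 * n - 3) * P 2 d := by
  have hx1 : ((q : ℤ) - 1).natAbs = q - 1 := by omega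
  have h1 := PLU_two hq hodd (by omega) (Or.inl rfl) hN
  rw [hx1, P_sq hq] at h1
  have huv := uv_cases hq hodd
  have hdp := dpart (t := 2) (show q - 1 ≠ 0 by omega) hd
  set u := P 2 (q - 1)
  set v := P 2 (q + 1)
  rcases Nat.even_or_odd' n with ⟨h, hh | hh⟩
  · have e1 : (n + 1) / 2 - 1 = h - 1 := by omega
    have e2 : n / 2 + 1 - (n + 1) / 2 = 1 := by omega
    have e3 : n / 2 = h := by omega
    rw [e1, e2, e3, pow_one] at h1
    have hf := pow_val_factorial_two_le (a := h) (by omega)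
    obtain ⟨k, rfl⟩ : ∃ k, h = k + 1 := ⟨h - 1, by (clear * - hn hh e2 e3; omega)⟩
    rw [Nat.add_sub_cancel] at h1 hf
    have hc := core_two (k := k) hq huv (by omega) (by rintro rfl; by_contra h2; exact h43 ⟨by omega, rfl⟩)
    calc 6 * d * P 2 N ≤ 6 * d * ((u * (u * v)) ^ k * (u * v) * 2 ^ k) := by
          rw [h1]
          exact Nat.mul_le_mul_left _ (Nat.mul_le_mul_left _ hf)
      _ = 6 * ((d * u) * v) * (2 * (u ^ 2 * v)) ^ k := by
          rw [show 2 * (u ^ 2 * v) = (u * (u * v)) * 2 by ring, mul_pow (u * (u * v)) 2]; ring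
      _ ≤ 6 * (((q - 1) * P 2 d) * v) * (2 * (u ^ 2 * v)) ^ k :=
          Nat.mul_le_mul_right _ (Nat.mul_le_mul_left _ (Nat.mul_le_mul_right _ hdp))
      _ = (6 * ((q - 1) * v) * (2 * (u ^ 2 * v)) ^ k) * P 2 d := by ring
      _ ≤ (5 * q * (q ^ 4) ^ k) * P 2 d := Nat.mul_le_mul_right _ hc
      _ = 5 * q ^ (2 * n - 3) * P 2 d := by
          rw [show 2 * n - 3 = 1 + 4 * k by (clear * - hh; omega), pow_add, pow_one, pow_mul]; ring
  · have e1 : (n + 1) / 2 - 1 = h := by omega
    have e2 : n / 2 + 1 - (n + 1) / 2 = 0 := by omega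
    have e3 : n / 2 = h := by omega
    rw [e1, e2, e3, pow_zero, mul_one] at h1
    have hf := pow_val_factorial_two_le (a := h) (by omega)
    obtain ⟨k, rfl⟩ : ∃ k, h = k + 1 := ⟨h - 1, by omega⟩
    rw [Nat.add_sub_cancel] at hf
    have hc := core_two' (k := k) hq huv (by omega)
    calc 6 * d * P 2 N ≤ 6 * d * ((u * (u * v)) ^ (k + 1) * 2 ^ k) := by
          rw [h1]
          exact Nat.mul_le_mul_left _ (Nat.mul_le_mul_left _ hf)
      _ = 6 * ((d * u) * v) * (2 * (u ^ 2 * v)) ^ k * u := by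
          rw [show 2 * (u ^ 2 * v) = (u * (u * v)) * 2 by ring, mul_pow (u * (u * v)) 2]; ring
      _ ≤ 6 * (((q - 1) * P 2 d) * v) * (2 * (u ^ 2 * v)) ^ k * u :=
          Nat.mul_le_mul_right _ (Nat.mul_le_mul_right _ (Nat.mul_le_mul_left _ (Nat.mul_le_mul_right _ hdp)))
      _ = (6 * ((q - 1) * v) * (2 * (u ^ 2 * v)) ^ k * u) * P 2 d := by ring
      _ ≤ (5 * q * (q ^ 4) ^ k * q ^ 2) * P 2 d := Nat.mul_le_mul_right _ hc
      _ = 5 * q ^ (2 * n - 3) * P 2 d := by
          rw [show 2 * n - 3 = 1 + 4 * k + 2 by (clear * - hh; omega), pow_add, pow_add, pow_one, pow_mul]; ring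

/-- `t` odd, `q ≥ 3` -/
theorem L_odd {t q n N d : ℕ} (ht : t.Prime) (ht2 : t ≠ 2) (hq : 3 ≤ q) (hn : 4 ≤ n) (htq : ¬ t ∣ q) (hd : d ∣ q - 1)
    (hN : N * ((q : ℤ) - 1).natAbs = (W (q : ℤ) n).natAbs) :
    6 * d * P t N ≤ 5 * q ^ (2 * n - 3) * P t d := by
  have hx1 : ((q : ℤ) - 1).natAbs = q - 1 := by omega
  have hdq : d ≤ q - 1 := Nat.le_of_dvd (by omega) hd
  have hPd : 1 ≤ P t d := P_pos ht
  rcases cases_odd ht ht2 (by omega) htq (by omega) (Or.inl rfl) hN with ⟨h, h1, h2⟩ | ⟨h, e, a, G, f, he, hae, h1, h2, h3⟩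
  · rw [hx1] at h h1
    have hdp := dpart (t := t) (show q - 1 ≠ 0 by omega) hd
    have hq4 : 4 ≤ q := by
      have := Nat.le_of_dvd (by omega) h
      have := ht.two_le
      omega
    have hu : P t (q - 1) ≤ q - 1 := P_le (by omega)
    have hf := le_two_pow h2
    rw [h1]
    set u := P t (q - 1)
    set f := t ^ padicValNat t n.factorial
    obtain ⟨m, rfl⟩ : ∃ m, n = m + 2 := ⟨n - 2, by omega⟩
    have e1 : m + 2 - 1 = m + 1 := by omega
    have e2 : 2 * (m + 2) - 3 = m + (m + 1) := by omega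
    rw [e1] at hf ⊢
    rw [e2]
    calc 6 * d * (u ^ (m + 1) * f) = 6 * (d * u) * (u ^ m * f) := by ring
      _ ≤ 6 * ((q - 1) * P t d) * (q ^ m * 2 ^ (m + 1)) :=
          Nat.mul_le_mul (Nat.mul_le_mul_left _ hdp)
            (Nat.mul_le_mul (Nat.pow_le_pow_left (by omega) _) hf)
      _ ≤ 6 * (q * P t d) * (q ^ m * 2 ^ (m + 1)) :=
          Nat.mul_le_mul_right _ (Nat.mul_le_mul_left _ (Nat.mul_le_mul_right _ (by omega)))
      _ = (q ^ (m + 1) * P t d) * (12 * 2 ^ m) := by ring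
      _ ≤ (q ^ (m + 1) * P t d) * (5 * q ^ m) := by
          apply Nat.mul_le_mul_left
          obtain ⟨j, rfl⟩ : ∃ j, m = j + 2 := ⟨m - 2, by omega⟩
          calc 12 * 2 ^ (j + 2) = 48 * 2 ^ j := by ring
            _ ≤ 80 * 4 ^ j := Nat.mul_le_mul (by norm_num) (Nat.pow_le_pow_left (by norm_num) _)
            _ = 5 * 4 ^ (j + 2) := by ring
            _ ≤ 5 * q ^ (j + 2) := Nat.mul_le_mul_left _ (Nat.pow_le_pow_left hq4 _)
      _ = _ := by rw [pow_add]; ring
  · rw [hx1] at h h3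
    have h4 : ((q : ℤ) ^ e - 1).natAbs = q ^ e - 1 := by
      have h8 : (q : ℤ) ^ e - 1 = ((q ^ e - 1 : ℕ) : ℤ) := by
        rw [Nat.cast_sub (Nat.one_le_pow _ _ (by omega))]; push_cast; rfl
      rw [h8, Int.natAbs_natCast]
    rw [h4] at h3
    have h5 : (q - 1) * P t N ≤ q ^ n * 1 := by
      rw [mul_one, h1]
      rcases Nat.eq_zero_or_pos a with rfl | ha
      · have hf : f ≤ 1 := by
          have h6 : f ^ 2 ≤ 1 ^ 2 := by simpa only [_root_.one_pow, _root_.ne_eq, _root_.OfNat.ofNat_ne_zero, _root_.not_false_eq_true, _root_.Nat.pow_le_one_iff, _root_.zero_tsub, _root_.pow_zero] using h2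
          exact le_of_sq_le h6
        rw [pow_zero, one_mul]
        calc (q - 1) * f ≤ (q - 1) * 1 := Nat.mul_le_mul_left _ hf
          _ ≤ q ^ 1 := by rw [mul_one, pow_one]; omega
          _ ≤ q ^ n := Nat.pow_le_pow_right (by omega) (by omega)
      · have hf : f ≤ (q - 1) ^ (a - 1) := by
          apply le_of_sq_le
          refine h2.trans ?_
          rw [← pow_mul, mul_comm, pow_mul]
          apply Nat.pow_le_pow_left
          have : 2 ^ 2 ≤ (q - 1) ^ 2 := Nat.pow_le_pow_left (by omega) 2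
          omega
        obtain ⟨b, rfl⟩ : ∃ b, a = b + 1 := ⟨a - 1, by omega⟩
        rw [Nat.add_sub_cancel] at hf
        calc (q - 1) * (G ^ (b + 1) * f) ≤ (q - 1) * (G ^ (b + 1) * (q - 1) ^ b) :=
              Nat.mul_le_mul_left _ (Nat.mul_le_mul_left _ hf)
          _ = (G * (q - 1)) ^ (b + 1) := by rw [mul_pow]; ring
          _ ≤ (q ^ e) ^ (b + 1) := Nat.pow_le_pow_left (by omega) _
          _ = q ^ ((b + 1) * e) := by rw [← pow_mul, mul_comm]
          _ ≤ q ^ n := Nat.pow_le_pow_right (by omega) hae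
    calc 6 * d * P t N ≤ 6 * ((q - 1) * P t N) := by
          rw [mul_assoc]; exact Nat.mul_le_mul_left _ (Nat.mul_le_mul_right _ hdq)
      _ ≤ 6 * (q ^ n * 1) := Nat.mul_le_mul_left _ h5
      _ ≤ 5 * (q ^ n * q) := by nlinarith only [hq, Nat.one_le_pow n q (by omega)]
      _ = 5 * q ^ (n + 1) * 1 := by ring
      _ ≤ 5 * q ^ (2 * n - 3) * P t d :=
          Nat.mul_le_mul (Nat.mul_le_mul_left _ (Nat.pow_le_pow_right (by omega) (by omega))) hPd

/-- `q = 2` -/
theorem L_base {t n N : ℕ} (ht : t.Prime) (ht2 : t ≠ 2) (hn : 4 ≤ n)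
    (hN : N * (((2 : ℕ) : ℤ) - 1).natAbs = (W ((2 : ℕ) : ℤ) n).natAbs) :
    2 * P t N ≤ 2 ^ (2 * n - 3) := by
  have htq : ¬ t ∣ 2 := fun h => ht2 ((Nat.prime_dvd_prime_iff_eq ht Nat.prime_two).1 h)
  have hx1 : (((2 : ℕ) : ℤ) - 1).natAbs = 1 := by norm_num
  rcases cases_odd ht ht2 (le_refl 2) htq (by omega) (Or.inl rfl) hN with ⟨h, h1, h2⟩ | ⟨h, e, a, G, f, he, hae, h1, h2, h3⟩
  · rw [hx1] at h
    exact absurd (Nat.dvd_one.1 h) ht.one_lt.ne'
  · rw [hx1, mul_one] at h3
    have h4 : (((2 : ℕ) : ℤ) ^ e - 1).natAbs = 2 ^ e - 1 := by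
      have h8 : ((2 : ℕ) : ℤ) ^ e - 1 = ((2 ^ e - 1 : ℕ) : ℤ) := by
        rw [Nat.cast_sub (Nat.one_le_pow _ _ (by omega))]; push_cast; rfl
      rw [h8, Int.natAbs_natCast]
    rw [h4] at h3
    have e1 : 2 ^ (2 * n - 3) = 2 * 2 ^ (2 * n - 4) := by
      rw [← pow_succ']; congr 1; omega
    rw [e1]
    apply Nat.mul_le_mul_left
    apply le_of_sq_le
    rw [h1, mul_pow]
    rcases Nat.lt_or_ge a 2 with ha | ha
    · -- `a ≤ 1`
      have hf : f ^ 2 ≤ 1 := by
        have : a - 1 = 0 := by omega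
        rwa [this, pow_zero] at h2
      have hG : G ^ a ≤ 2 ^ n := by
        calc G ^ a ≤ (2 ^ e) ^ a := Nat.pow_le_pow_left (by omega) _
          _ = 2 ^ (a * e) := by rw [← pow_mul, mul_comm]
          _ ≤ 2 ^ n := Nat.pow_le_pow_right (by norm_num) hae
      calc (G ^ a) ^ 2 * f ^ 2 ≤ (2 ^ n) ^ 2 * 1 := Nat.mul_le_mul (Nat.pow_le_pow_left hG _) hf
        _ ≤ (2 ^ (2 * n - 4)) ^ 2 := by
          rw [mul_one]
          exact Nat.pow_le_pow_left (Nat.pow_le_pow_right (by norm_num) (by omega)) _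
    · obtain ⟨b, rfl⟩ := Nat.exists_eq_add_of_le' ha
      have e2 : b + 2 - 1 = b + 1 := by omega
      rw [e2] at h2
      rcases Nat.lt_or_ge e 3 with he3 | he3
      · have : e = 2 := by omega
        subst this
        have hG : G ≤ 3 := by omega
        calc (G ^ (b + 2)) ^ 2 * f ^ 2 ≤ (3 ^ (b + 2)) ^ 2 * 3 ^ (b + 1) :=
              Nat.mul_le_mul (Nat.pow_le_pow_left (Nat.pow_le_pow_left hG _) _) h2
          _ = 243 * 27 ^ b := by
              rw [show (27 : ℕ) = 3 ^ 3 by norm_num, ← pow_mul, ← pow_mul, ← pow_add, show (243 : ℕ) = 3 ^ 5 by norm_num,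
                ← pow_add]
              congr 1; ring
          _ ≤ 256 * 256 ^ b := Nat.mul_le_mul (by norm_num) (Nat.pow_le_pow_left (by norm_num) _)
          _ = 2 ^ (8 + 8 * b) := by rw [pow_add, pow_mul]; norm_num
          _ ≤ (2 ^ (2 * n - 4)) ^ 2 := by
              rw [← pow_mul]
              exact Nat.pow_le_pow_right (by norm_num) (by omega)
      · calc (G ^ (b + 2)) ^ 2 * f ^ 2 ≤ ((2 ^ e) ^ (b + 2)) ^ 2 * 4 ^ (b + 1) :=
              Nat.mul_le_mul (Nat.pow_le_pow_left (Nat.pow_le_pow_left (by omega) _) _)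
                (h2.trans (Nat.pow_le_pow_left (by norm_num) _))
          _ = 2 ^ (2 * ((b + 2) * e) + 2 * (b + 1)) := by
              rw [show (4 : ℕ) = 2 ^ 2 by norm_num, ← pow_mul, ← pow_mul, ← pow_mul, ← pow_add]
              congr 1; ring
          _ ≤ (2 ^ (2 * n - 4)) ^ 2 := by
              rw [← pow_mul]
              apply Nat.pow_le_pow_right (by norm_num)
              have h6 : (b + 2) * 3 ≤ (b + 2) * e := Nat.mul_le_mul_left _ he3
              (clear * - hae h6; omega)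

/-- NUM-L -/
theorem num_psl {q n t M : ℕ} (hq : 2 ≤ q) (hn : 4 ≤ n) (ht : t.Prime) (htq : ¬ t ∣ q) (h43 : ¬ (n = 4 ∧ q = 3))
    (hM : Nat.gcd n (q - 1) * M = q ^ (n * (n - 1) / 2) * ∏ i ∈ Finset.range (n - 1), (q ^ (i + 2) - 1)) :
    t ^ M.factorization t * q ^ ((n - 1) ^ 2 + 1) ≤ M := by
  have hN0 : ∏ i ∈ range (n - 1), (q ^ (i + 2) - 1) ≠ 0 :=
    Finset.prod_ne_zero_iff.2 fun i _ => sub_one_ne hq (by omega)
  have hNW : (∏ i ∈ range (n - 1), (q ^ (i + 2) - 1)) * ((q : ℤ) - 1).natAbs = (W (q : ℤ) n).natAbs := by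
    have h := num_L hq (show 1 ≤ n by omega)
    rw [← h]
    congr 1
    omega
  have hd0 : Nat.gcd n (q - 1) ≠ 0 := (Nat.gcd_pos_of_pos_left _ (by omega)).ne'
  rcases Nat.lt_or_ge q 3 with hq3 | hq3
  · have h2 : q = 2 := by omega
    subst h2
    have ht2 : t ≠ 2 := by rintro rfl; exact htq dvd_rfl
    refine red (A := 2) (B := 1) (le_refl 2) ht htq hd0 hN0 (by norm_num) hM (exp_L hn) ?_ ?_
    · have := low (le_refl 2) (n - 1)
      simpa only [_root_.one_mul, _root_.ge_iff_le, _root_.Nat.add_one_sub_one, _root_.mul_one] using this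
    · have h1 := L_base ht ht2 hn hNW
      have h3 : Nat.gcd n (2 - 1) = 1 := Nat.gcd_one_right n
      have h4 : P t 1 = 1 := P_eq_one (fun h => ht.one_lt.ne' (Nat.dvd_one.1 h))
      rw [h3, h4]
      simpa only [_root_.mul_one, _root_.one_mul, _root_.ge_iff_le] using h1
  · refine red (A := 6) (B := 5) hq ht htq hd0 hN0 (by norm_num) hM (exp_L hn) (low3 hq3 (n - 1)) ?_
    by_cases ht2 : t = 2
    · subst ht2
      have hodd : Odd q := Nat.not_even_iff_odd.1 fun h => htq h.two_dvd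
      exact L_two hq3 hn hodd h43 (Nat.gcd_dvd_right _ _) hNW
    · exact L_odd ht ht2 hq3 hn htq (Nat.gcd_dvd_right _ _) hNW

end Cfsg.Agent.H365.NumL
end

-- part: H365/NumU
section
prune_inst 0x317045407622100800000592932022347c0005b000200001f9200f460b0f732289e2a9404f801c035a4eb28118410028135c00f0424000000e2034000007052198a8160471d50e04ce0097803187180c00000000300000000000000000051004200000000
set_option linter.all false
open scoped Cfsg.Agent.FastGrp

/-!
# S3677, the numerics for `PSU_n(q)` (helper365)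
-/

set_option autoImplicit false

namespace Cfsg.Agent.H365.NumU

open Finset Cfsg.Agent.H902.Lte Cfsg.Agent.H902.Art Cfsg.Agent.H365.NumLU Cfsg.Agent.H365.PPart

/-- the degree bound -/
def B (n q : ℕ) : ℕ :=
  if n = 4 then (q + 1) * (q ^ 3 + 1) else if Odd n then (q ^ n + 1) * (q ^ (n - 1) - 1) / (q ^ 2 - 1)
    else if q = 2 then 2 ^ (n - 1) * (2 ^ n - 1) / 3 else (q ^ n - 1) * (q ^ (n - 1) + 1) / (q ^ 2 - 1)

theorem le_B {q n : ℕ} (hq : 2 ≤ q) (hn : 5 ≤ n) : q ^ (2 * n - 3) ≤ B n q := by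
  obtain ⟨m, rfl⟩ := Nat.exists_eq_add_of_le' hn
  have e1 : m + 5 - 1 = m + 4 := by omega
  have e2 : 2 * (m + 5) - 3 = 2 * m + 7 := by omega
  have hq4 : 2 ^ 2 ≤ q ^ 2 := Nat.pow_le_pow_left hq 2
  have h21 : ((q ^ 2 - 1 : ℕ) : ℤ) = (q : ℤ) ^ 2 - 1 := by rw [Nat.cast_sub (by omega)]; simp
  have hz : (2 : ℤ) ≤ q := by exact_mod_cast hq
  have hQ : (1 : ℤ) ≤ (q : ℤ) ^ m := one_le_pow₀ (by linarith only [hq])
  have h4 : (1 : ℤ) ≤ (q : ℤ) ^ (m + 4) := one_le_pow₀ (by linarith only [hq])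
  have h5 : (1 : ℤ) ≤ (q : ℤ) ^ (m + 5) := one_le_pow₀ (by linarith only [hq])
  unfold B
  rw [if_neg (by omega), e1, e2]
  split_ifs with ho h2
  · rw [Nat.le_div_iff_mul_le (by omega)]
    have h6 : ((q ^ (m + 4) - 1 : ℕ) : ℤ) = (q : ℤ) ^ (m + 4) - 1 := by
      rw [Nat.cast_sub (Nat.one_le_pow _ _ (by omega))]; simp
    have h7 : (q : ℤ) ^ (2 * m + 7) * ((q : ℤ) ^ 2 - 1) ≤ ((q : ℤ) ^ (m + 5) + 1) * ((q : ℤ) ^ (m + 4) - 1) := by
      have h8 : ((q : ℤ) ^ (m + 5) + 1) * ((q : ℤ) ^ (m + 4) - 1) - (q : ℤ) ^ (2 * m + 7) * ((q : ℤ) ^ 2 - 1) =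
          (q : ℤ) ^ (m + 5) * ((q : ℤ) ^ m * (q : ℤ) ^ 2 - 1) + ((q : ℤ) ^ (m + 4) - 1) := by ring
      have h9 : (1 : ℤ) ≤ (q : ℤ) ^ m * (q : ℤ) ^ 2 := by nlinarith only [hq4, hQ]
      have h10 : 0 ≤ (q : ℤ) ^ (m + 5) * ((q : ℤ) ^ m * (q : ℤ) ^ 2 - 1) := mul_nonneg (by linarith only [h5]) (by linarith only [h9])
      linarith only [h4, h8, h10]
    rw [← h21, ← h6] at h7
    exact_mod_cast h7
  · subst h2
    rw [Nat.le_div_iff_mul_le (by norm_num)]
    have h6 : ((2 ^ (m + 5) - 1 : ℕ) : ℤ) = (2 : ℤ) ^ (m + 5) - 1 := by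
      rw [Nat.cast_sub (Nat.one_le_pow _ _ (by omega))]; simp
    have h7 : (2 : ℤ) ^ (2 * m + 7) * 3 ≤ (2 : ℤ) ^ (m + 4) * ((2 : ℤ) ^ (m + 5) - 1) := by
      have h8 : (2 : ℤ) ^ (m + 4) * ((2 : ℤ) ^ (m + 5) - 1) - (2 : ℤ) ^ (2 * m + 7) * 3 =
          (2 : ℤ) ^ (m + 4) * ((2 : ℤ) ^ m * 8 - 1) := by ring
      have hQ2 : (1 : ℤ) ≤ (2 : ℤ) ^ m := one_le_pow₀ (by norm_num)
      have h10 : 0 ≤ (2 : ℤ) ^ (m + 4) * ((2 : ℤ) ^ m * 8 - 1) := mul_nonneg (by positivity) (by linarith only [hQ2])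
      linarith only [h8, h10]
    rw [← h6] at h7
    exact_mod_cast h7
  · rw [Nat.le_div_iff_mul_le (by omega)]
    have h6 : ((q ^ (m + 5) - 1 : ℕ) : ℤ) = (q : ℤ) ^ (m + 5) - 1 := by
      rw [Nat.cast_sub (Nat.one_le_pow _ _ (by omega))]; simp
    have h7 : (q : ℤ) ^ (2 * m + 7) * ((q : ℤ) ^ 2 - 1) ≤ ((q : ℤ) ^ (m + 5) - 1) * ((q : ℤ) ^ (m + 4) + 1) := by
      have h8 : ((q : ℤ) ^ (m + 5) - 1) * ((q : ℤ) ^ (m + 4) + 1) - (q : ℤ) ^ (2 * m + 7) * ((q : ℤ) ^ 2 - 1) =
          ((q : ℤ) ^ (2 * m + 7) - 1) + (q : ℤ) ^ (m + 4) * (q - 1) := by ring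
      have h9 : (1 : ℤ) ≤ (q : ℤ) ^ (2 * m + 7) := one_le_pow₀ (by linarith only [hq])
      have h10 : 0 ≤ (q : ℤ) ^ (m + 4) * (q - 1) := mul_nonneg (by linarith only [h4]) (by linarith only [hq])
      linarith only [h8, h9, h10]
    rw [← h21, ← h6] at h7
    exact_mod_cast h7

theorem pow_four_le_B {q : ℕ} : q ^ 4 ≤ B 4 q := by
  unfold B
  rw [if_pos rfl]
  calc q ^ 4 = q * q ^ 3 := by ring
    _ ≤ _ := Nat.mul_le_mul (by omega) (by omega)

theorem pow_le_B {q n : ℕ} (hq : 2 ≤ q) (hn : 4 ≤ n) : q ^ n ≤ B n q := by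
  rcases Nat.lt_or_ge n 5 with h | h
  · have : n = 4 := by omega
    subst this
    exact pow_four_le_B
  · exact (Nat.pow_le_pow_right (by omega) (by omega)).trans (le_B hq h)

/-- `t` odd, `t ∤ q + 1` -/
theorem U_odd_not {q n e a G f : ℕ} (hq : 2 ≤ q) (he : 2 ≤ e) (hae : a * e ≤ n) (h2 : f ^ 2 ≤ 3 ^ (a - 1))
    (h3 : G * (q + 1) ≤ q ^ e + 1) : G ^ a * f ≤ q ^ n := by
  apply le_of_sq_le
  have h4 : 4 ≤ q ^ e := by
    calc 4 = 2 ^ 2 := by norm_num
      _ ≤ q ^ 2 := Nat.pow_le_pow_left hq 2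
      _ ≤ q ^ e := Nat.pow_le_pow_right (by omega) he
  have h5 : 3 * G ≤ q ^ e + 1 := by nlinarith only [hq, h3]
  have h6 : 3 * G ^ 2 ≤ (q ^ e) ^ 2 := by nlinarith only [h4, h5]
  calc (G ^ a * f) ^ 2 = (G ^ a) ^ 2 * f ^ 2 := by rw [mul_pow]
    _ ≤ (G ^ a) ^ 2 * 3 ^ a := Nat.mul_le_mul_left _ (h2.trans (Nat.pow_le_pow_right (by norm_num) (by omega)))
    _ = (3 * G ^ 2) ^ a := by rw [mul_pow]; ring
    _ ≤ ((q ^ e) ^ 2) ^ a := Nat.pow_le_pow_left h6 _
    _ = (q ^ (a * e)) ^ 2 := by rw [← pow_mul, ← pow_mul, ← pow_mul]; congr 1; ring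
    _ ≤ _ := Nat.pow_le_pow_left (Nat.pow_le_pow_right (by omega) hae) 2

/-- `t` odd, `t ∣ q + 1`, `n ≥ 5` -/
theorem U_odd_dvd {q n u f : ℕ} (hq : 4 ≤ q) (hn : 5 ≤ n) (hu : u ≤ q + 1) (h2 : f ^ 2 ≤ 3 ^ (n - 1)) :
    u ^ (n - 1) * f ≤ q ^ (2 * n - 3) := by
  apply le_of_sq_le
  have h3 : (u ^ (n - 1) * f) ^ 2 ≤ (3 * (q + 1) ^ 2) ^ (n - 1) := by
    calc (u ^ (n - 1) * f) ^ 2 = (u ^ (n - 1)) ^ 2 * f ^ 2 := by rw [mul_pow]
      _ ≤ ((q + 1) ^ (n - 1)) ^ 2 * 3 ^ (n - 1) :=
          Nat.mul_le_mul (Nat.pow_le_pow_left (Nat.pow_le_pow_left hu _) _) h2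
      _ = _ := by rw [mul_pow, ← pow_mul, ← pow_mul, mul_comm (n - 1) 2, mul_comm]
  refine h3.trans ?_
  obtain ⟨m, rfl⟩ := Nat.exists_eq_add_of_le' hn
  have e1 : m + 5 - 1 = m + 4 := by omega
  have e2 : 2 * (m + 5) - 3 = 2 * m + 7 := by omega
  rw [e1, e2]
  rcases Nat.lt_or_ge q 5 with h | h
  · have : q = 4 := by omega
    subst this
    calc (3 * (4 + 1) ^ 2) ^ (m + 4) = 31640625 * 75 ^ m := by norm_num; ring
      _ ≤ 268435456 * 256 ^ m := Nat.mul_le_mul (by norm_num) (Nat.pow_le_pow_left (by norm_num) _)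
      _ = (4 ^ (2 * m + 7)) ^ 2 := by
          rw [← pow_mul, show (2 * m + 7) * 2 = 14 + 4 * m by ring, pow_add, pow_mul]; norm_num
  · have h4 : 3 * (q + 1) ^ 2 ≤ q ^ 3 := by
      have h5 : 5 * (q + 1) ≤ 6 * q := by omega
      have h6 : 25 * (q + 1) ^ 2 ≤ 36 * q ^ 2 := by nlinarith only [h]
      have h7 : 5 * q ^ 2 ≤ q ^ 3 := by
        have : q ^ 3 = q * q ^ 2 := by ring
        rw [this]; exact Nat.mul_le_mul_right _ h
      omega
    calc (3 * (q + 1) ^ 2) ^ (m + 4) ≤ (q ^ 3) ^ (m + 4) := Nat.pow_le_pow_left h4 _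
      _ = q ^ (3 * (m + 4)) := by rw [← pow_mul]
      _ ≤ q ^ ((2 * m + 7) * 2) := Nat.pow_le_pow_right (by omega) (by omega)
      _ = _ := by rw [pow_mul]

/-- `t` odd, `t ∣ q + 1`, `n = 4` -/
theorem U_odd_four {t q u : ℕ} (ht : t.Prime) (ht2 : t ≠ 2) (hq : 2 ≤ q) (h : t ∣ q + 1) (h2 : ¬ (q = 2 ∧ t = 3))
    (hu : u ≤ q + 1) : u ^ 3 * t ^ padicValNat t (Nat.factorial 4) ≤ B 4 q := by
  have hB : B 4 q = (q + 1) * (q ^ 3 + 1) := by unfold B; rw [if_pos rfl]
  rw [hB]
  have hu3 : u ^ 3 ≤ (q + 1) ^ 3 := Nat.pow_le_pow_left hu 3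
  by_cases h3 : t = 3
  · subst h3
    have hv : padicValNat 3 (Nat.factorial 4) = 1 := by
      have h24 : Nat.factorial 4 = 3 * 8 := by decide
      have : Fact (Nat.Prime 3) := ⟨Nat.prime_three⟩
      rw [h24, padicValNat.mul (by norm_num) (by norm_num), padicValNat_self,
        padicValNat.eq_zero_of_not_dvd (by norm_num)]
    rw [hv, pow_one]
    have hq5 : 5 ≤ q := by
      obtain ⟨c, hc⟩ := h
      by_contra hlt
      have : c = 1 := by omega
      subst this
      exact h2 ⟨by omega, rfl⟩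
    have h4 : 3 * (q + 1) ^ 2 ≤ q ^ 3 := by
      have h5 : 5 * (q + 1) ≤ 6 * q := by omega
      have h6 : 25 * (q + 1) ^ 2 ≤ 36 * q ^ 2 := by nlinarith only [hq5]
      have h7 : 5 * q ^ 2 ≤ q ^ 3 := by
        have : q ^ 3 = q * q ^ 2 := by ring
        rw [this]; exact Nat.mul_le_mul_right _ hq5
      omega
    calc u ^ 3 * 3 ≤ (q + 1) ^ 3 * 3 := Nat.mul_le_mul_right _ hu3
      _ = (q + 1) * (3 * (q + 1) ^ 2) := by ring
      _ ≤ _ := Nat.mul_le_mul_left _ (by omega)
  · have hv : padicValNat t (Nat.factorial 4) = 0 := by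
      apply padicValNat.eq_zero_of_not_dvd
      intro h4
      have h5 := (ht.dvd_factorial).1 h4
      have h6 := ht.two_le
      have h7 : t ≠ 4 := by rintro rfl; exact absurd ht (by norm_num)
      omega
    rw [hv, pow_zero, mul_one]
    refine hu3.trans ?_
    calc (q + 1) ^ 3 = (q + 1) * (q + 1) ^ 2 := by ring
      _ ≤ _ := by
        apply Nat.mul_le_mul_left
        have h5 : q ^ 3 = q * (q * q) := by ring
        rw [h5]
        nlinarith only [hq]

theorem uv_cases {q : ℕ} (hq : 3 ≤ q) (hodd : Odd q) :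
    (P 2 (q + 1) = 2 ∧ P 2 (q - 1) ≤ q - 1 ∧ q % 4 = 1) ∨ (P 2 (q - 1) = 2 ∧ P 2 (q + 1) ≤ q + 1 ∧ q % 4 = 3) :=
  (NumL.uv_cases hq hodd).symm

/-- `t = 2`, `n = 2 k + 3` odd -/
theorem core_odd {q u v k : ℕ} (hq : 3 ≤ q) (huv : (u = 2 ∧ v ≤ q - 1 ∧ q % 4 = 1) ∨ (v = 2 ∧ u ≤ q + 1 ∧ q % 4 = 3))
    (hk : 1 ≤ k) : (u * (u * v)) ^ (k + 1) * 2 ^ k ≤ q ^ (4 * k + 3) := by
  obtain ⟨j, rfl⟩ := Nat.exists_eq_add_of_le' hk
  have e0 : (u * (u * v)) ^ (j + 1 + 1) * 2 ^ (j + 1) = ((u * (u * v)) ^ 2 * 2) * (u * (u * v) * 2) ^ j := by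
    rw [mul_pow (u * (u * v)) 2]; ring
  have e1 : q ^ (4 * (j + 1) + 3) = q ^ 7 * (q ^ 4) ^ j := by
    rw [← pow_mul, ← pow_add]; congr 1; ring
  rw [e0, e1]
  rcases huv with ⟨rfl, hv, hm⟩ | ⟨rfl, hu, hm⟩
  · have hq5 : 5 ≤ q := by omega
    have h1 : 2 * (2 * v) ≤ 4 * q := by omega
    have h2 : 4 * q * 2 ≤ q ^ 4 := by
      have : q ^ 4 = q * (q * (q * q)) := by ring
      rw [this]
      nlinarith only [hq, Nat.mul_le_mul hq5 hq5]
    have h3 : (2 * (2 * v)) ^ 2 * 2 ≤ q ^ 7 := by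
      calc (2 * (2 * v)) ^ 2 * 2 ≤ (4 * q) ^ 2 * 2 := Nat.mul_le_mul_right _ (Nat.pow_le_pow_left h1 _)
        _ = 32 * q ^ 2 := by ring
        _ ≤ 5 ^ 5 * q ^ 2 := Nat.mul_le_mul_right _ (by norm_num)
        _ ≤ q ^ 5 * q ^ 2 := Nat.mul_le_mul_right _ (Nat.pow_le_pow_left hq5 _)
        _ = q ^ 7 := by ring
    exact Nat.mul_le_mul h3 (Nat.pow_le_pow_left ((Nat.mul_le_mul_right 2 h1).trans h2) _)
  · rcases Nat.lt_or_ge q 7 with hq7 | hq7
    · have h3 : q = 3 := by omega
      subst h3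
      have h4 : u * (u * 2) ≤ 32 := by
        calc u * (u * 2) ≤ 4 * (4 * 2) := Nat.mul_le_mul hu (Nat.mul_le_mul_right _ hu)
          _ = 32 := by norm_num
      refine Nat.mul_le_mul ?_ (Nat.pow_le_pow_left ?_ _)
      · calc (u * (u * 2)) ^ 2 * 2 ≤ 32 ^ 2 * 2 := Nat.mul_le_mul_right _ (Nat.pow_le_pow_left h4 _)
          _ ≤ 3 ^ 7 := by norm_num
      · calc u * (u * 2) * 2 ≤ 32 * 2 := Nat.mul_le_mul_right _ h4
          _ ≤ 3 ^ 4 := by norm_num
    · have h4 : u * (u * 2) ≤ q ^ 3 := by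
        calc u * (u * 2) ≤ (q + 1) * ((q + 1) * 2) := Nat.mul_le_mul hu (Nat.mul_le_mul_right _ hu)
          _ ≤ q ^ 3 := by
            have : q ^ 3 = q * (q * q) := by ring
            rw [this]; nlinarith only [Nat.mul_le_mul hq7 hq7]
      refine Nat.mul_le_mul ?_ (Nat.pow_le_pow_left ?_ _)
      · calc (u * (u * 2)) ^ 2 * 2 ≤ (q ^ 3) ^ 2 * q := Nat.mul_le_mul (Nat.pow_le_pow_left h4 _) (by omega)
          _ = q ^ 7 := by ring
      · calc u * (u * 2) * 2 ≤ q ^ 3 * q := Nat.mul_le_mul h4 (by omega)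
          _ = q ^ 4 := by ring

/-- `t = 2`, `n = 2 k + 2` even, `k ≥ 2` -/
theorem core_even {q u v k : ℕ} (hq : 3 ≤ q) (huv : (u = 2 ∧ v ≤ q - 1 ∧ q % 4 = 1) ∨ (v = 2 ∧ u ≤ q + 1 ∧ q % 4 = 3))
    (hk : 2 ≤ k) : (u * (u * v)) ^ k * (u * v) * 2 ^ k ≤ 2 * q ^ (4 * k + 1) := by
  obtain ⟨j, rfl⟩ := Nat.exists_eq_add_of_le' hk
  have e0 : (u * (u * v)) ^ (j + 2) * (u * v) * 2 ^ (j + 2) = ((u * (u * v) * 2) ^ 2 * (u * v)) * (u * (u * v) * 2) ^ j := by
    rw [mul_pow (u * (u * v)) 2, mul_pow (u * (u * v)) 2]; ring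
  have e1 : 2 * q ^ (4 * (j + 2) + 1) = (2 * q ^ 9) * (q ^ 4) ^ j := by
    rw [← pow_mul, mul_assoc, ← pow_add]; congr 2; ring
  rw [e0, e1]
  rcases huv with ⟨rfl, hv, hm⟩ | ⟨rfl, hu, hm⟩
  · have hq5 : 5 ≤ q := by omega
    have h1 : 2 * (2 * v) * 2 ≤ 8 * q := by omega
    have h2 : 8 * q ≤ q ^ 4 := by
      have : q ^ 4 = q * (q * (q * q)) := by ring
      rw [this]
      nlinarith only [hq, Nat.mul_le_mul hq5 hq5]
    have h3 : (2 * (2 * v) * 2) ^ 2 * (2 * v) ≤ 2 * q ^ 9 := by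
      calc (2 * (2 * v) * 2) ^ 2 * (2 * v) ≤ (q ^ 4) ^ 2 * (2 * q) :=
            Nat.mul_le_mul (Nat.pow_le_pow_left (h1.trans h2) _) (by omega)
        _ = 2 * q ^ 9 := by ring
    exact Nat.mul_le_mul h3 (Nat.pow_le_pow_left (h1.trans h2) _)
  · rcases Nat.lt_or_ge q 7 with hq7 | hq7
    · have h3 : q = 3 := by omega
      subst h3
      have h4 : u * (u * 2) * 2 ≤ 64 := by
        calc u * (u * 2) * 2 ≤ 4 * (4 * 2) * 2 := Nat.mul_le_mul_right _ (Nat.mul_le_mul hu (Nat.mul_le_mul_right _ hu))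
          _ = 64 := by norm_num
      refine Nat.mul_le_mul ?_ (Nat.pow_le_pow_left (h4.trans (by norm_num)) _)
      calc (u * (u * 2) * 2) ^ 2 * (u * 2) ≤ 64 ^ 2 * 8 := Nat.mul_le_mul (Nat.pow_le_pow_left h4 _) (by omega)
        _ ≤ 2 * 3 ^ 9 := by norm_num
    · have h4 : u * (u * 2) * 2 ≤ q ^ 3 := by
        calc u * (u * 2) * 2 ≤ (q + 1) * ((q + 1) * 2) * 2 :=
              Nat.mul_le_mul_right _ (Nat.mul_le_mul hu (Nat.mul_le_mul_right _ hu))
          _ ≤ q ^ 3 := by
            have h5 : 7 * (q + 1) ≤ 8 * q := by omega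
            have h6 : 49 * (q + 1) ^ 2 ≤ 64 * q ^ 2 := by nlinarith only [hq7]
            have h7 : 7 * q ^ 2 ≤ q ^ 3 := by
              have : q ^ 3 = q * q ^ 2 := by ring
              rw [this]; exact Nat.mul_le_mul_right _ hq7
            have h8 : (q + 1) * ((q + 1) * 2) * 2 = 4 * (q + 1) ^ 2 := by ring
            (clear * - h6 h7 h8; omega)
      have h5 : q ^ 3 ≤ q ^ 4 := Nat.pow_le_pow_right (by omega) (by norm_num)
      refine Nat.mul_le_mul ?_ (Nat.pow_le_pow_left (h4.trans h5) _)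
      calc (u * (u * 2) * 2) ^ 2 * (u * 2) ≤ (q ^ 3) ^ 2 * (2 * q * 2) :=
            Nat.mul_le_mul (Nat.pow_le_pow_left h4 _) (by omega)
        _ = 4 * q ^ 7 := by ring
        _ ≤ (2 * q ^ 2) * q ^ 7 := Nat.mul_le_mul_right _ (by nlinarith only [hq7])
        _ = 2 * q ^ 9 := by ring

theorem P_two_even {d : ℕ} (hd : d ≠ 0) (h : 2 ∣ d) : 2 ≤ P 2 d := by
  have h1 : P 2 2 ≤ P 2 d := P_mono Nat.prime_two hd h
  have h2 : P 2 2 = 2 := by
    have := P_pow_self (r := 2) (k := 1) (a := 1) Nat.prime_two (by norm_num)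
    simpa using this
  omega

theorem P_four {d : ℕ} (hd : d ≠ 0) (h : 4 ∣ d) : 4 ≤ P 2 d := by
  have h1 : P 2 4 ≤ P 2 d := P_mono Nat.prime_two hd h
  have h2 : P 2 4 = 4 := by
    have := P_pow_self (r := 2) (k := 2) (a := 1) Nat.prime_two (by norm_num)
    simpa using this
  omega

/-- `t = 2` -/
theorem U_two {q n N M d : ℕ} (hq : 3 ≤ q) (hn : 4 ≤ n) (hodd : Odd q) (h43 : ¬ (n = 4 ∧ q = 3))
    (hd : d = Nat.gcd n (q + 1)) (hP : P 2 d * P 2 M = P 2 N)
    (hN : N * (-(q : ℤ) - 1).natAbs = (W (-(q : ℤ)) n).natAbs) : P 2 M ≤ B n q := by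
  have hx1 : (-(q : ℤ) - 1).natAbs = q + 1 := by omega
  have h1 := PLU_two hq hodd (by omega) (Or.inr rfl) hN
  rw [hx1, NumL.P_sq hq, mul_comm (P 2 (q - 1)) (P 2 (q + 1))] at h1
  have huv := uv_cases hq hodd
  have hd0 : d ≠ 0 := by rw [hd]; exact (Nat.gcd_pos_of_pos_left _ (by omega)).ne'
  have hPd : 1 ≤ P 2 d := P_pos Nat.prime_two
  have hq2 : 2 ∣ q + 1 := (hodd.add_odd odd_one).two_dvd
  set u := P 2 (q + 1)
  set v := P 2 (q - 1)
  rcases Nat.even_or_odd' n with ⟨h, hh | hh⟩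
  · have e1 : (n + 1) / 2 - 1 = h - 1 := by omega
    have e2 : n / 2 + 1 - (n + 1) / 2 = 1 := by omega
    have e3 : n / 2 = h := by omega
    rw [e1, e2, e3, pow_one] at h1
    have hf := pow_val_factorial_two_le (a := h) (by omega)
    obtain ⟨k, rfl⟩ : ∃ k, h = k + 1 := ⟨h - 1, by (clear * - hn hh e2 e3; omega)⟩
    rw [Nat.add_sub_cancel] at h1 hf
    have hPN : P 2 N ≤ (u * (u * v)) ^ k * (u * v) * 2 ^ k := by
      rw [h1]; exact Nat.mul_le_mul_left _ hf
    rcases Nat.lt_or_ge k 2 with hk | hk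
    · -- `n = 4`
      have hk1 : k = 1 := by omega
      subst hk1
      have hn4 : n = 4 := by omega
      subst hn4
      have hB : B 4 q = (q + 1) * (q ^ 3 + 1) := by unfold B; rw [if_pos rfl]
      rw [hB]
      simp only [pow_one] at hPN
      rcases huv with ⟨hu2, hv, hm⟩ | ⟨hv2, hu, hm⟩
      · have h2 : 2 ≤ P 2 d := P_two_even hd0 (by rw [hd]; exact Nat.dvd_gcd (by norm_num) hq2)
        have h3 : 2 * P 2 M ≤ 2 * (8 * v ^ 2) := by
          calc 2 * P 2 M ≤ P 2 d * P 2 M := Nat.mul_le_mul_right _ h2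
            _ = P 2 N := hP
            _ ≤ _ := hPN
            _ = _ := by rw [hu2]; ring
        have h4 := Nat.le_of_mul_le_mul_left h3 (by norm_num)
        refine h4.trans ?_
        have hq5 : 5 ≤ q := by omega
        have h5 : v ^ 2 ≤ q ^ 2 := Nat.pow_le_pow_left (by (clear * - hv; omega)) 2
        calc 8 * v ^ 2 ≤ 8 * q ^ 2 := Nat.mul_le_mul_left _ h5
          _ ≤ q ^ 2 * q ^ 2 := Nat.mul_le_mul_right _ (by nlinarith only [hq5])
          _ = q * q ^ 3 := by ring
          _ ≤ _ := Nat.mul_le_mul (by omega) (by omega)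
      · have h2 : 4 ≤ P 2 d := P_four hd0 (by
          rw [hd]; exact Nat.dvd_gcd dvd_rfl (Nat.dvd_of_mod_eq_zero (by (clear * - hm; omega))))
        have h3 : 4 * P 2 M ≤ 4 * (2 * u ^ 3) := by
          calc 4 * P 2 M ≤ P 2 d * P 2 M := Nat.mul_le_mul_right _ h2
            _ = P 2 N := hP
            _ ≤ _ := hPN
            _ = _ := by rw [hv2]; ring
        have h4 := Nat.le_of_mul_le_mul_left h3 (by norm_num)
        refine h4.trans ?_
        have hq7 : 7 ≤ q := by
          by_contra hlt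
          exact h43 ⟨rfl, by (clear * - hm hlt; omega)⟩
        calc 2 * u ^ 3 ≤ 2 * (q + 1) ^ 3 := Nat.mul_le_mul_left _ (Nat.pow_le_pow_left hu 3)
          _ = (q + 1) * (2 * (q + 1) ^ 2) := by ring
          _ ≤ (q + 1) * (q ^ 3 + 1) := by
            apply Nat.mul_le_mul_left
            have : q ^ 3 = q * (q * q) := by ring
            rw [this]; nlinarith only [Nat.mul_le_mul hq7 hq7]
    · have h2 : 2 ≤ P 2 d := P_two_even hd0 (by rw [hd]; exact Nat.dvd_gcd ⟨k + 1, hh⟩ hq2)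
      have h3 : 2 * P 2 M ≤ 2 * q ^ (4 * k + 1) := by
        calc 2 * P 2 M ≤ P 2 d * P 2 M := Nat.mul_le_mul_right _ h2
          _ = P 2 N := hP
          _ ≤ _ := hPN
          _ ≤ _ := core_even hq huv hk
      have h4 := Nat.le_of_mul_le_mul_left h3 (by norm_num)
      refine h4.trans ?_
      have h5 := le_B (show 2 ≤ q by omega) (show 5 ≤ n by omega)
      rwa [show 2 * n - 3 = 4 * k + 1 by (clear * - hh hk; omega)] at h5
  · have e1 : (n + 1) / 2 - 1 = h := by (clear * - hh; omega)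
    have e2 : n / 2 + 1 - (n + 1) / 2 = 0 := by omega
    have e3 : n / 2 = h := by omega
    rw [e1, e2, e3, pow_zero, mul_one] at h1
    have hf := pow_val_factorial_two_le (a := h) (by omega)
    obtain ⟨k, rfl⟩ : ∃ k, h = k + 1 := ⟨h - 1, by omega⟩
    rw [Nat.add_sub_cancel] at hf
    have hPN : P 2 N ≤ (u * (u * v)) ^ (k + 1) * 2 ^ k := by
      rw [h1]; exact Nat.mul_le_mul_left _ hf
    have h3 : P 2 M ≤ q ^ (4 * k + 3) := by
      calc P 2 M = 1 * P 2 M := (one_mul _).symm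
        _ ≤ P 2 d * P 2 M := Nat.mul_le_mul_right _ hPd
        _ = P 2 N := hP
        _ ≤ _ := hPN
        _ ≤ _ := core_odd hq huv (by omega)
    refine h3.trans ?_
    have h5 := le_B (show 2 ≤ q by omega) (show 5 ≤ n by omega)
    rwa [show 2 * n - 3 = 4 * k + 3 by (clear * - hh; omega)] at h5

/-- `t` odd -/
theorem U_odd {t q n N : ℕ} (ht : t.Prime) (ht2 : t ≠ 2) (hq : 2 ≤ q) (hn : 4 ≤ n) (htq : ¬ t ∣ q)
    (h2 : ¬ (q = 2 ∧ t = 3)) (hN : N * (-(q : ℤ) - 1).natAbs = (W (-(q : ℤ)) n).natAbs) : P t N ≤ B n q := by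
  have hx1 : (-(q : ℤ) - 1).natAbs = q + 1 := by omega
  rcases cases_odd ht ht2 hq htq (by omega) (Or.inr rfl) hN with ⟨h, h1, h3⟩ | ⟨h, e, a, G, f, he, hae, h1, h3, h4⟩
  · rw [hx1] at h h1
    rw [h1]
    have hu : P t (q + 1) ≤ q + 1 := P_le (by omega)
    rcases Nat.lt_or_ge n 5 with h5 | h5
    · have : n = 4 := by omega
      subst this
      exact U_odd_four ht ht2 hq h h2 hu
    · have hq4 : 4 ≤ q := by
        have h6 := ht.two_le
        by_contra hlt
        have h7 : q = 2 ∨ q = 3 := by omega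
        rcases h7 with rfl | rfl
        · exact h2 ⟨rfl, (Nat.prime_dvd_prime_iff_eq ht Nat.prime_three).1 h⟩
        · have h8 : t ∣ 2 ^ 2 := h
          exact ht2 ((Nat.prime_dvd_prime_iff_eq ht Nat.prime_two).1 (ht.dvd_of_dvd_pow h8))
      exact (U_odd_dvd hq4 h5 hu h3).trans (le_B hq h5)
  · rw [h1]
    rw [hx1] at h4
    exact (U_odd_not hq he hae h3 (h4.trans (natAbs_pow_sub_one_le (Or.inr rfl) e))).trans (pow_le_B hq hn)

/-- NUM-U -/
theorem num_psu {q n t M : ℕ} (hq : 2 ≤ q) (hn : 4 ≤ n) (ht : t.Prime) (htq : ¬ t ∣ q)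
    (h43 : ¬ (n = 4 ∧ q = 3 ∧ t = 2)) (h2 : ¬ (q = 2 ∧ t = 3))
    (hM : Nat.gcd n (q + 1) * M =
      q ^ (n * (n - 1) / 2) * ∏ i ∈ Finset.range (n - 1), (if Even i then q ^ (i + 2) - 1 else q ^ (i + 2) + 1)) :
    t ^ M.factorization t ≤
      (if n = 4 then (q + 1) * (q ^ 3 + 1) else if Odd n then (q ^ n + 1) * (q ^ (n - 1) - 1) / (q ^ 2 - 1)
        else if q = 2 then 2 ^ (n - 1) * (2 ^ n - 1) / 3 else (q ^ n - 1) * (q ^ (n - 1) + 1) / (q ^ 2 - 1)) := by
  show P t M ≤ B n q
  have hN0 : ∏ i ∈ range (n - 1), (if Even i then q ^ (i + 2) - 1 else q ^ (i + 2) + 1) ≠ 0 := by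
    refine Finset.prod_ne_zero_iff.2 fun i _ => ?_
    split_ifs
    · exact sub_one_ne hq (by omega)
    · omega
  have hNW : (∏ i ∈ range (n - 1), (if Even i then q ^ (i + 2) - 1 else q ^ (i + 2) + 1)) * (-(q : ℤ) - 1).natAbs =
      (W (-(q : ℤ)) n).natAbs := by
    have h := num_U hq (show 1 ≤ n by omega)
    rw [← h]
    congr 1
    omega
  have hd0 : Nat.gcd n (q + 1) ≠ 0 := (Nat.gcd_pos_of_pos_left _ (by omega)).ne'
  have hM0 : M ≠ 0 := by
    rintro rfl
    rw [mul_zero] at hM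
    exact (mul_ne_zero (pow_ne_zero _ (by omega)) hN0) hM.symm
  set N := ∏ i ∈ range (n - 1), (if Even i then q ^ (i + 2) - 1 else q ^ (i + 2) + 1)
  have hP : P t (Nat.gcd n (q + 1)) * P t M = P t N := by
    rw [← P_mul hd0 hM0, hM, P_mul (pow_ne_zero _ (by omega)) hN0, P_eq_one, one_mul]
    intro h; exact htq (ht.dvd_of_dvd_pow h)
  by_cases ht2 : t = 2
  · subst ht2
    have hodd : Odd q := Nat.not_even_iff_odd.1 fun h => htq h.two_dvd
    have hq3 : 3 ≤ q := by rcases hodd with ⟨k, hk⟩; omega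
    exact U_two hq3 hn hodd (fun h => h43 ⟨h.1, h.2, rfl⟩) rfl hP hNW
  · calc P t M = 1 * P t M := (one_mul _).symm
      _ ≤ P t (Nat.gcd n (q + 1)) * P t M := Nat.mul_le_mul_right _ (P_pos ht)
      _ = P t N := hP
      _ ≤ _ := U_odd ht ht2 hq hn htq h2 hNW

end Cfsg.Agent.H365.NumU
end

-- part: H157/CS/Size
section
set_option linter.all false
open scoped Cfsg.Agent.FastGrp

/-!
# S3677, `PSU_n(q)`: centralizers containing an element of order `r`, `ord_r (-q) = n` (helper157)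

* `shape_IG` : the shape of the order of the group of isometries commuting with `g`;
* `exists_shape` : the order of the centralizer of `x ≠ 1` in `PSU_n(q)`, `r ∣ |C(x)|`, divides a number of this shape;
* `size_psu_top` : `|C(x)| * |C(x)|_p < |PSU_n(q)|`.
-/

set_option autoImplicit false

namespace Cfsg.Agent.H157.CS

open Cfsg Cfsg.Agent.H948.UBase Cfsg.Agent.LieClassical.HermBasic Cfsg.Agent.H157.CS.Num
open Cfsg.Agent.ClassicalGeometry.PSUAutBasic (pr pr_eq_one_iff pr_surjective)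

variable {F : Type*} [Field F] [Fintype F] {n r : ℕ}

theorem shape_IG {q p : ℕ} (hp : p.Prime) (hpq : p ∣ q) (hF : Fintype.card F = q ^ 2) (hn : 2 ≤ n) [hr : Fact r.Prime]
    (ho : orderOf (-(q : ZMod r)) = n) {X g : SU n F q} (hX : orderOf X = r) (hc : Commute X g)
    (hg : g ∉ Subgroup.center (SU n F q)) : Shape p q n (Nat.card ↥(IG (B0 hF n) (aE g))) := by
  have hq1 : 1 ≤ q := by have := two_le hF; omega
  rcases struct hF hn ho hX hc hg with ⟨d, m, hd, rfl, h⟩ | ⟨d, m, hd, rfl, h⟩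
  · rw [h]
    exact shape_gu hp hpq hq1 hd
  · rw [h]
    exact shape_gl hp hpq hq1 hd

/-- a lift of `x` commuting with an element of order `r` -/
theorem exists_rep {q : ℕ} (hF : Fintype.card F = q ^ 2) (hn : 3 ≤ n) [hr : Fact r.Prime]
    (ho : orderOf (-(q : ZMod r)) = n) {x : PSU n F q} (hx : x ≠ 1)
    (hrx : r ∣ Nat.card ↥(Subgroup.centralizer ({x} : Set (PSU n F q)))) :
    ∃ X g : SU n F q, orderOf X = r ∧ Commute X g ∧ g ∉ Subgroup.center (SU n F q) ∧ pr n F q g = x := by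
  obtain ⟨g, rfl⟩ := pr_surjective (n := n) (F := F) (q := q) x
  obtain ⟨y, hy⟩ := exists_prime_orderOf_dvd_card' r hrx
  obtain ⟨X, hX, hc⟩ := exists_lift hF hn ho (g := g) (y := (y : PSU n F q))
    (by rw [← hy]; exact Subgroup.orderOf_coe y) (Subgroup.mem_centralizer_singleton_iff.1 y.2)
  exact ⟨X, g, hX, hc, fun h => hx (pr_eq_one_iff.2 h), rfl⟩

theorem exists_shape {q p : ℕ} (hp : p.Prime) (hpq : p ∣ q) (hF : Fintype.card F = q ^ 2) (hn : 3 ≤ n) (hr : r.Prime)
    (ho : orderOf (-(q : ZMod r)) = n) {x : PSU n F q} (hx : x ≠ 1)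
    (hrx : r ∣ Nat.card ↥(Subgroup.centralizer ({x} : Set (PSU n F q)))) :
    ∃ N, Shape p q n N ∧ Nat.card ↥(Subgroup.centralizer ({x} : Set (PSU n F q))) ∣ N := by
  have := Fact.mk hr
  obtain ⟨X, g, hX, hc, hg, rfl⟩ := exists_rep hF hn ho hx hrx
  exact ⟨_, shape_IG hp hpq hF (by omega) ho hX hc hg, (card_cent_mk_dvd g).trans (card_dvd_IG hF g)⟩

/-- **The size of the centralizers.** -/
theorem size_psu_top {p f : ℕ} (hp : p.Prime) (hf : 1 ≤ f) (hF : Fintype.card F = (p ^ f) ^ 2) (hn : 4 ≤ n)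
    (hr : r.Prime) (ho : orderOf (-((p ^ f : ℕ) : ZMod r)) = n) (x : PSU n F (p ^ f)) (hx : x ≠ 1)
    (hrx : r ∣ Nat.card ↥(Subgroup.centralizer ({x} : Set (PSU n F (p ^ f))))) :
    Nat.card ↥(Subgroup.centralizer ({x} : Set (PSU n F (p ^ f)))) *
      p ^ (Nat.card ↥(Subgroup.centralizer ({x} : Set (PSU n F (p ^ f))))).factorization p <
        Nat.card (PSU n F (p ^ f)) := by
  obtain ⟨N, hN, hd⟩ := exists_shape hp (dvd_pow_self p (by omega)) hF (by omega) hr ho hx hrx
  refine lt_of_le_of_lt (hN.bound hp hf hn hd) ?_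
  exact psu_low (two_le hF) (by omega) (Cfsg.Agent.H277.ClsPsu.card_psu hF (by omega))

end Cfsg.Agent.H157.CS
end

-- part: H429/CS/KLat
section
prune_inst 0x300000000000000000010000000000000
set_option linter.all false
open scoped Cfsg.Agent.FastGrp

-- part: H429/CS/KBase
section
/-!
# The normal subgroups of order prime to a perfect prime (helper429, S3677)

`PP G r m` : `r` is a prime divisor of `|G|`, and the centralizers of the elements of order `r` are nilpotent, of order
dividing `m`.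
-/

set_option autoImplicit false

namespace Cfsg.Agent.H429.CS

open Subgroup Cfsg

universe u

/-- `r` is a perfect prime for `G` -/
structure PP (G : Type u) [Group G] (r m : ℕ) : Prop where
  prime : r.Prime
  dvd : r ∣ Nat.card G
  cent : ∀ y : G, orderOf y = r → Nat.card (centralizer ({y} : Set G)) ∣ m
  nil : ∀ y : G, orderOf y = r → Group.IsNilpotent (centralizer ({y} : Set G))

variable {G : Type u} [Group G] [Finite G] {r m : ℕ}

omit [Finite G] in
theorem centralizer_zpowers (y : G) : centralizer (zpowers y : Set G) = centralizer ({y} : Set G) := by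
  apply le_antisymm
  · exact centralizer_le (by simp)
  · intro x hx
    rw [mem_centralizer_iff]
    rintro _ ⟨k, rfl⟩
    have h1 : Commute y x := mem_centralizer_iff.1 hx y rfl
    exact (h1.zpow_left k).eq

/-- a nontrivial normal `l`-subgroup contains a class -/
theorem index_lt_of_normal (N : Subgroup G) [N.Normal] {x : G} (hx : x ∈ N) :
    (centralizer ({x} : Set G)).index < Nat.card N ∨ x = 1 := by
  by_cases h1 : x = 1
  · exact Or.inr h1
  left
  let f : G ⧸ centralizer ({x} : Set G) → {n : N // n ≠ 1} := fun c =>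
    ⟨⟨c.out * x * c.out⁻¹, (inferInstance : N.Normal).conj_mem x hx _⟩, fun h => h1 (by
      have h2 : c.out * x * c.out⁻¹ = 1 := congrArg Subtype.val h
      have h3 : c.out * x = c.out := by
        have := mul_inv_eq_iff_eq_mul.1 h2
        rwa [one_mul] at this
      exact mul_eq_left.1 h3)⟩
  have hf : Function.Injective f := by
    intro c d hcd
    have h2 : c.out * x * c.out⁻¹ = d.out * x * d.out⁻¹ := congrArg (fun z => ((z : {n : N // n ≠ 1}).1 : G)) hcd
    rw [← Quotient.out_eq' c, ← Quotient.out_eq' d]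
    apply Quotient.sound'
    rw [QuotientGroup.leftRel_apply, mem_centralizer_singleton_iff]
    have h3 : c.out * x = d.out * x * d.out⁻¹ * c.out := mul_inv_eq_iff_eq_mul.1 h2
    have h4 : d.out⁻¹ * (c.out * x) = x * (d.out⁻¹ * c.out) := by rw [h3]; group
    have h5 : (c.out⁻¹ * d.out)⁻¹ * x = x * (c.out⁻¹ * d.out)⁻¹ := by
      rw [mul_inv_rev, inv_inv, mul_assoc, h4]
    have h6 : Commute (c.out⁻¹ * d.out)⁻¹ x := h5
    exact (Commute.inv_left_iff.1 h6).eq
  have h2 : Nat.card (G ⧸ centralizer ({x} : Set G)) ≤ Nat.card {n : N // n ≠ 1} := Nat.card_le_card_of_injective f hf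
  have h3 : Nat.card {n : N // n ≠ 1} = Nat.card N - 1 := by
    classical
    have := Fintype.ofFinite N
    rw [Nat.card_eq_fintype_card, Fintype.card_subtype_compl, Fintype.card_subtype_eq, Nat.card_eq_fintype_card]
  have h4 : 0 < Nat.card N := Nat.card_pos
  rw [Subgroup.index_eq_card]
  omega

/-- `O_l(G) = 1` if the `l`-part is at most the smallest class size -/
theorem eq_bot_of_le {l μ : ℕ} (hl : l.Prime) (hμ : ∀ x : G, x ≠ 1 → μ ≤ (centralizer ({x} : Set G)).index)
    (h : l ^ (Nat.card G).factorization l ≤ μ) (N : Subgroup G) (hN : N.Normal) (hp : IsPGroup l N) : N = ⊥ := by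
  by_contra hne
  obtain ⟨x, hx, hx1⟩ := N.bot_or_exists_ne_one.resolve_left hne
  have := Fact.mk hl
  have h1 := (index_lt_of_normal N hx).resolve_right hx1
  obtain ⟨k, hk⟩ := IsPGroup.iff_card.1 hp
  have h2 : k ≤ (Nat.card G).factorization l := by
    rw [← hl.pow_dvd_iff_le_factorization Nat.card_pos.ne', ← hk]
    exact Subgroup.card_subgroup_dvd_card N
  have h3 : Nat.card N ≤ l ^ (Nat.card G).factorization l := by
    rw [hk]; exact Nat.pow_le_pow_right hl.pos h2
  have h4 := hμ x hx1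
  omega

/-- **Fixed point free action**: a normal `l`-subgroup and a `t`-subgroup normalized by an element of order `r` commute. -/
theorem PP.commute (h : PP G r m) {l t : ℕ} (hl : l.Prime) (ht : t.Prime) (hlt : l ≠ t) (hlm : ¬ l ∣ m) (htm : ¬ t ∣ m)
    (N : Subgroup G) (hN : N.Normal) (hNp : IsPGroup l N) (S : Subgroup G) (hSp : IsPGroup t S) {y : G}
    (hy : orderOf y = r) (hyS : y ∈ normalizer (S : Set G)) : N ≤ centralizer (S : Set G) := by
  have := Fact.mk h.prime
  have := Fact.mk hl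
  have := Fact.mk ht
  obtain ⟨a, ha⟩ := IsPGroup.iff_card.1 hNp
  obtain ⟨b, hb⟩ := IsPGroup.iff_card.1 hSp
  set W : Subgroup G := N ⊔ S with hW
  have hcop : (Nat.card N).Coprime (Nat.card S) := by
    rw [ha, hb]
    exact Nat.Coprime.pow _ _ ((Nat.coprime_primes hl ht).2 hlt)
  have hWc : Nat.card W ∣ Nat.card N * Nat.card S := by
    have h1 : Nat.card (↥(N ⊔ S)) = Nat.card N * N.relIndex S := by
      have h3 := Subgroup.card_mul_index (N.subgroupOf (N ⊔ S))
      have h4 : Nat.card (N.subgroupOf (N ⊔ S)) = Nat.card N :=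
        Nat.card_congr (Subgroup.subgroupOfEquivOfLe le_sup_left).toEquiv
      rw [h4] at h3
      rw [← h3]
      congr 1
      show N.relIndex (N ⊔ S) = _
      rw [sup_comm]
      exact Subgroup.relIndex_sup_right (H := S) (K := N)
    rw [hW, h1]
    exact Nat.mul_dvd_mul_left _ (Subgroup.relIndex_dvd_card N S)
  -- conjugation by `y`
  have hyW : ∀ w, w ∈ W ↔ y * w * y⁻¹ ∈ W := by
    have h1 : y ∈ normalizer (W : Set G) := by
      have h2 : y ∈ normalizer (N : Set G) := by rw [normalizer_eq_top (H := N)]; trivial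
      rw [mem_normalizer_iff] at h2 hyS ⊢
      have key : ∀ z : G, (∀ n, n ∈ N ↔ z * n * z⁻¹ ∈ N) → (∀ n, n ∈ S ↔ z * n * z⁻¹ ∈ S) → ∀ w, w ∈ W → z * w * z⁻¹ ∈ W := by
        intro z hz1 hz2 w hw
        have h3 : W ≤ W.comap (MulAut.conj z).toMonoidHom := by
          rw [hW, sup_le_iff]
          constructor
          · intro n hn
            exact (le_sup_left : N ≤ N ⊔ S) ((hz1 n).1 hn)
          · intro n hn
            exact (le_sup_right : S ≤ N ⊔ S) ((hz2 n).1 hn)
        exact h3 hw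
      have inv : ∀ H : Subgroup G, (∀ n, n ∈ H ↔ y * n * y⁻¹ ∈ H) → ∀ n, n ∈ H ↔ y⁻¹ * n * y⁻¹⁻¹ ∈ H := by
        intro H hH n
        rw [hH (y⁻¹ * n * y⁻¹⁻¹)]
        have : y * (y⁻¹ * n * y⁻¹⁻¹) * y⁻¹ = n := by group
        rw [this]
      intro w
      refine ⟨key y h2 hyS w, fun hw => ?_⟩
      have h4 := key y⁻¹ (inv N h2) (inv S hyS) _ hw
      have : y⁻¹ * (y * w * y⁻¹) * y⁻¹⁻¹ = w := by group
      rwa [this] at h4
    exact mem_normalizer_iff.1 h1
  have hyN : y ∈ normalizer (W : Set G) := mem_normalizer_iff.2 hyW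
  let φ : W ≃* W := W.normalizerMonoidHom ⟨y, hyN⟩
  have hφ : ∀ w : W, ((φ w : W) : G) = y * w * y⁻¹ := fun w => rfl
  have hfix : ∀ w : W, φ w = w → w = 1 := by
    intro w hw
    by_contra hne
    have h1 : y * (w : G) * y⁻¹ = w := by rw [← hφ, hw]
    have h2 : Commute y (w : G) := mul_inv_eq_iff_eq_mul.1 h1
    have h3 : orderOf w ≠ 1 := fun h => hne (orderOf_eq_one_iff.1 h)
    obtain ⟨s, hs, hsd⟩ := Nat.exists_prime_and_dvd h3
    have h4 : s ∣ Nat.card W := hsd.trans (orderOf_dvd_natCard w)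
    have h5 : s = l ∨ s = t := by
      rcases (Nat.Prime.dvd_mul hs).1 (h4.trans hWc) with h6 | h6
      · left
        rw [ha] at h6
        exact (Nat.prime_dvd_prime_iff_eq hs hl).1 (hs.dvd_of_dvd_pow h6)
      · right
        rw [hb] at h6
        exact (Nat.prime_dvd_prime_iff_eq hs ht).1 (hs.dvd_of_dvd_pow h6)
    have h6 : (w : G) ∈ centralizer ({y} : Set G) := by
      rw [mem_centralizer_singleton_iff]; exact h2.symm.eq
    have h7 : s ∣ Nat.card (centralizer ({y} : Set G)) := by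
      have h8 : orderOf (⟨(w : G), h6⟩ : centralizer ({y} : Set G)) = orderOf w := by
        rw [Subgroup.orderOf_mk, Subgroup.orderOf_coe]
      have h9 := orderOf_dvd_natCard (⟨(w : G), h6⟩ : centralizer ({y} : Set G))
      rw [h8] at h9
      exact hsd.trans h9
    have h8 := h7.trans (h.cent y hy)
    rcases h5 with rfl | rfl
    · exact hlm h8
    · exact htm h8
  by_cases hW1 : W = ⊥
  · have hN1 : N = ⊥ := by
      rw [eq_bot_iff, ← hW1]; exact le_sup_left
    rw [hN1]; exact bot_le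
  have hr1 : φ ^ r = 1 := by
    have h1 : (⟨y, hyN⟩ : normalizer (W : Set G)) ^ r = 1 := by
      apply Subtype.ext
      show y ^ r = 1
      rw [← hy]; exact pow_orderOf_eq_one y
    have h2 : (W.normalizerMonoidHom ⟨y, hyN⟩) ^ r = 1 := by rw [← map_pow, h1, map_one]
    exact h2
  have hφ1 : φ ≠ 1 := by
    intro h1
    apply hW1
    rw [eq_bot_iff]
    intro w hw
    have h2 := hfix ⟨w, hw⟩ (by rw [h1]; rfl)
    exact congrArg Subtype.val h2
  have hord : orderOf φ = r := orderOf_eq_prime hr1 hφ1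
  have hnil : Group.IsNilpotent W := Cfsg.Agent.S0033.result φ (fun w hw => hfix w hw) r h.prime hord
  exact Cfsg.Agent.Lib.NilpotentCoprime.le_centralizer_of_coprime hnil le_sup_left le_sup_right hcop

/-- a subgroup containing Sylow subgroups for all primes is everything -/
theorem le_of_parts {F C : Subgroup G} (hCF : C ≤ F)
    (h : ∀ l : ℕ, l.Prime → l ^ (Nat.card F).factorization l ∣ Nat.card C) : F ≤ C := by
  have h1 : Nat.card F ∣ Nat.card C := by
    rw [← Nat.factorization_le_iff_dvd Nat.card_pos.ne' Nat.card_pos.ne']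
    intro l
    by_cases hl : l.Prime
    · exact (hl.pow_dvd_iff_le_factorization Nat.card_pos.ne').1 (h l hl)
    · rw [Nat.factorization_eq_zero_of_not_prime _ hl]
      exact Nat.zero_le _
  have h2 : C = F := Subgroup.eq_of_le_of_card_ge hCF (Nat.le_of_dvd Nat.card_pos h1)
  exact h2.ge

/-- the Sylow subgroups of a normal nilpotent subgroup are normal -/
theorem sylow_normal_of_nilpotent {F : Subgroup G} (hFn : F.Normal) (hF : Group.IsNilpotent F) {l : ℕ} [Fact l.Prime]
    (P : Sylow l F) : ((P : Subgroup F).map F.subtype).Normal := by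
  have h0 := (Group.isNilpotent_of_finite_tfae (G := F)).out 0 3
  have h1 : (P : Subgroup F).Normal := h0.1 hF l inferInstance P
  have h2 : (P : Subgroup F).Characteristic := Sylow.characteristic_of_normal P h1
  exact ConjAct.normal_of_characteristic_of_normal

/-- **A large prime does not divide the order of a normal subgroup of order prime to `r`.** -/
theorem PP.not_dvd' (h : PP G r m) (K : Subgroup G) [K.Normal] (hrK : ¬ r ∣ Nat.card K) (hsol : Group.IsSolvable K)
    {t : ℕ} (ht : t.Prime) (htm : ¬ t ∣ m)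
    (hO : ∀ l : ℕ, l.Prime → (l ∣ m ∨ l = t) → ∀ N : Subgroup G, N.Normal → IsPGroup l N → N = ⊥) :
    ¬ t ∣ Nat.card K := by
  intro htK
  have hr := h.prime
  have := Fact.mk hr
  have := Fact.mk ht
  have hidx : r ^ 1 ∣ K.index := by
    rw [pow_one]
    have h1 : r ∣ Nat.card K * K.index := by rw [Subgroup.card_mul_index]; exact h.dvd
    exact (hr.dvd_mul.1 h1).resolve_left hrK
  obtain ⟨S, Q, hSK, hSp, hScard, hQp, hQd, hQS⟩ := Cfsg.Agent.H363.Frat.exists_normalizing hr ht K hidx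
  rw [pow_one] at hQd
  obtain ⟨y0, hy0⟩ := exists_prime_orderOf_dvd_card' r hQd
  have hy : orderOf (y0 : G) = r := by rw [Subgroup.orderOf_coe]; exact hy0
  have hyS : (y0 : G) ∈ normalizer (S : Set G) := hQS y0.2
  set F : Subgroup G := (fittingSubgroup K).map K.subtype with hFdef
  have hFc : (fittingSubgroup K).Characteristic := Cfsg.Agent.Lib.Cores.fittingSubgroup_characteristic
  have hFn : F.Normal := ConjAct.normal_of_characteristic_of_normal
  have hFnil : Group.IsNilpotent F := by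
    have h1 : Group.IsNilpotent (fittingSubgroup K) := Cfsg.Agent.S0008.result
    exact Group.nilpotent_of_mulEquiv ((fittingSubgroup K).equivMapOfInjective K.subtype K.subtype_injective)
  have hsyl : ∀ {l : ℕ} [Fact l.Prime] (P : Sylow l F), (l ∣ m ∨ l = t) → (P : Subgroup F).map F.subtype = ⊥ := by
    intro l hl P hlm
    exact hO l hl.out hlm _ (sylow_normal_of_nilpotent hFn hFnil P) (P.2.map _)
  have hFS : F ≤ F ⊓ centralizer (S : Set G) := by
    apply le_of_parts inf_le_left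
    intro l hl
    have := Fact.mk hl
    obtain ⟨P⟩ : Nonempty (Sylow l F) := inferInstance
    have hPc : Nat.card ((P : Subgroup F).map F.subtype) = l ^ (Nat.card F).factorization l := by
      rw [Subgroup.card_map_of_injective F.subtype_injective]
      exact P.card_eq_multiplicity
    have hPle : (P : Subgroup F).map F.subtype ≤ F ⊓ centralizer (S : Set G) := by
      refine le_inf (Subgroup.map_subtype_le _) ?_
      by_cases hlm : l ∣ m ∨ l = t
      · rw [hsyl P hlm]; exact bot_le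
      · rw [not_or] at hlm
        exact h.commute hl ht hlm.2 hlm.1 htm _ (sylow_normal_of_nilpotent hFn hFnil P) (P.2.map _) S hSp hy hyS
    rw [← hPc]
    exact Subgroup.card_dvd_of_le hPle
  have hSF : S ≤ F := by
    intro s hs
    have h1 : (⟨s, hSK hs⟩ : K) ∈ centralizer (fittingSubgroup K : Set K) := by
      rw [mem_centralizer_iff]
      intro f hf
      apply Subtype.ext
      have h2 : (f : G) ∈ F := ⟨f, hf, rfl⟩
      have h3 := mem_centralizer_iff.1 (hFS h2).2 s hs
      exact h3.symm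
    have h2 := Cfsg.Agent.S0044.result h1
    exact ⟨_, h2, rfl⟩
  have hSb : S = ⊥ := by
    obtain ⟨P, hP⟩ := (hSp.comap_subtype (K := F) : IsPGroup t (S.subgroupOf F)).exists_le_sylow
    have h1 := hsyl P (Or.inr rfl)
    rw [eq_bot_iff, ← h1]
    intro s hs
    exact ⟨⟨s, hSF hs⟩, hP hs, rfl⟩
  rw [hSb, Subgroup.card_bot] at hScard
  have h1 := ht.factorization_pos_of_dvd Nat.card_pos.ne' htK
  have h2 := Nat.one_lt_pow h1.ne' ht.one_lt
  omega


end Cfsg.Agent.H429.CS
end

-- part: H429/CS/KSec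
section
/-!
# The section of a group with perfect primes (helper429, S3677)

`M` is a number all of whose prime divisors are perfect, `K` the largest normal subgroup of order prime to `M`.  Then `G / K`
has a unique minimal normal subgroup, which is simple.
-/

set_option autoImplicit false

namespace Cfsg.Agent.H429.CS

open Subgroup Cfsg

universe u

variable {G : Type u} [Group G] [Finite G] {r m : ℕ}

/-- conjugation by `y` on a coset fixed by it -/
theorem exists_fixed_in_coset (K : Subgroup G) [K.Normal] (hr : r.Prime) (hrK : ¬ r ∣ Nat.card K) {y : G} (hy : orderOf y = r)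
    {g : G} (hg : (y : G ⧸ K) * (g : G ⧸ K) = (g : G ⧸ K) * (y : G ⧸ K)) :
    ∃ x : G, (x : G ⧸ K) = (g : G ⧸ K) ∧ x ∈ centralizer ({y} : Set G) := by
  have := Fact.mk hr
  let X := {x : G // (x : G ⧸ K) = (g : G ⧸ K)}
  have hcomm : ∀ z : zpowers y, ((z : G) : G ⧸ K) * (g : G ⧸ K) = (g : G ⧸ K) * ((z : G) : G ⧸ K) := by
    rintro ⟨_, k, rfl⟩
    have h1 : Commute (y : G ⧸ K) (g : G ⧸ K) := hg
    have h2 := (h1.zpow_left k).eq
    exact_mod_cast h2
  let act : MulAction (zpowers y) X :=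
    { smul := fun z x => ⟨(z : G) * x.1 * (z : G)⁻¹, by
        have h1 : (((z : G) * x.1 * (z : G)⁻¹ : G) : G ⧸ K) = ((z : G) : G ⧸ K) * (x.1 : G ⧸ K) * ((z : G) : G ⧸ K)⁻¹ := rfl
        rw [h1, x.2, hcomm z, mul_inv_cancel_right]⟩
      one_smul := fun x => Subtype.ext (by
        show ((1 : zpowers y) : G) * x.1 * ((1 : zpowers y) : G)⁻¹ = x.1
        simp)
      mul_smul := fun a b x => Subtype.ext (by
        show ((a * b : zpowers y) : G) * x.1 * ((a * b : zpowers y) : G)⁻¹ =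
          (a : G) * ((b : G) * x.1 * (b : G)⁻¹) * (a : G)⁻¹
        rw [Subgroup.coe_mul]; group) }
  have hcard : Nat.card X = Nat.card K := by
    refine Nat.card_congr ⟨fun x => ⟨g⁻¹ * x.1, QuotientGroup.eq.1 x.2.symm⟩, fun k => ⟨g * k.1, ?_⟩, fun x => ?_, fun k => ?_⟩
    · rw [QuotientGroup.mk_mul, (QuotientGroup.eq_one_iff k.1).2 k.2, mul_one]
    · apply Subtype.ext; show g * (g⁻¹ * x.1) = x.1; group
    · apply Subtype.ext; show g⁻¹ * (g * k.1) = k.1; group
  have hpg : IsPGroup r (zpowers y) := IsPGroup.of_card (n := 1) (by rw [Nat.card_zpowers, hy, pow_one])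
  have hX : Finite X := inferInstance
  obtain ⟨x, hx⟩ := hpg.nonempty_fixed_point_of_prime_not_dvd_card X (by rwa [hcard])
  refine ⟨x.1, x.2, ?_⟩
  have h1 := hx ⟨y, mem_zpowers y⟩
  have h2 : y * x.1 * y⁻¹ = x.1 := congrArg Subtype.val h1
  rw [mem_centralizer_singleton_iff]
  exact (mul_inv_eq_iff_eq_mul.1 h2).symm

/-- the centralizer of `ȳ` is the image of the centralizer of `y` -/
theorem centralizer_quotient (K : Subgroup G) [K.Normal] (hr : r.Prime) (hrK : ¬ r ∣ Nat.card K) {y : G} (hy : orderOf y = r) :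
    centralizer ({(y : G ⧸ K)} : Set (G ⧸ K)) = (centralizer ({y} : Set G)).map (QuotientGroup.mk' K) := by
  apply le_antisymm
  · intro g' hg'
    obtain ⟨g, rfl⟩ := QuotientGroup.mk_surjective g'
    obtain ⟨x, hx, hxc⟩ := exists_fixed_in_coset K hr hrK hy (g := g) (mem_centralizer_singleton_iff.1 hg').symm
    exact ⟨x, hxc, hx⟩
  · rintro _ ⟨x, hx, rfl⟩
    rw [mem_centralizer_singleton_iff]
    have h1 := mem_centralizer_singleton_iff.1 hx
    show ((x : G) : G ⧸ K) * (y : G ⧸ K) = (y : G ⧸ K) * (x : G ⧸ K)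
    rw [← QuotientGroup.mk_mul, h1, QuotientGroup.mk_mul]

/-- the centralizers of the elements of order `r` in the quotient -/
theorem PP.quotient (h : PP G r m) (K : Subgroup G) [K.Normal] (hrK : ¬ r ∣ Nat.card K) : PP (G ⧸ K) r m := by
  have := Fact.mk h.prime
  have key : ∀ z : G ⧸ K, orderOf z = r → ∃ y : G, orderOf y = r ∧ (y : G ⧸ K) = z := by
    intro z hz
    obtain ⟨g, rfl⟩ := QuotientGroup.mk_surjective z
    -- a power of `g`
    have h1 : r ∣ orderOf g := hz ▸ orderOf_map_dvd (QuotientGroup.mk' K) g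
    obtain ⟨a, b, hb, hab⟩ := Nat.exists_eq_pow_mul_and_not_dvd (orderOf_pos g).ne' r h.prime.ne_one
    have ha : a ≠ 0 := by
      rintro rfl
      rw [pow_zero, one_mul] at hab
      exact hb (hab ▸ h1)
    -- `g ^ (b * c)` with `b * c ≡ 1 mod r`
    have hcop : Nat.Coprime b (r ^ a) := (Nat.Coprime.pow_left a ((Nat.Prime.coprime_iff_not_dvd h.prime).2 hb)).symm
    obtain ⟨c, -, hc⟩ := Nat.exists_mul_mod_eq_one_of_coprime hcop (Nat.one_lt_pow ha h.prime.one_lt)
    refine ⟨g ^ (b * c), ?_, ?_⟩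
    · have h2 : (g ^ (b * c)) ^ r ∈ K := by
        rw [← pow_mul]
        have h3 : ((g ^ (b * c * r) : G) : G ⧸ K) = 1 := by
          rw [QuotientGroup.mk_pow, mul_comm, pow_mul, ← hz, pow_orderOf_eq_one, one_pow]
        exact (QuotientGroup.eq_one_iff _).1 h3
      -- its order is a power of `r`
      have h3 : (g ^ (b * c)) ^ (r ^ a) = 1 := by
        rw [← pow_mul, show b * c * r ^ a = (r ^ a * b) * c by ring, pow_mul, ← hab, pow_orderOf_eq_one, one_pow]
      have h4 : ((g ^ (b * c)) ^ r) ^ (r ^ a) = 1 := by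
        rw [← pow_mul, mul_comm r, pow_mul, h3, one_pow]
      have h5 : orderOf ((g ^ (b * c)) ^ r) ∣ Nat.card K := by
        have := orderOf_dvd_natCard (⟨_, h2⟩ : K)
        rwa [Subgroup.orderOf_mk] at this
      have h6 : orderOf ((g ^ (b * c)) ^ r) ∣ r ^ a := orderOf_dvd_of_pow_eq_one h4
      have h7 : (Nat.card K).Coprime (r ^ a) := by
        apply Nat.Coprime.pow_right
        rw [Nat.coprime_comm]
        exact (Nat.Prime.coprime_iff_not_dvd h.prime).2 hrK
      have h8 : orderOf ((g ^ (b * c)) ^ r) = 1 := Nat.eq_one_of_dvd_coprimes h7 h5 h6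
      apply orderOf_eq_prime (orderOf_eq_one_iff.1 h8)
      intro h9
      have h10 : ((g ^ (b * c) : G) : G ⧸ K) = (g : G ⧸ K) := by
        rw [QuotientGroup.mk_pow]
        apply (pow_eq_self_of_mod hz ha hc)
      rw [h9] at h10
      have h11 : (g : G ⧸ K) = 1 := h10.symm
      rw [h11, orderOf_one] at hz
      exact h.prime.one_lt.ne hz
    · rw [QuotientGroup.mk_pow]
      exact pow_eq_self_of_mod hz ha hc
  refine ⟨h.prime, ?_, ?_, ?_⟩
  · have h1 : r ∣ Nat.card K * K.index := by rw [Subgroup.card_mul_index]; exact h.dvd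
    have h2 := (h.prime.dvd_mul.1 h1).resolve_left hrK
    rwa [Subgroup.index_eq_card] at h2
  · intro z hz
    obtain ⟨y, hy, rfl⟩ := key z hz
    rw [centralizer_quotient K h.prime hrK hy]
    exact (Subgroup.card_map_dvd _ _).trans (h.cent y hy)
  · intro z hz
    obtain ⟨y, hy, rfl⟩ := key z hz
    rw [centralizer_quotient K h.prime hrK hy]
    have := h.nil y hy
    exact Group.nilpotent_of_surjective _ ((QuotientGroup.mk' K).subgroupMap_surjective (centralizer ({y} : Set G)))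
where
  pow_eq_self_of_mod {Γ : Type u} [Group Γ] {z : Γ} {r a b c : ℕ} (hz : orderOf z = r) (ha : a ≠ 0)
      (hc : b * c % r ^ a = 1) : z ^ (b * c) = z := by
    have h1 : b * c = r ^ a * (b * c / r ^ a) + 1 := by
      conv_lhs => rw [← Nat.div_add_mod (b * c) (r ^ a), hc]
    obtain ⟨a', rfl⟩ := Nat.exists_eq_succ_of_ne_zero ha
    rw [h1, pow_succ, pow_succ', mul_assoc, pow_mul, ← hz, pow_orderOf_eq_one, one_pow, one_mul]

end Cfsg.Agent.H429.CS
end

-- part: H429/CS/KMain
section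
/-!
# The section of a group with perfect primes: the theorem (helper429, S3677)
-/

set_option autoImplicit false

namespace Cfsg.Agent.H429.CS

open Subgroup Cfsg

universe u

/-- **Semiregular action.** -/
theorem dvd_card_sub_one {Γ : Type u} [Group Γ] [Finite Γ] (N : Subgroup Γ) [hN : N.Normal] {D m : ℕ} (hD : D ∣ Nat.card Γ)
    (hDm : D.Coprime m) (h : ∀ x ∈ N, x ≠ 1 → Nat.card (centralizer ({x} : Set Γ)) ∣ m) : D ∣ Nat.card N - 1 := by
  classical
  let X := {n : N // n ≠ 1}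
  let act : MulAction Γ X :=
    { smul := fun g x => ⟨⟨g * x.1.1 * g⁻¹, hN.conj_mem _ x.1.2 g⟩, fun h1 => x.2 (by
        have h2 : g * x.1.1 * g⁻¹ = 1 := congrArg Subtype.val h1
        apply Subtype.ext
        show x.1.1 = 1
        have h3 : g * x.1.1 = g := by
          have := mul_inv_eq_iff_eq_mul.1 h2
          rwa [one_mul] at this
        exact mul_eq_left.1 h3)⟩
      one_smul := fun x => Subtype.ext (Subtype.ext (by
        show (1 : Γ) * x.1.1 * (1 : Γ)⁻¹ = x.1.1
        simp))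
      mul_smul := fun a b x => Subtype.ext (Subtype.ext (by
        show (a * b) * x.1.1 * (a * b)⁻¹ = a * (b * x.1.1 * b⁻¹) * a⁻¹
        group)) }
  have hstab : ∀ x : X, MulAction.stabilizer Γ x = centralizer ({x.1.1} : Set Γ) := by
    intro x
    ext g
    rw [MulAction.mem_stabilizer_iff, mem_centralizer_singleton_iff]
    constructor
    · intro h1
      have h2 : g * x.1.1 * g⁻¹ = x.1.1 := congrArg (fun z : X => z.1.1) h1
      exact mul_inv_eq_iff_eq_mul.1 h2
    · intro h1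
      apply Subtype.ext
      apply Subtype.ext
      show g * x.1.1 * g⁻¹ = x.1.1
      exact mul_inv_eq_iff_eq_mul.2 h1
  have hfin : Finite X := inferInstance
  have := Fintype.ofFinite X
  have h1 : Nat.card X = Nat.card N - 1 := by
    have := Fintype.ofFinite N
    rw [Nat.card_eq_fintype_card, Fintype.card_subtype_compl, Fintype.card_subtype_eq, Nat.card_eq_fintype_card]
  rw [← h1, Nat.card_congr (MulAction.selfEquivSigmaOrbits Γ X)]
  have hfq : Finite (MulAction.orbitRel.Quotient Γ X) := inferInstance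
  have := Fintype.ofFinite (MulAction.orbitRel.Quotient Γ X)
  rw [Nat.card_sigma]
  apply Finset.dvd_sum
  intro ω _
  rw [Nat.card_coe_set_eq, ← MulAction.index_stabilizer]
  have h2 := (MulAction.stabilizer Γ (Quotient.out ω)).card_mul_index
  have h3 : Nat.card (MulAction.stabilizer Γ (Quotient.out ω)) ∣ m := by
    rw [hstab]
    exact h _ (Quotient.out ω).1.2 (fun h4 => (Quotient.out ω).2 (Subtype.ext h4))
  exact (Nat.Coprime.coprime_dvd_right h3 hDm).dvd_of_dvd_mul_left (h2 ▸ hD)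

theorem nilpotent_of_le {Γ : Type u} [Group Γ] {A B : Subgroup Γ} (hB : Group.IsNilpotent B) (h : A ≤ B) :
    Group.IsNilpotent A := by
  have h1 : Group.IsNilpotent (inclusion h).range := inferInstance
  exact Group.nilpotent_of_mulEquiv (MonoidHom.ofInjective (inclusion_injective h)).symm

/-- the section -/
structure Sec (G : Type u) [Group G] [Finite G] (M : ℕ) (K : Subgroup G) [K.Normal] (H : Subgroup (G ⧸ K)) : Prop where
  normal : H.Normal
  simple : IsSimpleGroup H
  nab : ¬ ∀ a b : H, a * b = b * a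
  coK : (Nat.card K).Coprime M
  coH : ¬ (Nat.card H).Coprime M
  cent : centralizer (H : Set (G ⧸ K)) = ⊥
  card : Nat.card K * (H.index * Nat.card H) = Nat.card G
  out : H.index ∣ Nat.card (Cfsg.Out H)

variable {G : Type u} [Group G] [Finite G] {r m M μ : ℕ}

/-- no abelian minimal normal subgroup -/
theorem not_pGroup {Γ : Type u} [Group Γ] [Finite Γ] (h : PP Γ r m) (N : Subgroup Γ) (hN : N.Normal) (hp : IsPGroup r N)
    (hrN : N ≠ ⊥) : ∃ a, 1 ≤ a ∧ a ≤ (Nat.card Γ).factorization r ∧ ∀ D, D ∣ Nat.card Γ → D.Coprime m → D ∣ r ^ a - 1 := by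
  have := Fact.mk h.prime
  obtain ⟨a, ha⟩ := IsPGroup.iff_card.1 hp
  refine ⟨a, ?_, ?_, ?_⟩
  · by_contra h0
    have : a = 0 := by omega
    rw [this, pow_zero] at ha
    exact hrN (Subgroup.card_eq_one.1 ha)
  · rw [← h.prime.pow_dvd_iff_le_factorization Nat.card_pos.ne', ← ha]
    exact Subgroup.card_subgroup_dvd_card N
  · intro D hD hDm
    rw [← ha]
    refine dvd_card_sub_one N hD hDm fun x hx hx1 => ?_
    -- a power of `x` has order `r`
    have h1 : r ∣ orderOf x := by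
      obtain ⟨b, hb⟩ := IsPGroup.iff_orderOf.1 hp ⟨x, hx⟩
      rw [Subgroup.orderOf_mk] at hb
      rw [hb]
      apply dvd_pow_self
      rintro rfl
      rw [pow_zero] at hb
      exact hx1 (orderOf_eq_one_iff.1 hb)
    obtain ⟨k, hk⟩ := Cfsg.Agent.H364.exists_pow_orderOf x h1
    have h2 : centralizer ({x} : Set Γ) ≤ centralizer ({x ^ k} : Set Γ) := by
      intro z hz
      rw [mem_centralizer_singleton_iff] at hz ⊢
      have h3 : Commute z x := hz
      exact (h3.pow_right k).eq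
    exact (Subgroup.card_dvd_of_le h2).trans (h.cent _ hk)

/-- **The theorem on perfect primes.** -/
theorem exists_sec (hM : 1 < M) (hpp : ∀ r : ℕ, r.Prime → r ∣ M → PP G r m) (K : Subgroup G) [K.Normal]
    (hKc : (Nat.card K).Coprime M) (hKm : ∀ L : Subgroup G, L.Normal → (Nat.card L).Coprime M → L ≤ K)
    (hbig : ∀ r : ℕ, r.Prime → r ∣ M → ∀ a, 1 ≤ a → a ≤ (Nat.card G).factorization r →
      ∃ D, D ∣ Nat.card (G ⧸ K) ∧ D.Coprime m ∧ ¬ D ∣ r ^ a - 1) : ∃ H : Subgroup (G ⧸ K), Sec G M K H := by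
  have hrK : ∀ r : ℕ, r.Prime → r ∣ M → ¬ r ∣ Nat.card K := by
    intro r hr hrM h1
    exact (Nat.Prime.coprime_iff_not_dvd hr).1 (Nat.Coprime.coprime_dvd_left h1 hKc) hrM
  have hpq : ∀ r : ℕ, r.Prime → r ∣ M → PP (G ⧸ K) r m := fun r hr hrM => (hpp r hr hrM).quotient K (hrK r hr hrM)
  obtain ⟨r0, hr0, hr0M⟩ := Nat.exists_prime_and_dvd hM.ne'
  have hfac : ∀ r, (Nat.card (G ⧸ K)).factorization r ≤ (Nat.card G).factorization r := by
    intro r
    have h1 : Nat.card (G ⧸ K) ∣ Nat.card G := Subgroup.card_quotient_dvd_card K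
    exact (Nat.factorization_le_iff_dvd Nat.card_pos.ne' Nat.card_pos.ne').2 h1 r
  -- normal `r`-subgroups of the quotient
  have hno : ∀ r : ℕ, r.Prime → r ∣ M → ∀ N : Subgroup (G ⧸ K), N.Normal → IsPGroup r N → N = ⊥ := by
    intro r hr hrM N hN hp
    by_contra hne
    obtain ⟨a, h1, h2, h3⟩ := not_pGroup (hpq r hr hrM) N hN hp hne
    obtain ⟨D, h4, h5, h6⟩ := hbig r hr hrM a h1 (h2.trans (hfac r))
    exact h6 (h3 D h4 h5)
  -- minimal normal subgroups of the quotient
  have hmins : ∀ N : Subgroup (G ⧸ K), N.Normal → N ≠ ⊥ → ∃ r : ℕ, r.Prime ∧ r ∣ M ∧ r ∣ Nat.card N := by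
    intro N hN hne
    by_contra hcon
    apply hne
    apply Cfsg.Agent.H363.Master.core_quotient hKc hKm N hN
    apply Nat.coprime_of_dvd
    intro r hr h1 h2
    exact hcon ⟨r, hr, h2, h1⟩
  have hsimp : ∀ N : Subgroup (G ⧸ K), N.Normal → N ≠ ⊥ → (∀ L : Subgroup (G ⧸ K), L.Normal → L ≤ N → L = ⊥ ∨ L = N) →
      IsSimpleGroup N ∧ ¬ ∀ a b : N, a * b = b * a := by
    intro N hN hne hmin
    obtain ⟨r, hr, hrM, hrN⟩ := hmins N hN hne
    rcases Cfsg.Agent.H364.minimal_normal_cases2 N hne hmin with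
      ⟨t, ht, hpg⟩ | ⟨k, S, hk, hSN, hS, hSna, hSt, hScard, hScomm, hSsup⟩
    · exfalso
      have := Fact.mk ht
      obtain ⟨a, ha⟩ := IsPGroup.iff_card.1 hpg
      have h1 : r = t := by
        rw [ha] at hrN
        exact (Nat.prime_dvd_prime_iff_eq hr ht).1 (hr.dvd_of_dvd_pow hrN)
      subst h1
      exact hne (hno r hr hrM N hN hpg)
    · have hk1 : k = 1 := by
        by_contra hne1
        have h01 : (⟨0, hk⟩ : Fin k) ≠ ⟨1, by omega⟩ := by
          intro h; simp at h
        have := Fact.mk hr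
        obtain ⟨y, hy⟩ := exists_prime_orderOf_dvd_card' r (hSt r hr hrN ⟨0, hk⟩)
        have hy' : orderOf (y : G ⧸ K) = r := by rw [Subgroup.orderOf_coe]; exact hy
        have h2 : S ⟨1, by omega⟩ ≤ centralizer ({(y : G ⧸ K)} : Set (G ⧸ K)) := by
          intro z hz
          rw [mem_centralizer_singleton_iff]
          exact (hScomm _ _ h01 y y.2 z hz).symm.eq
        have h3 := (hpq r hr hrM).nil y hy'
        have h4 : Group.IsNilpotent (S ⟨1, by omega⟩) :=
          nilpotent_of_le h3 h2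
        have h5 := hS ⟨1, by omega⟩
        have h6 : Group.IsSolvable (S ⟨1, by omega⟩) := inferInstance
        exact hSna _ (fun a b => IsSimpleGroup.comm_iff_isSolvable.2 h6 a b)
      subst hk1
      have hNS : S 0 = N := by
        rw [← hSsup]
        exact (iSup_unique (f := S)).symm
      exact ⟨hNS ▸ hS 0, hNS ▸ hSna 0⟩
  have hnt : Nontrivial (G ⧸ K) := by
    rw [← Finite.one_lt_card_iff_nontrivial]
    exact lt_of_lt_of_le hr0.one_lt (Nat.le_of_dvd Nat.card_pos (hpq r0 hr0 hr0M).dvd)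
  obtain ⟨H, hHn, hH, hHmin⟩ := Cfsg.Agent.H363.Master.exists_minimal_normal (G ⧸ K)
  obtain ⟨hs, hna⟩ := hsimp H hHn hH hHmin
  obtain ⟨r, hr, hrM, hrH⟩ := hmins H hHn hH
  have hcent : centralizer (H : Set (G ⧸ K)) = ⊥ := by
    by_contra hC
    obtain ⟨N, hNn, hNC, hN1, hNmin⟩ :=
      Cfsg.Agent.H364.exists_minimal_normal_le (centralizer (H : Set (G ⧸ K))) inferInstance hC
    obtain ⟨hNs, hNna⟩ := hsimp N hNn hN1 hNmin
    have := Fact.mk hr
    obtain ⟨y, hy⟩ := exists_prime_orderOf_dvd_card' r hrH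
    have hy' : orderOf (y : G ⧸ K) = r := by rw [Subgroup.orderOf_coe]; exact hy
    have h2 : N ≤ centralizer ({(y : G ⧸ K)} : Set (G ⧸ K)) := hNC.trans (centralizer_le (by simp))
    have h4 : Group.IsNilpotent N := nilpotent_of_le ((hpq r hr hrM).nil y hy') h2
    have h6 : Group.IsSolvable N := inferInstance
    exact hNna (fun a b => IsSimpleGroup.comm_iff_isSolvable.2 h6 a b)
  refine ⟨H, hHn, hs, hna, hKc, ?_, hcent, ?_, Cfsg.Agent.H364.index_dvd_out H hna hcent⟩
  · intro h1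
    exact (Nat.Prime.coprime_iff_not_dvd hr).1 (Nat.Coprime.coprime_dvd_left hrH h1) hrM
  · rw [mul_comm H.index, Subgroup.card_mul_index, ← Subgroup.index_eq_card, Subgroup.card_mul_index]

end Cfsg.Agent.H429.CS
end

-- part: H429/CS/KLat
section
/-!
# Perfect primes from the lattices (helper429, S3677)
-/

set_option autoImplicit false

namespace Cfsg.Agent.H429.CS

open Subgroup Cfsg Cfsg.Agent.H431.CS Cfsg.Agent.H364 Cfsg.Agent.H370.AAM

universe u v

variable {S : Type v} [Group S] [Finite S] {G : Type u} [Group G] [Finite G] {p r m M μ : ℕ}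

/-- the structure of helper402 -/
theorem perf_of_lat (h : Lat S p r m) (hr : r.Prime) (hp : p.Prime) (hrp : r ≠ p) (hG : Same G S) :
    Cfsg.Agent.H402.CS.One.Perf G r p m := by
  refine ⟨hr, hp, hrp, hG.card ▸ h.rS, h.toLatW.noEdge hr hp hrp hG, ?_, ?_⟩
  · intro y hy
    exact h.card_cent hr hp hrp hG (hy ▸ dvd_rfl)
  · intro c hc hrc hcm
    by_cases h1 : c = Nat.card S
    · obtain ⟨x, hx⟩ := h.mem
      have h2 : m ∣ Nat.card S := by
        rw [← hx]
        exact Subgroup.card_subgroup_dvd_card _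
      exact Nat.dvd_antisymm hcm (h1 ▸ h2)
    · have h2 : c ∈ Co S := by
        rw [← hG.co]
        exact hc
      exact h.one c h2 h1 hrc (fun h3 => h.pm (h3.trans hcm))

theorem PP.of_lat (h : Lat S p r m) (hr : r.Prime) (hp : p.Prime) (hrp : r ≠ p) (hG : Same G S) : PP G r m := by
  refine ⟨hr, hG.card ▸ h.rS, ?_, ?_⟩
  · intro y hy
    rw [h.card_cent hr hp hrp hG (hy ▸ dvd_rfl)]
  · intro y hy
    exact (perf_of_lat h hr hp hrp hG).nilp hy

/-- the least class size, from the set of centralizer orders -/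
theorem min_of_co (hG : Same G S) (hZ : center G = ⊥) (hμ : ∀ c ∈ Co S, c ≠ Nat.card S → μ * c ≤ Nat.card S) (x : G)
    (hx : x ≠ 1) : μ ≤ (centralizer ({x} : Set G)).index := by
  have h1 : Nat.card (centralizer ({x} : Set G)) ≠ Nat.card S := by
    intro h2
    rw [← hG.card] at h2
    have h3 : centralizer ({x} : Set G) = ⊤ := Subgroup.eq_top_of_card_eq _ h2
    have h4 : x ∈ center G := by
      rw [mem_center_iff]
      intro g
      exact mem_centralizer_singleton_iff.1 (h3 ▸ mem_top g)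
    rw [hZ, mem_bot] at h4
    exact hx h4
  have h2 := hμ _ (hG.mem x) h1
  have h3 := (centralizer ({x} : Set G)).card_mul_index
  rw [← hG.card, ← h3, mul_comm] at h2
  exact Nat.le_of_mul_le_mul_left h2 Nat.card_pos

/-- two coprime centralizer orders: the centre is trivial -/
theorem center_eq_bot (hG : Same G S) (h : ∀ t : ℕ, t.Prime → ∃ c ∈ Co S, ¬ t ∣ c) : center G = ⊥ := by
  by_contra hne
  have h1 : Nat.card (center G) ≠ 1 := fun h => hne (Subgroup.card_eq_one.1 h)
  obtain ⟨t, ht, htZ⟩ := Nat.exists_prime_and_dvd h1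
  obtain ⟨c, hc, htc⟩ := h t ht
  obtain ⟨g, hg⟩ := hG.exists_of_mem hc
  apply htc
  rw [← hg]
  refine htZ.trans (Subgroup.card_dvd_of_le ?_)
  intro z hz
  rw [mem_centralizer_singleton_iff]
  exact (mem_center_iff.1 hz g).symm

/-- a normal subgroup of order prime to the order of an element with nilpotent centralizer is solvable
(`H429.CS.solv_of_known` in `KStep.lean`: follows from `H566.KnownAll`, the classification) -/
def Solv : Prop :=
  ∀ (G : Type u) [Group G] [Finite G] (K : Subgroup G) [K.Normal] (y : G), (Nat.card (zpowers y)).Coprime (Nat.card K) →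
    Group.IsNilpotent (centralizer ({y} : Set G)) → Group.IsSolvable K

omit [Finite S] in
theorem PP.solv (hS : Solv.{u}) (h : PP G r m) (K : Subgroup G) [K.Normal] (hrK : ¬ r ∣ Nat.card K) : Group.IsSolvable K := by
  have := Fact.mk h.prime
  obtain ⟨y, hy⟩ := exists_prime_orderOf_dvd_card' r h.dvd
  refine hS G K y ?_ (h.nil y hy)
  rw [Nat.card_zpowers, hy]
  exact (Nat.Prime.coprime_iff_not_dvd h.prime).2 hrK

/-- **The theorem on perfect primes**, for groups with the order and the class sizes of `S`.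
`m` is the common centralizer order of the elements of order `r`, for all prime divisors `r` of `M`; `μ` is at most the least
class size and at least the `l`-part of `|S|` for all prime divisors `l` of `m`. -/
theorem main (hS : Solv.{u}) (hG : Same G S) (hp : p.Prime) (hM : 1 < M)
    (hlat : ∀ r : ℕ, r.Prime → r ∣ M → r ≠ p ∧ Lat S p r m)
    (hμ : ∀ x : G, x ≠ 1 → μ ≤ (centralizer ({x} : Set G)).index)
    (hl : ∀ l : ℕ, l.Prime → l ∣ m → l ^ (Nat.card S).factorization l ≤ μ)
    (hbig : ∀ N : ℕ, N ∣ Nat.card S → N.Coprime M →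
      (∀ t : ℕ, t.Prime → t ∣ N → t ∣ m ∨ μ < t ^ (Nat.card S).factorization t) →
      ∀ r : ℕ, r.Prime → r ∣ M → ∀ a, 1 ≤ a → a ≤ (Nat.card S).factorization r →
      ∃ D, D ∣ Nat.card S / N ∧ D.Coprime m ∧ ¬ D ∣ r ^ a - 1) :
    ∃ (K : Subgroup G) (_ : K.Normal) (H : Subgroup (G ⧸ K)), Sec G M K H ∧
      (∀ t : ℕ, t.Prime → t ∣ Nat.card K → t ∣ m ∨ μ < t ^ (Nat.card S).factorization t) ∧
      (∀ r : ℕ, r.Prime → r ∣ M → r ^ (Nat.card S).factorization r ∣ p ^ (Nat.card K).factorization p - 1) := by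
  have hpp : ∀ r : ℕ, r.Prime → r ∣ M → PP G r m := fun r hr hrM =>
    PP.of_lat (hlat r hr hrM).2 hr hp (hlat r hr hrM).1 hG
  obtain ⟨K, hKn, hKc, hKm⟩ := Cfsg.Agent.H363.Master.exists_core G M
  obtain ⟨r0, hr0, hr0M⟩ := Nat.exists_prime_and_dvd hM.ne'
  have hrK : ∀ r : ℕ, r.Prime → r ∣ M → ¬ r ∣ Nat.card K := by
    intro r hr hrM h1
    exact (Nat.Prime.coprime_iff_not_dvd hr).1 (Nat.Coprime.coprime_dvd_left h1 hKc) hrM
  have hKt : ∀ t : ℕ, t.Prime → t ∣ Nat.card K → t ∣ m ∨ μ < t ^ (Nat.card S).factorization t := by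
    intro t ht htK
    by_contra hcon
    rw [not_or, not_lt] at hcon
    refine (hpp r0 hr0 hr0M).not_dvd' K (hrK r0 hr0 hr0M) ((hpp r0 hr0 hr0M).solv hS K (hrK r0 hr0 hr0M)) ht hcon.1 ?_ htK
    intro l hlp hlm N hN hNp
    refine eq_bot_of_le hlp hμ ?_ N hN hNp
    rw [hG.card]
    rcases hlm with h1 | rfl
    · exact hl l hlp h1
    · exact hcon.2
  obtain ⟨H, hH⟩ := exists_sec hM hpp K hKc hKm (by
    intro r hr hrM a ha1 ha2
    have h1 := hbig (Nat.card K) (hG.card ▸ Subgroup.card_subgroup_dvd_card K) hKc hKt r hr hrM a ha1 (hG.card ▸ ha2)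
    have h2 : Nat.card (G ⧸ K) = Nat.card S / Nat.card K := by
      rw [← hG.card, ← Subgroup.card_mul_index K, Nat.mul_div_cancel_left _ Nat.card_pos, Subgroup.index_eq_card]
    rwa [h2])
  refine ⟨K, hKn, H, hH, hKt, ?_⟩
  intro r hr hrM
  have h1 := congr_one K hr hp (hlat r hr hrM).1 (hrK r hr hrM) ((hlat r hr hrM).2.toLatW.noEdge hr hp (hlat r hr hrM).1 hG)
  rwa [hG.card] at h1

end Cfsg.Agent.H429.CS
end
end
end
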